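import Cfsg.Agent.Fisch.F23.X
import Cfsg.Agent.Fisch.F23.Tu
import Cfsg.Agent.Fisch.St.Fac

set_option autoImplicit false
set_option maxRecDepth 1000000
set_option maxHeartbeats 0
set_option Elab.async false

namespace CF.Fisch.F23

open CF.Comp CF.Fisch Subgroup
open scoped Pointwise

noncomputable def u2z : List (List Nat) := [[],
  [(nat_lit 54)],
  [(nat_lit 53)],
  [(nat_lit 28), (nat_lit 54)],
  [(nat_lit 35), (nat_lit 53)],
  [(nat_lit 41), (nat_lit 54)],
  [(nat_lit 51), (nat_lit 53)]]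
noncomputable def j1 : List Nat := prw w0 [p1]
noncomputable def j2 : List Nat := prw w0 [p1, p2]
noncomputable def j3 : List Nat := prw w0 [p1, p2, p3]
noncomputable def fw : List (List Nat) := [[(nat_lit 23)],
  [(nat_lit 54), (nat_lit 23), (nat_lit 53)],
  [(nat_lit 53), (nat_lit 23), (nat_lit 54)],
  [(nat_lit 15), (nat_lit 55), (nat_lit 25), (nat_lit 23), (nat_lit 26), (nat_lit 55), (nat_lit 15)],
  [(nat_lit 45), (nat_lit 25), (nat_lit 53), (nat_lit 23), (nat_lit 54), (nat_lit 26), (nat_lit 45)],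
  [(nat_lit 51), (nat_lit 34), (nat_lit 54), (nat_lit 23), (nat_lit 53), (nat_lit 33), (nat_lit 51)],
  [(nat_lit 27), (nat_lit 40), (nat_lit 53), (nat_lit 23), (nat_lit 54), (nat_lit 39), (nat_lit 28)],
  [(nat_lit 30), (nat_lit 44), (nat_lit 53), (nat_lit 23), (nat_lit 54), (nat_lit 43), (nat_lit 29)],
  [(nat_lit 33), (nat_lit 41), (nat_lit 54), (nat_lit 23), (nat_lit 53), (nat_lit 41), (nat_lit 34)]]
noncomputable def fp : List (List Nat) := [[],
  [(nat_lit 54)],
  [(nat_lit 33), (nat_lit 27), (nat_lit 54)],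
  [(nat_lit 53)]]

theorem u2a : fixPts N (rws w0 u2z) [p1, p2] = true := by decide +kernel
theorem u2b : sub (cws N Q (full 31671) u2z) (pws N [p1, p2]) = true := by decide +kernel
theorem nf1 : Nat.beq (nfix N 31671 15 j1) 3511 = true := by decide +kernel
theorem cq1 : cliqOK N Q [p1] (full 31671) = true := by decide +kernel
theorem or1 : ordOK (eq N) 2 j1 = true := by decide +kernel
theorem nf2 : Nat.beq (nfix N 31671 15 j2) 695 = true := by decide +kernel
theorem cq2 : cliqOK N Q [p1, p2] (full 31671) = true := by decide +kernel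
theorem or2 : ordOK (eq N) 2 j2 = true := by decide +kernel
theorem nf3 : Nat.beq (nfix N 31671 15 j3) 183 = true := by decide +kernel
theorem cq3 : cliqOK N Q [p1, p2, p3] (full 31671) = true := by decide +kernel
theorem or3 : ordOK (eq N) 2 j3 = true := by decide +kernel
theorem fac : facOK (eq N) N 31671 15 w0 j3 fw 3 fp 695 (pws N [p1, p2, p3]) = true := by decide +kernel

variable {G : Type*} [Group G] {D : Set G} {E : Dom (Cj G) 31671} {f : ℕ → G} {NN : List Net}

theorem M23.cjD (M : M23 D E f) : ∀ g : G, ∀ d ∈ D, g * d * g⁻¹ ∈ D := fun g _ hd => (M.conj_D g).2 hd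

theorem M23.trn (M : M23 D E f) : Trn D 4 := trn_of fun _ hl h => M.tup hl h

theorem M23.u2 (M : M23 D E f) : U2 D :=
  u2_of (M.trn.mono (by decide)) M.cjD (M.cq cq2) fun _ _ => M.toTM.u2 u2a u2b

theorem M23.fac3 (M : M23 D E f) {l : List G} (hl : Cq D l) (h3 : l.length = 3)
    (hw : l.prod = ([p1, p2, p3].map (cw0 f w0)).prod) {x : G} (hx : x ∈ l) : x ∈ [p1, p2, p3].map (cw0 f w0) :=
  M.mem_pws_map.1 (M.toTM.fac3 M.x.sm (k := 15) (by decide) fac (M.trn.mono (by decide)) (M.mp cq2) nf2 hl h3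
    (hw.trans (ev_prw _).symm) hx)

/-- the standard involutions and their numbers of fixed points -/
noncomputable def xs (f : ℕ → G) (m : ℕ) : G := ev f (nth [] [[], j1, j2, j3] m)

theorem M23.xs_spec (M : M23 D E f) : ∀ m, 1 ≤ m → m ≤ 3 → orderOf (xs f m) = 2 ∧ MP D m (xs f m) ∧
    (perp D (xs f m)).ncard = nth 0 [0, 3511, 695, 183] m ∧ ∀ y, MP D m y → IsConj y (xs f m) := by
  intro m h1 h2
  have t := fun (h : MP D m (xs f m)) (y : G) (hy : MP D m y) => M.trn.isConj (by omega) hy h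
  interval_cases m
  · exact ⟨M.x.sm.ord Nat.prime_two or1, M.mp cq1, M.nfix_eq (k := 15) (by decide) nf1 (IsConj.refl _), t (M.mp cq1)⟩
  · exact ⟨M.x.sm.ord Nat.prime_two or2, M.mp cq2, M.nfix_eq (k := 15) (by decide) nf2 (IsConj.refl _), t (M.mp cq2)⟩
  · exact ⟨M.x.sm.ord Nat.prime_two or3, M.mp cq3, M.nfix_eq (k := 15) (by decide) nf3 (IsConj.refl _), t (M.mp cq3)⟩

theorem M23.u3 (M : M23 D E f) : U3 D :=
  u3_of (M.trn.mono (by decide)) M.u2 M.cjD (M.cq cq3) rfl fun _ a b c _ => M.fac3 a b c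

end CF.Fisch.F23
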