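import Cfsg.Agent.Fisch.F23.Tb
import Cfsg.Agent.Fisch.St.SubT
import Cfsg.Agent.Fisch.F23.I2

set_option autoImplicit false
set_option maxRecDepth 1000000
set_option maxHeartbeats 0
set_option Elab.async false

namespace CF.Fisch.F23.L2

open CF.Comp CF.Fisch CF.Fisch.F23 Subgroup
open scoped Pointwise

noncomputable def a_gs : List (List Nat) := [[(nat_lit 1), (nat_lit 29), (nat_lit 3), (nat_lit 49), (nat_lit 43), (nat_lit 29), (nat_lit 45), (nat_lit 34), (nat_lit 39), (nat_lit 33), (nat_lit 45), (nat_lit 48)],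
  [(nat_lit 30), (nat_lit 19), (nat_lit 27), (nat_lit 43), (nat_lit 1), (nat_lit 40), (nat_lit 49), (nat_lit 29), (nat_lit 35), (nat_lit 34), (nat_lit 44), (nat_lit 33), (nat_lit 40), (nat_lit 40), (nat_lit 23)],
  [(nat_lit 31), (nat_lit 34), (nat_lit 39), (nat_lit 30), (nat_lit 1), (nat_lit 37), (nat_lit 34), (nat_lit 48), (nat_lit 30), (nat_lit 33), (nat_lit 48), (nat_lit 40), (nat_lit 45), (nat_lit 43), (nat_lit 49), (nat_lit 48)],
  [(nat_lit 27), (nat_lit 33), (nat_lit 28), (nat_lit 1), (nat_lit 28), (nat_lit 30), (nat_lit 27), (nat_lit 39), (nat_lit 48), (nat_lit 34), (nat_lit 35), (nat_lit 33), (nat_lit 41), (nat_lit 39), (nat_lit 39), (nat_lit 47), (nat_lit 51)],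
  [(nat_lit 11), (nat_lit 39), (nat_lit 43), (nat_lit 19), (nat_lit 30), (nat_lit 47), (nat_lit 45), (nat_lit 28), (nat_lit 33), (nat_lit 49), (nat_lit 34), (nat_lit 47), (nat_lit 37), (nat_lit 33), (nat_lit 23)],
  [(nat_lit 48), (nat_lit 30), (nat_lit 40), (nat_lit 28), (nat_lit 3), (nat_lit 34), (nat_lit 47), (nat_lit 29), (nat_lit 33), (nat_lit 45), (nat_lit 47), (nat_lit 23)],
  [(nat_lit 35), (nat_lit 49), (nat_lit 39), (nat_lit 1), (nat_lit 41), (nat_lit 33), (nat_lit 29), (nat_lit 33), (nat_lit 45), (nat_lit 43), (nat_lit 39), (nat_lit 48), (nat_lit 45), (nat_lit 49), (nat_lit 48)],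
  [(nat_lit 34), (nat_lit 37), (nat_lit 40), (nat_lit 43), (nat_lit 3), (nat_lit 40), (nat_lit 51), (nat_lit 39), (nat_lit 33), (nat_lit 39), (nat_lit 49), (nat_lit 48), (nat_lit 23)],
  [(nat_lit 48), (nat_lit 1), (nat_lit 39), (nat_lit 33), (nat_lit 29), (nat_lit 37), (nat_lit 33), (nat_lit 41), (nat_lit 48), (nat_lit 39), (nat_lit 47), (nat_lit 45), (nat_lit 47), (nat_lit 51)],
  [(nat_lit 17), (nat_lit 23), (nat_lit 40), (nat_lit 44), (nat_lit 41), (nat_lit 5), (nat_lit 1), (nat_lit 41), (nat_lit 45), (nat_lit 40), (nat_lit 48), (nat_lit 44), (nat_lit 49), (nat_lit 48)],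
  [(nat_lit 47), (nat_lit 34), (nat_lit 39), (nat_lit 34), (nat_lit 5), (nat_lit 1), (nat_lit 43), (nat_lit 27), (nat_lit 30), (nat_lit 27), (nat_lit 45), (nat_lit 39), (nat_lit 43), (nat_lit 33), (nat_lit 39), (nat_lit 45)],
  [(nat_lit 30), (nat_lit 47), (nat_lit 29), (nat_lit 48), (nat_lit 40), (nat_lit 40), (nat_lit 48), (nat_lit 43)],
  [(nat_lit 40), (nat_lit 41), (nat_lit 3), (nat_lit 47), (nat_lit 33), (nat_lit 30), (nat_lit 33), (nat_lit 39), (nat_lit 43), (nat_lit 39), (nat_lit 43), (nat_lit 51), (nat_lit 23)],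
  [(nat_lit 28), (nat_lit 34), (nat_lit 1), (nat_lit 33), (nat_lit 27)],
  [(nat_lit 49), (nat_lit 48), (nat_lit 34), (nat_lit 3), (nat_lit 34), (nat_lit 30), (nat_lit 48), (nat_lit 43), (nat_lit 47)],
  [(nat_lit 1), (nat_lit 30), (nat_lit 47), (nat_lit 29), (nat_lit 48), (nat_lit 40), (nat_lit 40), (nat_lit 48), (nat_lit 43)],
  [(nat_lit 48), (nat_lit 19), (nat_lit 1), (nat_lit 47), (nat_lit 23)],
  [(nat_lit 40), (nat_lit 29), (nat_lit 43), (nat_lit 1), (nat_lit 37), (nat_lit 30), (nat_lit 39), (nat_lit 29), (nat_lit 45), (nat_lit 44), (nat_lit 39), (nat_lit 44)]]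
noncomputable def a_zs : List (List Nat) := []
noncomputable def a_pc : List PcS := [⟨(nat_lit 2), [(nat_lit 5), (nat_lit 11), (nat_lit 13), (nat_lit 15), (nat_lit 23), (nat_lit 25), (nat_lit 27)], []⟩,
  ⟨(nat_lit 2), [(nat_lit 7), (nat_lit 11), (nat_lit 13), (nat_lit 15), (nat_lit 17), (nat_lit 21), (nat_lit 25)], [[(nat_lit 3), (nat_lit 7), (nat_lit 9), (nat_lit 19), (nat_lit 23), (nat_lit 27), (nat_lit 31)]]⟩,
  ⟨(nat_lit 2), [(nat_lit 1), (nat_lit 3), (nat_lit 11), (nat_lit 17), (nat_lit 19), (nat_lit 23), (nat_lit 27), (nat_lit 29)], [[(nat_lit 3), (nat_lit 7), (nat_lit 9), (nat_lit 25), (nat_lit 27)],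
  [(nat_lit 1), (nat_lit 11), (nat_lit 15), (nat_lit 21), (nat_lit 23), (nat_lit 27)]]⟩,
  ⟨(nat_lit 2), [(nat_lit 15), (nat_lit 21), (nat_lit 25), (nat_lit 27)], [[(nat_lit 17), (nat_lit 21), (nat_lit 27)],
  [(nat_lit 5), (nat_lit 7), (nat_lit 9), (nat_lit 11), (nat_lit 13), (nat_lit 15), (nat_lit 17), (nat_lit 19), (nat_lit 21), (nat_lit 23), (nat_lit 27)],
  [(nat_lit 3), (nat_lit 7), (nat_lit 11), (nat_lit 13), (nat_lit 21), (nat_lit 25)]]⟩,
  ⟨(nat_lit 2), [(nat_lit 11), (nat_lit 13), (nat_lit 15), (nat_lit 17), (nat_lit 19), (nat_lit 21), (nat_lit 25)], [[(nat_lit 1), (nat_lit 3), (nat_lit 7), (nat_lit 13)],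
  [(nat_lit 1), (nat_lit 5), (nat_lit 9), (nat_lit 11), (nat_lit 17), (nat_lit 19)],
  [(nat_lit 1), (nat_lit 5), (nat_lit 11), (nat_lit 15), (nat_lit 19), (nat_lit 21)],
  [(nat_lit 3), (nat_lit 5), (nat_lit 7), (nat_lit 11), (nat_lit 13), (nat_lit 15), (nat_lit 19)]]⟩,
  ⟨(nat_lit 2), [(nat_lit 9), (nat_lit 11), (nat_lit 13), (nat_lit 15), (nat_lit 19), (nat_lit 21)], [[(nat_lit 1), (nat_lit 3), (nat_lit 9), (nat_lit 13)],
  [(nat_lit 5), (nat_lit 13), (nat_lit 15), (nat_lit 17), (nat_lit 19), (nat_lit 23)],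
  [(nat_lit 1), (nat_lit 3), (nat_lit 7), (nat_lit 9), (nat_lit 13), (nat_lit 15), (nat_lit 17), (nat_lit 21)],
  [(nat_lit 7), (nat_lit 11), (nat_lit 13), (nat_lit 15), (nat_lit 23)],
  [(nat_lit 9), (nat_lit 11), (nat_lit 13), (nat_lit 19), (nat_lit 23)]]⟩,
  ⟨(nat_lit 2), [(nat_lit 11), (nat_lit 15), (nat_lit 19), (nat_lit 21)], [[(nat_lit 3), (nat_lit 5), (nat_lit 11), (nat_lit 15), (nat_lit 17), (nat_lit 19)],
  [(nat_lit 3), (nat_lit 9), (nat_lit 11)],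
  [(nat_lit 3), (nat_lit 7), (nat_lit 11), (nat_lit 13)],
  [(nat_lit 5), (nat_lit 11), (nat_lit 15), (nat_lit 17), (nat_lit 21)],
  [(nat_lit 11), (nat_lit 15), (nat_lit 17), (nat_lit 21)],
  [(nat_lit 7), (nat_lit 9), (nat_lit 17), (nat_lit 19)]]⟩,
  ⟨(nat_lit 2), [], [[(nat_lit 1), (nat_lit 7), (nat_lit 15), (nat_lit 17), (nat_lit 19)],
  [(nat_lit 1), (nat_lit 5), (nat_lit 9), (nat_lit 15), (nat_lit 17)],
  [(nat_lit 1), (nat_lit 3), (nat_lit 5), (nat_lit 9)],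
  [(nat_lit 3), (nat_lit 7), (nat_lit 9), (nat_lit 17), (nat_lit 19)],
  [(nat_lit 5), (nat_lit 7), (nat_lit 11), (nat_lit 15), (nat_lit 17), (nat_lit 19)],
  [(nat_lit 5), (nat_lit 7), (nat_lit 9), (nat_lit 11), (nat_lit 13), (nat_lit 17)],
  [(nat_lit 9), (nat_lit 13), (nat_lit 15)]]⟩,
  ⟨(nat_lit 2), [], [[(nat_lit 1), (nat_lit 5), (nat_lit 11), (nat_lit 13), (nat_lit 17)],
  [(nat_lit 3), (nat_lit 5), (nat_lit 7), (nat_lit 15)],
  [(nat_lit 1), (nat_lit 7), (nat_lit 11), (nat_lit 13), (nat_lit 17)],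
  [(nat_lit 5), (nat_lit 11), (nat_lit 17)],
  [(nat_lit 3), (nat_lit 5), (nat_lit 7), (nat_lit 9), (nat_lit 13), (nat_lit 15), (nat_lit 17)],
  [(nat_lit 9), (nat_lit 15), (nat_lit 17)],
  [(nat_lit 13), (nat_lit 15), (nat_lit 17)],
  []]⟩,
  ⟨(nat_lit 2), [], [[(nat_lit 3), (nat_lit 9), (nat_lit 11), (nat_lit 13)],
  [(nat_lit 3), (nat_lit 5)],
  [(nat_lit 1), (nat_lit 5), (nat_lit 7), (nat_lit 11), (nat_lit 13)],
  [(nat_lit 13)],
  [(nat_lit 5), (nat_lit 9), (nat_lit 13), (nat_lit 15)],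
  [(nat_lit 9), (nat_lit 11), (nat_lit 15)],
  [(nat_lit 13)],
  [],
  []]⟩,
  ⟨(nat_lit 2), [], [[(nat_lit 3), (nat_lit 5), (nat_lit 9), (nat_lit 11)],
  [(nat_lit 5), (nat_lit 7), (nat_lit 9), (nat_lit 11)],
  [(nat_lit 3), (nat_lit 9), (nat_lit 11)],
  [(nat_lit 7), (nat_lit 9), (nat_lit 11)],
  [(nat_lit 7), (nat_lit 11), (nat_lit 13)],
  [(nat_lit 13)],
  [(nat_lit 13)],
  [],
  [],
  []]⟩,
  ⟨(nat_lit 2), [], [[(nat_lit 9)],
  [(nat_lit 5), (nat_lit 9)],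
  [(nat_lit 3), (nat_lit 5), (nat_lit 7), (nat_lit 9), (nat_lit 11)],
  [],
  [(nat_lit 5), (nat_lit 9)],
  [],
  [],
  [],
  [],
  [],
  []]⟩,
  ⟨(nat_lit 2), [], [[(nat_lit 5), (nat_lit 9)],
  [(nat_lit 5), (nat_lit 7), (nat_lit 9)],
  [(nat_lit 5), (nat_lit 7), (nat_lit 9)],
  [(nat_lit 7)],
  [],
  [(nat_lit 9)],
  [],
  [],
  [],
  [],
  [],
  []]⟩,
  ⟨(nat_lit 2), [], [[(nat_lit 1)],
  [],
  [(nat_lit 1)],
  [],
  [],
  [],
  [],
  [],
  [],
  [],
  [],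
  [],
  []]⟩,
  ⟨(nat_lit 2), [], [[],
  [],
  [],
  [],
  [],
  [],
  [],
  [],
  [],
  [],
  [],
  [],
  [],
  []]⟩,
  ⟨(nat_lit 2), [], [[(nat_lit 1)],
  [(nat_lit 3)],
  [(nat_lit 1), (nat_lit 3)],
  [],
  [(nat_lit 3)],
  [],
  [],
  [],
  [],
  [],
  [],
  [],
  [],
  [],
  []]⟩,
  ⟨(nat_lit 2), [], [[],
  [],
  [(nat_lit 1)],
  [],
  [],
  [],
  [],
  [],
  [],
  [],
  [],
  [],
  [],
  [],
  [],
  []]⟩,
  ⟨(nat_lit 2), [], [[],
  [],
  [],
  [],
  [],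
  [],
  [],
  [],
  [],
  [],
  [],
  [],
  [],
  [],
  [],
  [],
  []]⟩]
noncomputable def a_zu : List (List (List Nat)) := []
noncomputable def a_hs : List (List Nat) := [[(nat_lit 1), (nat_lit 29), (nat_lit 3), (nat_lit 49), (nat_lit 43), (nat_lit 29), (nat_lit 45), (nat_lit 34), (nat_lit 39), (nat_lit 33), (nat_lit 45), (nat_lit 48)],
  [(nat_lit 30), (nat_lit 19), (nat_lit 27), (nat_lit 43), (nat_lit 1), (nat_lit 40), (nat_lit 49), (nat_lit 29), (nat_lit 35), (nat_lit 34), (nat_lit 44), (nat_lit 33), (nat_lit 40), (nat_lit 40), (nat_lit 23)],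
  [(nat_lit 31), (nat_lit 34), (nat_lit 39), (nat_lit 30), (nat_lit 1), (nat_lit 37), (nat_lit 34), (nat_lit 48), (nat_lit 30), (nat_lit 33), (nat_lit 48), (nat_lit 40), (nat_lit 45), (nat_lit 43), (nat_lit 49), (nat_lit 48)],
  [(nat_lit 27), (nat_lit 33), (nat_lit 28), (nat_lit 1), (nat_lit 28), (nat_lit 30), (nat_lit 27), (nat_lit 39), (nat_lit 48), (nat_lit 34), (nat_lit 35), (nat_lit 33), (nat_lit 41), (nat_lit 39), (nat_lit 39), (nat_lit 47), (nat_lit 51)],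
  [(nat_lit 11), (nat_lit 39), (nat_lit 43), (nat_lit 19), (nat_lit 30), (nat_lit 47), (nat_lit 45), (nat_lit 28), (nat_lit 33), (nat_lit 49), (nat_lit 34), (nat_lit 47), (nat_lit 37), (nat_lit 33), (nat_lit 23)],
  [(nat_lit 48), (nat_lit 30), (nat_lit 40), (nat_lit 28), (nat_lit 3), (nat_lit 34), (nat_lit 47), (nat_lit 29), (nat_lit 33), (nat_lit 45), (nat_lit 47), (nat_lit 23)]]
noncomputable def a_u_N_0 : Net := (Net.cons (nat_lit 1) (nat_lit 0x1004544040510140150115100415150505105504405515100401115001404455545414540014001451011005554445511150055404140100040445510001410501004404554145150145550051500004415154051001045550101555004054515005514410505015500504551110101144500040) (Net.cons (nat_lit 2) (nat_lit 0x22021220121332103322130331131011032332131011111102030320233202302001113211130012133212013200103231022311101010012121133033100002112120233100121013112130232211310233212301012203000323121311320302210323001120333031320130201311323320)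 (Net.cons (nat_lit 4) (nat_lit 0xe010105020b040c0600000d090c040405080f0b0509080f0a000c0a0d0d040c0f05040907080c0e0b0e050f0f09090b0f080e040c060f0e04000f07050b090a08090c0f070c010e050d00060d0502040d0f0304080a0308020e0f0006090d00010705080c0f040104030b000d0c050e09010204) (Net.cons (nat_lit 8) (nat_lit 0x12007100010049007000cd007300c50047001900b300c700ff0079003b00fa000c000e0000000c00e3002a00a7000c001b004600ca00150012008400f100a9003c00540023001c004e00f400b9006c008f000d004500e8004d008200ac0006008c004a0001009d00fd001c0077000100070000) (Net.cons (nat_lit 16) (nat_lit 0x52790000301e0000f92400006acb000093db0000740c000017940000208f0000ea5c0000774d00004ffa00008345000030570000b5130000a0bb0000000c0000905d00001afe000054a7000036b100002e490000481c0000183e0000081e0000948b00006e3d0000f2b40000642800000004) (Net.cons (nat_lit 32) (nat_lit 0xcf607f08000000002f2994db00000000c080b69500000000bb8b0c00000000002449aa730000000007520c3d0000000024bac024000000005f4393fa0000000035640a86000000007c1d024b00000000f5f930cb00000000e60a27a0000000000cc59a600000000000404000)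 (Net.cons (nat_lit 64) (nat_lit 0x2fc21f690ee54020000000000000000d2b460483e43100c0000000000000000d490937f1142e1660000000000000000160022d4120644240000000000000000f6a9086886e922ce0000000000000000a2118185528c7a0600000000000000000000000000040104) (Net.cons (nat_lit 128) (nat_lit 0xa2180e4c600000000000000000000000000000000ed2073a2b694360b39168e900203400000000000000000000000000000000000a256e4c9e050c3c19ead0c893e00024c0000000000000000000000000000000080001100402020010200000000000000) (Net.cons (nat_lit 256) (nat_lit 0x1060400a0500009205081c0140000001a00000000000000000000000000000000000000000000000000000000000000000000004020192608a03822200002500000000000000000000000000000000000000000) (Net.cons (nat_lit 512) (nat_lit 0x1074420a0548009605083c1168800801a0000044020192608a03822200002500000000000000000000000000000000000000000) (Net.cons (nat_lit 256) (nat_lit 0x5336619c57deaf7b0bfafa68bc95effeb0fb1f22f0000000000000000000000000000000000000000000000000000000000000000f2765ffee8f4b9a7bf271e51be288a4d4588311208a360360010b12800000180)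 (Net.cons (nat_lit 128) (nat_lit 0xd27c7c5fe00000000000000000000000000000000c5f20d59bf6adb036b21f2274e9a73d700000000000000000000000000000000a456e409e05087c1d6eb8da33e98234d00000000000000000000000000000000e1a138a31eea12710a00b12600156402) (Net.cons (nat_lit 64) (nat_lit 0x1da76ff4923b11a20000000000000000658d1149daae88200000000000000000c6b60c7b7f8b9e370000000000000000969862d41c4544a40000000000000000c6b1e102c94e2c0c0000000000000000cbe3fc0f973c3288000000000000000035cfbabf601561e6) (Net.cons (nat_lit 32) (nat_lit 0x800000000c1629ae1000000004b4b023600000000c043045c0000000081f6aca50000000059b0d14e000000007a3a27820000000030938b60000000005f4793fa0000000014539d6700000000d87fc24a000000006c63822e00000000e960b4e50000000099c224830000000076c8edc2) (Net.cons (nat_lit 16) (nat_lit 0x16b100007ed00000c61c0000f8fa00006aa500008e3f00008fc30000d5d100006e46000062980000b75900004c2e0000f5ed0000d84b000081770000106500008ea40000a5de000089ad0000a54e0000e6520000bb8e0000652e0000f80900000ac5000022780000807e0000af8c000099c2)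 (Net.cons (nat_lit 8) (nat_lit 0xd40056001c003f0087005b0037009c004500bd00c1009e005d00da008f00d7004c00900073003d00a600d900ab006c00eb00df00d5009b000b001100e000f900d500c500450037002e00e20073002c00eb006f0016005f002800770025006400ed00d000af00f600ed0012007b006100690090) (Net.cons (nat_lit 4) (nat_lit 0x10f08040b07050f0108080403040c060d090e0806040d07060705020d020b0d0e0b01030504070804060f01020f0e090003070d0e0e0b090a0d090b0f07000a060f02010a050b0d020a050804010e0b0a0903060d0c050a0b030701010d0d0507070a0501090c020b06030204000a0102000202) (Net.cons (nat_lit 2) (nat_lit 0x12312313201212021010032213210221322031322001032132012021022113000031313310331213010200233321012221022212233223002221232232200300010320302003131002231223223102013230112110231000310121313312300010202320131222233123323301332020031200002) (Net.cons (nat_lit 1) (nat_lit 0x15540400515101445044044401505545405010501511050551455144555105144405155550515541445054154114445444450544455105001551501555015545011054155510441145104555100515145045555051505441045500554150015554050400401155404415011140450104515115000)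 Net.nil)))))))))))))))))))
noncomputable def a_u_N_1 : Net := (Net.cons (nat_lit 1) (nat_lit 0x55451540550555455110445155400410414550555455551450140400545004545401410105504004100514105104551044140455405015451440105041154510004015150540411445544050054005015441405510154051005105004014510154545540555514511411405410105404114140040) (Net.cons (nat_lit 2) (nat_lit 0x23030111300212332313102123112332323320022120001121010000021210330233232331203022101120301010203300333122031312200030301202032110110220333321023210210101321102001102132200203332302223220011203023320220223311202320130322002201103200300) (Net.cons (nat_lit 4) (nat_lit 0x6080e040d010e0605090208070c030c02020a0d070a0a040c0b0805040c0f030603010107090f0e020b0f0807020d07090c070f0c0609010408090e0c050e0b0b0a0b070e010707000c0a0c0608090a0f0c06080a07060c03050a0f050a060c07030c09060008070d0307080402050106020200) (Net.cons (nat_lit 8) (nat_lit 0xaa00c000a500ba00f2009e00dc00d20019007e0050004c00aa00b7003a00d900c1002c0031000e0019003f00c400a300e1007800b000640012007e0031009000e0004500090081005a007f00770076003200220099008a00180002006500db0092004800a900d300c700500028004c000d0000)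 (Net.cons (nat_lit 16) (nat_lit 0xe4b000075860000de970000037b0000385c0000a09b000066e6000034a4000064d10000ce2600009b210000062000000ec80000a0600000e27d0000100c0000ee330000c6070000d8b0000039f40000064e0000d82900001248000048f2000010d50000890100008c350000262600000000) (Net.cons (nat_lit 32) (nat_lit 0x600000000bb5d5cf200000000bda7d7c60000000089baab0400000000a30df1500000000006072178000000001a00a50200000000c0b1b888000000006880357a00000000dc30aa31000000001432b5180000000064f33bd0000000008408f646000000001229f50a00000000402009c0) (Net.cons (nat_lit 64) (nat_lit 0x120e8e179a51de04000000000000000091c408ab111a9e910000000000000000240c08c02826a4850000000000000000308034065afedb7f0000000000000000032f702fc778046c0000000000000000028892f600d89ec700000000000000000000000210284820) (Net.cons (nat_lit 128) (nat_lit 0x283585468000000000000000000000000000000004643245c82e25f8a86adab922896ba55000000000000000000000000000000001c77439dbf0b25c3a7fd4a800a18c8440000000000000000000000000000000002020080010000102639080000000000)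 (Net.cons (nat_lit 256) (nat_lit 0x720c2330a042442088001018221980a00080888440000000000000000000000000000000000000000000000000000000000000000c300004040801018100230000000000000000000000000000000000000000000) (Net.cons (nat_lit 512) (nat_lit 0x770e6333b0c37429ca90105c227f94a800a18c844c300004040801018100230000000000000000000000000000000000000000000) (Net.cons (nat_lit 256) (nat_lit 0x9116c80fa72dbfd946ff7eebd87e7f3f8b4d9cd6b0000000000000000000000000000000000000000000000000000000000000000ebd255dddde532babfbffbe08f18c8c413801800420ec83900002057b0640403) (Net.cons (nat_lit 128) (nat_lit 0x5ffb24eb7000000000000000000000000000000008d7095c559a0217d004e6b7555287c63000000000000000000000000000000003c77639fad67edc2effd4bb80b18c84400000000000000000000000000000000aa180cecdb31d72cc20cd716f6a56059) (Net.cons (nat_lit 64) (nat_lit 0x3cb00e8e351daaf10000000000000000b7c4cb0cb9b79b4000000000000000000178e23b286db4030000000000000000b5c276825afeda7500000000000000005cfa92875e7e51f70000000000000000587661adb284bf7f0000000000000000eeeb1cdef4dd2e50)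 (Net.cons (nat_lit 32) (nat_lit 0x10000000035dd56a100000000bed04e7100000000e6181bc300000000d6dcf156000000006a2593460000000084c23559000000005a24bab8000000006884b57a000000003b918bdf0000000039575f5600000000f1e216d900000000818d24a3000000007e58d6af00000000e01607c6) (Net.cons (nat_lit 16) (nat_lit 0xee9e0000037100003532000082a2000024d3000033670000c22700004465000062b80000e284000096a1000032c00000cb750000886d000063a3000077970000d6c20000f88e000050ff0000d31c000004ec000011db0000784f0000ccae0000193500006c880000b6b300005f9b000029ab) (Net.cons (nat_lit 8) (nat_lit 0x6400b60092001700bd001900740061008900f700e700d600cc00c500b7000000b9007200fc00c70069006b006000400090006400ab00da001300a20077009a00f9006000aa00b400d100b4007c00a9007b00bb0087008f00ef00510059002600a100dd0046005100ea0012005a008a007d0067) (Net.cons (nat_lit 4) (nat_lit 0x30203030d0a0f06070a090e090a06050c0c0e0e0101040c0401090d040f0c02020f05030100000d000c050207080f0d06070903040d0e0b0308050a080b080b0f0304060a030b0a060b090c08040d0e05030107020908040c03030d030509000a000f030802050f0c0400070f09050d0300060b)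 (Net.cons (nat_lit 2) (nat_lit 0x20220233023110032020331313232321033312032033321120220303333231022012030110300301111103200331212120131010213123223011210002123013233111221221200332222312110320322113132211333022031103310210302221011231101103021003030123000121123123210) (Net.cons (nat_lit 1) (nat_lit 0x4401541015054510551055441441054041050105541454055511404041555000150155111155514545414004404445500141115404115001044500041054040550015115551105145410144454015001505400401045501514410505154005015144451001510511010411501105554451105114) Net.nil)))))))))))))))))))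
noncomputable def a_u_N_2 : Net := (Net.cons (nat_lit 1) (nat_lit 0x44015551011414514054141441441004441014454411544444510014544041504400411401541105440141000101005511041150110014050450515041040000441105150411014505105415554404100400014445155104450104045140500154000155554401005415050144554114051105410) (Net.cons (nat_lit 2) (nat_lit 0x32031112311031113320112032120002130323310230313312001310021110123301202121110003031321112213012112023200111030331000230102112000203332131102033122210230121333313012303122033030121120203102310302121003131230000032131011303023332033020) (Net.cons (nat_lit 4) (nat_lit 0xd09030b0200080500030e050401080e05050f090600080506000e0f0c00040f0a0b000f0d060e040d020f0c040101060f0a080f070c0300000c0c040c000903040a060a020c08050f0f030b05040a030002030d0f0f0e0d060a0706050e0109050f0b04070f0d0f0c00060808070a060b030600) (Net.cons (nat_lit 8) (nat_lit 0x9e000800310034009e000000e3008e00c200e200b600a500c300f900ab00e7002900c900e3006a0023004e0052001000e900a200c400f3008400ab0018000e00d000a000ae002100f1004200390089005a006d006900f700f200d300130017005e00e2003600ce000d00d6001c008200dc0000)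 (Net.cons (nat_lit 16) (nat_lit 0xb14a00009d83000037b00000965600007d4100009ba400002d290000b7d30000c60b00008b1e0000ef0c00009165000036b70000c08900002b2e0000041c0000b9240000aa0c0000e0bd0000ce4800001d40000052d40000d2b1000074230000b0600000c0c80000d804000040e700000000) (Net.cons (nat_lit 32) (nat_lit 0x2000000002481a858000000005635659400000000a6a31371000000000d1b4ed000000000a5d235d400000000d566ef60000000000100006400000000a6de12340000000039e3dd7c0000000042141e0500000000c53e02bf000000001300780e0000000000c8c8020000000080244010) (Net.cons (nat_lit 64) (nat_lit 0x342c19e01bb627350000000000000000900854b54d8140f00000000000000000d600840e23d2a15d000000000000000024da1a1c1cd418900000000000000000442e2fc855a35fa00000000000000000ec40842f8d1853f9000000000000000000000000093001e0) (Net.cons (nat_lit 128) (nat_lit 0xf04a6108200000000000000000000000000000000014485807b017a18d2e03f4a8a0e1090000000000000000000000000000000008e4dc2633629917c6dc1cfcf41108b040000000000000000000000000000000018000002000100602001980000000000)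 (Net.cons (nat_lit 256) (nat_lit 0x8602108002004043000090500400820300100004000000000000000000000000000000000000000000000000000000000000000051002500c1826201003a30100000000000000000000000000000000000000000) (Net.cons (nat_lit 512) (nat_lit 0x9ece10908a05c0632229917c2cc1cfcf0010000451002500c1826201003a30100000000000000000000000000000000000000000) (Net.cons (nat_lit 256) (nat_lit 0x2668c9bf4d07d82e4bf39ea8ffac61dee2df1fea600000000000000000000000000000000000000000000000000000000000000007f01ed72e98beb69e3fffbbf4030ca6550ca061c145468001234301013aa15fa) (Net.cons (nat_lit 128) (nat_lit 0x4e952f37f00000000000000000000000000000000c06568722d818ede384a08c71437a14c00000000000000000000000000000000aa97d877223991fc6dc1cfcf40114f6c000000000000000000000000000000002080021ed374b487b4851f297e0a6752) (Net.cons (nat_lit 64) (nat_lit 0xbc2a258cb1143ffd0000000000000000d1ee9cff6be9a4fd00000000000000000f2a640256849928000000000000000065fbdade3e1a0a8000000000000000007c5bc60acb22939c00000000000000008dc23540d5ed6a5c0000000000000000d6d8a2a7c1225878)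 (Net.cons (nat_lit 32) (nat_lit 0x50000000018ca7cc5000000002af04aa900000000b934a37300000000740f14ca00000000d7ef5ec9000000005b52d00d0000000068bf003800000000a2de123400000000146eb93700000000c191e59100000000e745e0e5000000004a0ca1d5000000006c6833d60000000010cb40fa) (Net.cons (nat_lit 16) (nat_lit 0x84c700009e8600009c910000710f00008acb0000de090000afce0000028000009ba5000068bb000024c30000d9080000996a00009bbf000083120000b5560000c4b7000083c90000a027000070e0000031e000001d680000f3b700002ad7000098dc000049b00000493e0000bdc600007dfc) (Net.cons (nat_lit 8) (nat_lit 0xfe003300cd00c700e1001e00e5005700120037005200f600f100f700d500bd008e00a300840050006d00fa001b00f7003500ae00bc00d300a9002500ac00cc0033003a0035007d00d200d100cf004d00cd00370041004b00b000540097001d00b800dd00eb00170072006000bb0096009200fb) (Net.cons (nat_lit 4) (nat_lit 0xa030a0d0a010f0f0805010b070c0a0e0b060305040f0204020506000b09040f0601050c0c0a030b09050f00040c080303070e0f010b00050b0206050d060b030e0d0a02010f0b090a07070007080307090e0e0c0f070d030b01040e0b0104060600070b050a0a060b01090d0c0c080a01020b08)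 (Net.cons (nat_lit 2) (nat_lit 0x12032132313031131323211212102211011020321203001211302032013030122030213333233203321313202202212231021301132203123211303102222033223013033323230113000021113202233233122023303211031200030322212321231331003033213030213230220030323311012) (Net.cons (nat_lit 1) (nat_lit 0x14404504404410001440411010504140005014551511100101154400001154114011505551501510450445401000451450514545504515155011400454401551055110441411150554055041154410000514104011445451114145001510445514004014155100114144101155151515100105411) Net.nil)))))))))))))))))))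
noncomputable def a_u_N_3 : Net := (Net.cons (nat_lit 1) (nat_lit 0x51050554510440545410011540000405454544554040544504141045400050141404041411154554504015054000045144144450151044501140001451451440410554011151504041400104444114050445505145451444111554151405115504155044144141550154144115155054415045000) (Net.cons (nat_lit 2) (nat_lit 0x13022101003103221001132122311030031110113113321323003121122333123112210030030013210202221200112011303000222012212103300223111300211113223033233303320201333302023103012311031323001031131212203032223231320203223112003121000322011001120) (Net.cons (nat_lit 4) (nat_lit 0x2080305050c0406000304060306030908090c06000300080207080409020f070403030c01000b040d070602050606060e08090d06030f0c0b0f06000309010d0c0c0d0c08080c0f0e0c050f040207090f010108090d0e0105000e060003060c080902030d03080f0a0e020901070c040c000408) (Net.cons (nat_lit 8) (nat_lit 0xd600040015006e00c0003a00c4004e00000019001800c6005f001900ea0067009500ab003d00c6003700c000a8004600f800fc0014000a00980006003d00c300f800eb00880078006f000e005b00700066007f00a800d20008005700c1000d0007003000c800f3004800c5002f0011005a0000)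 (Net.cons (nat_lit 16) (nat_lit 0xa22700002af4000015180000a0c1000068680000a5c400002f280000c359000084f4000011c400007b56000037090000aef20000509400000d790000c204000096e0000089e60000936a0000909200006507000070740000cc3f0000b6080000341d0000e00c00002e440000128100000000) (Net.cons (nat_lit 32) (nat_lit 0x600000000cd76bb2d00000000bc150a2600000000b7c7cf4a00000000398d5868000000008d4c6052000000009c54c0ba00000000a5c0a80400000000ee9bc27300000000d903020b000000008a860d2b00000000c783c92300000000c468c4080000000043134c010000000000d04000) (Net.cons (nat_lit 64) (nat_lit 0x70d60a1e60c9a7100000000000000000e61200f893a294700000000000000007206823163a27b090000000000000000061bc0124576ad50000000000000000018a01421141ad828000000000000000085ec15804853473000000000000000000000000001000000) (Net.cons (nat_lit 128) (nat_lit 0x101211a0c00000000000000000000000000000000db9e83b48782534b203e409045246410000000000000000000000000000000009d2fa54da91dc221464e090c70420c780000000000000000000000000000000080040101200002610410801000000000)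 (Net.cons (nat_lit 256) (nat_lit 0x124c100180000048800020104000000400008400000000000000000000000000000000000000000000000000000000000000000608002a0068210c80110e0900000000000000000000000000000000000000000) (Net.cons (nat_lit 512) (nat_lit 0x20d25e10098040145a8110221060a000040420c50608002a0068210c80110e0900000000000000000000000000000000000000000) (Net.cons (nat_lit 256) (nat_lit 0xe69f03065db5ec17c553ecdc6223ff2ff1773877a0000000000000000000000000000000000000000000000000000000000000000ffb4e7bdaffffef9e75eebdd72420c7022cb1882000015408110c03185000008) (Net.cons (nat_lit 128) (nat_lit 0x1bb4b88030000000000000000000000000000000029ca1fb8ed647ddf279d74c50a3da643000000000000000000000000000000009b36255fe839ea218ece0b6c60421c740000000000000000000000000000000088c80b366003112c883f5f9cac584014) (Net.cons (nat_lit 64) (nat_lit 0x2ea82f4fff6132e0000000000000000c4e7232754ba6d3a000000000000000060befc31dc3d611e0000000000000000077bc0964dee2d5000000000000000003b65b858363842630000000000000000b8dd56f92dd30f8e0000000000000000c0223cfd9bd44204)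 (Net.cons (nat_lit 32) (nat_lit 0x60000000017e318100000000012cc9c3800000000c0cb406b00000000721c6b3400000000e703d7d10000000055b78bb400000000eb75e39e000000002c9bc27300000000f522b64c00000000705bdc2700000000152203b100000000b9250fce0000000063e1519b0000000093f341a8) (Net.cons (nat_lit 16) (nat_lit 0x89c800002a060000ec5f00002401000078ce0000c18c00002af700006009000023d1000057d10000c37b000001e300007f9400009a470000917a0000f74c0000648e00008d7d000044b100008dc00000a10000000c030000761f0000a68e0000c6a00000de78000074dd00000e8b000002d0) (Net.cons (nat_lit 8) (nat_lit 0x6600dd0054009a0040001f0004009200e60096002700a900d2006f00b50093006c007f004e002800b1006f001a00760091000f00b800cb0007001900d200c3008300c100bb00c800d400b1007700d700790014000b000c009a005200c20009008b00e900c2006600dc003f009c001c00dc0006) (Net.cons (nat_lit 4) (nat_lit 0x802080f04070603070d030e0b0201010f000d050000040d070b09010b010402020a04000a0107010b010e04020403040d02020a05010c0a020d03040a0d040d080d0d060c020a0d0c0d0d090e020b020f0f0c090d0a0d0b050509070a0603040c000f0103090a030a0e0d0a07080a0d0b0d0c06)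 (Net.cons (nat_lit 2) (nat_lit 0x1110220212313222111313101120102313102220211000030332101302322332333003303221323000112210031212112322233120203230333032231333300000021112232111103223132112210310320330113331221121303321101102011132332011332112220311331133130220021032) (Net.cons (nat_lit 1) (nat_lit 0x1511140440150501540544444545101151144411001414144440410155114104440504051551041545544111015555140515554054501401105554405001415014011510044414450015555515405554104451400015154001050111040514450154005144051050504110401454140000505114) Net.nil)))))))))))))))))))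
noncomputable def a_u_N_4 : Net := (Net.cons (nat_lit 1) (nat_lit 0x14051500514540044445145015410540505015450441405140114150005444104444014110140414045050155544550410400045144141545514110041440010445511514515151504004515404110551141105115511554505115441004011415501005410510555014540110515455415010054) (Net.cons (nat_lit 2) (nat_lit 0x3020311230321310123121211103021111022023301003331021020100201100100322232100312100322213112330330303301223011132211000312111200112002201010312001303322222201120221230032122300130002000300230311120221232120032312120312003212022011000) (Net.cons (nat_lit 4) (nat_lit 0xc0b0f0f030f0c080803040e0f0f08090c0a070c0401030b0d0d0f01040103000e010d02060109060f0a0e0c070e0f0205000a0a04060b050e0f040d0c0b0a03070d0506000b06060004040d0304020a080d0a03040f0a0d0603030a0d0d06090e07050a0f05020a0b0706080f0b020c03040000) (Net.cons (nat_lit 8) (nat_lit 0xdc009200320098004900500016000a009e002e0025009d004f00a0003a003e0076009100de001e009300ed001a00a900bb0002000f0082004200c1006e001d00990012001400ce00c0006300b80047006f00ab00210099002b005500e80024004c005700d2008500e600a100b4001a006c0000)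 (Net.cons (nat_lit 16) (nat_lit 0x28a50000511c000060bb0000e7b40000063900006a3c0000dd230000074c00003c1a0000803600003705000053200000d34b0000c004000040da0000002a00006db600004928000088440000784300001f970000536c00003aa20000098d0000aae200004c120000a057000056d000000000) (Net.cons (nat_lit 32) (nat_lit 0xa000000008732807300000000538699da00000000c31e1cd500000000034183c800000000d6eaff4b0000000025c09ede00000000024778400000000046f3ef7d000000000bac1dca00000000bac282ea00000000504c92440000000013e1255a000000000b140a500000000000004010) (Net.cons (nat_lit 64) (nat_lit 0xf95c0d1044517b1400000000000000000a0e16adb61ca0ab0000000000000000cd742208be068f9700000000000000000213da2c8570ee0300000000000000004d402a9143ae8e3300000000000000001cfac8042110ba2800000000000000000000000811200880) (Net.cons (nat_lit 128) (nat_lit 0xe91208b1700000000000000000000000000000000c5fe06510e663eeaaab1214484000a2a000000000000000000000000000000006b64050ccc6f41b1710c46812731c4080000000000000000000000000000000040402500100010041208002000000000)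 (Net.cons (nat_lit 256) (nat_lit 0x2c0c2096240040000480740a121004280040000080000000000000000000000000000000000000000000000000000000000000000148820823090b20c8a1380200000000000000000000000000000000000000000) (Net.cons (nat_lit 512) (nat_lit 0xec0c22b6749640500484f40b1310c428005218408148820823090b20c8a1380200000000000000000000000000000000000000000) (Net.cons (nat_lit 256) (nat_lit 0xae53c7539bf7faedbdf711c5e6aa4a967f809f72400000000000000000000000000000000000000000000000000000000000000007dddf7aa7d9bff9ebeffa5b03f35c4880200227591b0100c46502933c88c3ae3) (Net.cons (nat_lit 128) (nat_lit 0x39f0cd0ac000000000000000000000000000000002800263f9b31cfccde2efd5e6748bbe5000000000000000000000000000000006b661f20cc4f45b1314c63911731c4080000000000000000000000000000000014a9737c0905d04a1b1e99c28fd46fac) (Net.cons (nat_lit 64) (nat_lit 0x50faf7c3f960b707000000000000000085449d8385eeca4d0000000000000000683c162284ee023e00000000000000000313daac8372ce7f0000000000000000b8b9cdadfb06d4b300000000000000008d9f73e8b9e6991c00000000000000009bb204f6799802b8)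 (Net.cons (nat_lit 32) (nat_lit 0xc000000004e4585610000000074ec59920000000080fc20f100000000f9a7e94d00000000043d53d60000000033c4089e000000007edca1100000000046f3fb7d000000004c10e95f00000000454d67a0000000003de65286000000001aed84f200000000cc9415fc0000000060a876ba) (Net.cons (nat_lit 16) (nat_lit 0xeb0e0000dce00000576c00003c660000ce1a00008e42000082640000fdf900006268000040d2000064590000b47000004ed500006dd10000941c0000617300001f02000021ec0000c50400009f020000a2af000007b60000126c0000744e000045940000594c0000983c0000ebbc0000288e) (Net.cons (nat_lit 8) (nat_lit 0xf600ff006600b500a3009b008f00a700be000b00840036003400b50082008d00ce005e002100a5007500920069003200ea00a200d4006d00350071005b009c00ec00060026009a002d004600b900ef00240009007f00310042009700490074008c0078008a004000e10094002e00c500c2000b) (Net.cons (nat_lit 4) (nat_lit 0x100050d0f09040205020d010d0f0c07030a0a040d080301060c06040103000b08060c04040006080002020607060f03020b03010f09080b0c020d050b030203070b01070e0b0300010d05020106060c090e040400090501020a0404000c0f0c0a0902020a0606050e0a050901080d0d0b050205)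 (Net.cons (nat_lit 2) (nat_lit 0x12123030310123031321022322333233123220330020230023131110012311110302103131013211330221332233232131303000200231032022213013232131200021002231323312330103311230132033112030031210010213121220332313012112022303310221223221200031200102333) (Net.cons (nat_lit 1) (nat_lit 0x511005455405145411515505111141411401011510104114511555555500001440004004400041015144500045100055555145540040055114010111140144111551051140045145154444410450501554051115551041545510541555404505045155114505150105050504051011041005451) Net.nil)))))))))))))))))))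
noncomputable def a_u_N_5 : Net := (Net.cons (nat_lit 1) (nat_lit 0x15550415150544404410544400005550045404451101541404145505544155500155405514000004504044541414554044155540545140000514111541114404451511404445515100040401055411540051540014041004114440145540004515415101110414005540454541150011015101444) (Net.cons (nat_lit 2) (nat_lit 0x10003210320203303330003220101001232223012011033000013003313130133103012220310312233220230303001232030032000202301120211112033200230330212322201122131223303002110323122200132210103221033311203021200333011221130001112323301100220110320) (Net.cons (nat_lit 4) (nat_lit 0x904050f01030c0706080a0b070500000a06060e0d0f0d0102080d000206080d020108000c0a010a0a070a050d07030e00090308060206010f00010102050b0009010d0b0f000e06010c05060c000d0a0f0c0e0707060e02020e0605020b0d0d0b03060a0f08020005060a0e090f0400050c0c08) (Net.cons (nat_lit 8) (nat_lit 0xa300ea00de00b400e10054007a0033005200db0096006600d8004100d20017004100e00049004400a4005700c6009f00a10014000000a8004800d2004e0005008100b5006a0009001700a1006a0077008f000f002600bb0085001a006f00fd00ae00550033005c0038009900ec001300690000)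 (Net.cons (nat_lit 16) (nat_lit 0x286400004f010000d1b6000071870000186f000046a900001ef800002f0100004921000068540000d2dd0000b4ac0000449a0000416f0000090600000109000063050000b8ce0000c61b0000b7310000ef10000098bb0000854800009606000082e40000038e000070b8000042c400000000) (Net.cons (nat_lit 32) (nat_lit 0xb0a1ea77000000001124655a000000006e673f7c0000000091bbd1000000000090b70909000000004be8645b0000000030c837000000000008a4c1820000000005164d83000000001c9852eb000000004433815400000000148504e30000000080710142000000001a051000) (Net.cons (nat_lit 64) (nat_lit 0x634af830e0908fe30000000000000000030ca11f7b69956d000000000000000040408d00482a8267000000000000000000a8018261c98b7b000000000000000079c31033d60c112100000000000000000a5e92602579669000000000000000000000000201101020) (Net.cons (nat_lit 128) (nat_lit 0x4cb839a56000000000000000000000000000000005f23b9d352dcab00382a12d00884883a000000000000000000000000000000006383f2411c97eba4368720f079860822000000000000000000000000000000000100204010920004121a389000000000)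 (Net.cons (nat_lit 256) (nat_lit 0x2004800984301a04114848180120300d04184082200000000000000000000000000000000000000000000000000000000000000009c040c2c82201000c0781b000000000000000000000000000000000000000000) (Net.cons (nat_lit 512) (nat_lit 0xf0048c3d94303f2411c96e184368320f0698408229c040c2c82201000c0781b000000000000000000000000000000000000000000) (Net.cons (nat_lit 256) (nat_lit 0x220e49669ae3e159a4a783bb9e97d9b4f8ad363c40000000000000000000000000000000000000000000000000000000000000000ff2c2def97fa5b9eda7b7fd06984282604dc04a601011421883c5a05960382cc) (Net.cons (nat_lit 128) (nat_lit 0x61c736e9100000000000000000000000000000000caaa970388d0dfabb5f55abeade76f4f000000000000000000000000000000006303f3c37cdfebce3f8720f0fb963c2200000000000000000000000000000000668285cd6d1da08ed1c74a7116f0d51e) (Net.cons (nat_lit 64) (nat_lit 0x1657450ae24ae5060000000000000000b658cec5c466da6700000000000000001f31d9ce5b8f3831000000000000000082aa13ab61698bfb0000000000000000fd1772635faeb79b0000000000000000847a00a78f0a1d100000000000000000084351f1907bc39c)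 (Net.cons (nat_lit 32) (nat_lit 0x600000000676a1214000000001a48a881000000004ccdc15b00000000f63afaff00000000e20444840000000086affda300000000e021e3eb0000000009a4c18000000000835ea348000000006a937ba100000000821c3028000000002a1e610f00000000c90e555e00000000b06c0194) (Net.cons (nat_lit 16) (nat_lit 0x57300000365a000082bc00009acd00005dd000006c590000528d0000fb7c0000c68f00009add00005fbf000032270000ea1a00007a8a00004e7d0000d9bd00008c7d0000d2cd0000077f0000417b0000d88700003e8500006721000017ee0000026f0000a44b0000c46f0000f0dd0000119e) (Net.cons (nat_lit 8) (nat_lit 0xef003900d000e90075005a008a0043007e0071000b00e3009a002a003800f3008b00ba001900f5000e000300cc00410088008f001f009200d70035005d00b5003d009a00390009009f00d2003600120097004c0058007c00950084002b000b00df000900f8008e00d400190084001a008400d6) (Net.cons (nat_lit 4) (nat_lit 0xe0c07080d040b0902000d0a020b0d03010d0f0c050d0c050f0d04020c0502090b0f03000001040f0107010c050d090603030e0d0805010d090e04020e0c09000c0100060e040f03000a0903070b0e02000e080104090e04070b000d0902010d04070c0f050b00010f0d090f060c0f0c08060c02)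 (Net.cons (nat_lit 2) (nat_lit 0x12213212231101003130131113333112231033022022101113001011122200331213300121200110122211331210010202332102020032200333003103103203102211230122101321331031100000320112112000302222020003313003012220123030233211320313230312301130202230322) (Net.cons (nat_lit 1) (nat_lit 0x10545554454005454150510501540401100105140005105015115014445500514545551051114150005400110150450504501451500510415554411450055450511415055150450105444545551010445001115515445155104454444155454151050005115511504514040550444400000551014) Net.nil)))))))))))))))))))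
noncomputable def a_u_N : List Net := [a_u_N_0, a_u_N_1, a_u_N_2, a_u_N_3, a_u_N_4, a_u_N_5]
noncomputable def a_u_pt : BT Nat := (BT.leaf (Nat.lor (nat_lit 0x3148228fc51f4a3c947428d0518ca30145c28a05124a241438286e50cca17940927f24f949d1939c27304c1c97a12f025d04b8c96f92d725a64b0c95492a7254849f8939926e24ca48d891891c1237046a48ce9196232446308c5117622c245588a6914b228644e4897911a222a430085c10b42150429084d1090211041f8832904820723fe47fa0fc61f283dcc7b88f621ec23d7c7ad0f311e5c3c7878a8eeb1dd23b487648eb11d583a5474a0e8d1cf839dc7298e521c9e39387078e0b1c08380c6ff0dfa1bb437206e18dbd1b7836e86dc8db718f631bc5f88bec17c82f705e28bac17542ea05cc0b7816ea2dd05b98b66169c2cd85940b1616062bec5750ae515bc2b6c55a0ab315622a9054c0a95150029e853b8a7414e629c852d8a4a147828dc50f0a14141c280850089fe13da27a04f089de13b027404e789cc1352269c4c6098912f625e84ba896712c0257c4ae095912b0255c4a28940127a24f049d092a124a247c48d0918120023f847e88f911e0239446e08d611aa23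5046908d11198231c46088b7115c22b04488890110021fc43a886f10ce219842c084a109220f441a8832106220bc40e881510282040405080610001fc43f807da0fb01f303e287bd0f721ed83da07b30f581e983d107a00f2a1e383c407850ee01d883ad07520ea01d343a007370e6a1cc439587260e461c84390071f0e3c1c7438c87150e1e1c3437f86fe0df81be837a06f00dc61b8436b06cf0d941b2036386b30d641aac35186a10d3c1a6434b86950d281a3834606840d0419ec33c06770ce219ac33486650cc6195432586450c8618f431606220c38184c30705fc0bf017dc2fb05f50be017b82f685ea0bcc17782ed85ce0b9417202e085bf0b7016d82d585a40b3e16782cb85910b1e162c2c4857b0aea15cc2b685670ab2152829f853a0a6c14c429085180a1c142427e04eb09c6137426c84d20996131c26204c3097012d425984aa0946128024d84970928123c24704880904120023e047b08ec11c8236846308b4113421b842f083c10441fd03f907e60fc81f503e707ca0f801ef83de07ae0f401e703cc078e0f101e103be07700e9c1d2039d07360e601c60389070c0e041be837806e00d901a3031e063a0c7018d031506220c0818002fb05f40bc817782ec05c80b7c16e02db05ae0b4c16382bb05720ab4152829d052a0a40139025704a409381268248047c08e811a02320448088010c0213041e080c0ff01f903c407800ec81c0035c06a80d481a4033406540c8817b02f205d40b6016702b2053409c812c0250049008d0115021003f807d80f501cc034006700c7018c031005e80b80154029c04880840104020403f007b00f401d4033004e009a012c025002d005600640070001)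 (Nat.shiftLeft (nat_lit 0x7bb7bbab70bad8cdb15b421681ace9d989b1f163cabd4d793aee95b46b255648ab8f524aa43d414a2c54582890511fa0933d1a7a04f3d9e793c427584ea597cb2f7255ccab695132a1e52d4a4594892896511ca0693cb26124b5c90e921b22da403c7da8fb11f5a3d2c79d8c7b18c227544c38975110e21fc43a885b0aee15c427884ef08b2115c20e83e707b60f641cc82e90572091c0fb8149028dff53fe87fcaff91faa3ee77dc0f9f9f25be3c7c38f849f01bdfd7bf6f775eee3d637968f2b1e53bca57840ef3dd143a27738ee6b5cd0b9827140e1c1c1b3830705cdf09bde37ba6f70ddedbbc37286de8db91b6536c46d68dac9b3236316c4cd7f1afb35f46bb6d5e9aba35726aa8d54da72b4df69bad269a36346b6820cf61953b27664eac99591a31b16356c6a586430c26180c149826b0396000bfe57d82faa5f4abdfd7bcaf775cfcb9e173b2e5d5ba6b7496e8adce5b90b6fd68a2bfc576caed15d8abb05718ae195c22b815700ac4d586ab0b55ecabb95702adb54a4a9354dca9b351b6a34942428475086a0f541a27684e949d25340a6114c1e98352f425e24bc097792e5a5c34b6c96c52b7a56a4ab295612aa24eb49d4939924da49749029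15d219a42a47c68f891ef23d8479a8b11160a2bf456a8ac512c22294450883109321214220843d085a0b2416282b502c2052409a80d901920214040807d008a0103ff47fe4ffc1ff53fde7f90fc11f343db27b14f611ec13d7c7ae4f4f9e9c3cda7980f2f9e553c787660eba9d713a10740ce671cc8398672a4e521ca038ee71d0e1f1c0737dc6f40dbe9b7b36d86dacdae1b5736aa6d1cda31b1c35f66bc8d651a7334ac6850d0799f733e267accf499e5338066eccdb994832246320c6118bf31306254c48188c311061b0c31184f308c60d8c15181d300e6010bf497be2f1e5e30bbf17782ee45dc0bb6175c2eae5d4cb7496802cf259d0b37166a2ccc5978b27164b2c8e5918b2196262c445874b0d15f72be857a8aea95c02b6c55a4ab295642ac25558aa8954d2918521ca4) (nat_lit 8000))))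
noncomputable def a_u_pi : Nat → Nat := BT.record a_u_pt (nat_lit 10) (nat_lit 1023) (nat_lit 15) (nat_lit 32767)
noncomputable def a_u_t0 : BT Nat := (BT.leaf (Nat.lor (nat_lit 0xc7f1ec771cc6f1ac6718c5f16c5714c4f12c4710c3f0ec370cc2f0ac2708c1f06c1704c0f02c0700bfefebf6fcbeefabe6f8bdef6bd6f4bcef2bc6f0bbeeebb6ecbaeeaba6e8b9ee6b96e4b8ee2b86e0b7edeb76dcb6edab66d8b5ed6b56d4b4ed2b46d0b3eceb36ccb2ecab26c8b1ec6b16c4b0ec2b06c0afebeaf6bcaeebaae6b8adeb6ad6b4aceb2ac6b0abeaeab6acaaeaaaa6a8a9ea6a96a4a8ea2a86a0a7e9ea769ca6e9aa6698a5e96a5694a4e92a4690a3e8ea368ca2e8aa2688a1e86a1684a0e82a06809fe7e9f67c9ee7a9e6789de769d6749ce729c6709be6e9b66c9ae6a9a66899e669966498e629866097e5e9765c96e5a9665895e569565494e529465093e4e9364c92e4a9264891e469164490e42906408fe3e8f63c8ee3a8e6388de368d6348ce328c6308be2e8b62c8ae2a8a62889e268962488e228862087e1e8761c86e1a8661885e168561484e128461083e0e8360c82e0a8260881e068160480e02806007fdfe7f5fc7edfa7e5f8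7ddf67d5f47cdf27c5f07bdee7b5ec7adea7a5e879de6795e478de2785e077dde775dc76dda765d875dd6755d474dd2745d073dce735cc72dca725c871dc6715c470dc2705c06fdbe6f5bc6edba6e5b86ddb66d5b46cdb26c5b06bdae6b5ac6adaa6a5a869da6695a468da2685a067d9e6759c66d9a6659865d966559464d926459063d8e6358c62d8a6258861d866158460d82605805fd7e5f57c5ed7a5e5785dd765d5745cd725c5705bd6e5b56c5ad6a5a56859d665956458d625856057d5e5755c56d5a5655855d565555454d525455053d4e5354c52d4a5254851d465154450d42505404fd3e4f53c4ed3a4e5384dd364d5344cd324c5304bd2e4b52c4ad2a4a52849d264952448d224852047d1e4751c46d1a4651845d164551444d124451043d0e4350c42d0a4250841d064150440d02405003fcfe3f4fc3ecfa3e4f83dcf63d4f43ccf23c4f03bcee3b4ec3acea3a4e839ce6394e438ce2384e037cde374dc36cda364d835cd6354d434cd2344d033cce334cc32cca324c831cc6314c430cc2304c02fcbe2f4bc2ecba2e4b82dcb62d4b42ccb22c4b02bcae2b4ac2acaa2a4a829ca6294a428ca2284a027c9e2749c26c9a2649825c962549424c922449023c8e2348c22c8a2248821c862148420c82204801fc7e1f47c1ec7a1e4781dc761d4741cc721c4701bc6e1b46c1ac6a1a46819c661946418c621846017c5e1745c16c5a1645815c561545414c521445013c4e1344c12c4a1244811c461144410c42104400fc3e0f43c0ec3a0e4380dc360d4340cc320c4300bc2e0b42c0ac2a0a42809c260942408c220842007c1e0741c06c1a0641805c160541404c120441003c0e0340c02c0a0240801c060140400c0200400)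 (Nat.shiftLeft (nat_lit 0xe8fa2e87a0e7f9ee779ce6f9ae6798e5f96e5794e4f92e4790e3f8ee378ce2f8ae2788e1f86e1784e0f82e0780dff7edf77cdef7ade778ddf76dd774dcf72dc770dbf6edb76cdaf6ada768d9f66d9764d8f62d8760d7f5ed775cd6f5ad6758d5f56d5754d4f52d4750d3f4ed374cd2f4ad2748d1f46d1744d0f42d0740cff3ecf73ccef3ace738cdf36cd734ccf32cc730cbf2ecb72ccaf2aca728c9f26c9724c8f22c8720) (nat_lit 8000))))
noncomputable def a_u_t1 : BT Nat := (BT.leaf (Nat.lor (nat_lit 0x9ef2dc163d82ed3acaf28d5eab86f79c5e9e7b4ce46197d393de24f9a355b5693be72e971c57332796ac1a623297b04c7a8cb22e2a75d795e1a7e706aa2428ae8ab767a98b3ba86bbafa81c6f14b2679739d09069a78a1c7a1d3d82ead173ac8f8ce0389e577addddd7e363bdb15a3741746006c5bb89e8495253cf2e7cc7077fa047ddf68d211c6b21cf76cbffa1e3e677e9ecc2f85d77486b5b6d0308cc26e9c322c4f00d5f46b5e7580e0fe6b838e27681f2f94a23b832c8877ece37bdaa0dac31fdf2cfa9f66ce7107c65fabf20bd6d0cdf4dd9311e6376b1f4ac0ef0e838ed7b0caba8872390d3b3fc3eada26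d1d5a72bf71cb5b477ede5a7a2277e90da7a3e5379b3aa9e2b2b82a85d9dd59ab02d5250dbab889a107660cbe294c9724a56bd849ef917a2d6e2a9b683a96df9fe6caaf73e1e4c92a9976aca876aaccade72de38833eb4b34bee739466bd66e3b0e3f8fab983ae8d4b01995ae6ce63999c3736c27cded86336b375ccd6c687aa4856408924d8a6019d1ac821e0e35b78e768d85fc7f6567ca43e5e09dadcf965b0dfe1fbb9ff6f2ecd276f85237e1206bb5b97737086deebbf62956ac6e1c66e9c476dd2922d9a39ab792cbad2b5b31a6729a9a3ed86be4b6d1c081636691bf896586a9b56a1c7725a76c9a525c981fc4e27926200ed35d30611954ccb856d545e43c32c2c31d4e26cab5053f2b4ae544b10889214d003d1754b96759831310d81a8372eccd609171c0d91099e1051845920378e538c711ad241d49c58d60521594e8f5469984f95c62c994383a488df584ef3fc8f3a0f045473651873749017d8e150ea4e1373695f588964318c5f94218889234441316d4a52a3f59b5acc20a13c3e50d4d58130cb615cfe4e55d6413b181715a8be43d2b64d863d9975c8ac4116e68d1425079620880610742c34014a7370b0685781a0b55299a19536500955a5456753250d7f3e86e1c97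05257c5d91f448c051d9c558a8600fb555992fd3d52cb9548873398a4b05e5f51b2d02402c250fc104b4e16446d53d4c19886274a427c6c3ad89614d644d965bda2184404712f14146474f2590c549c934c5744a0a6535105108202105169252c88b39d582f0c81ec7a19ca51644718c8c578a936d19635532104f3915a681653ccaf2a98f5e81f5ecf7004322143d204d267c8a0f8cc39845158cf0b8290984a3e0c61bc2b404e25cd6c1a5923807855c2f09c4320c4d2f4020185d0d833354b33c464074301481c0e0c940d34238911f87c28c9a05420304a01182d0351108ca22dc741d83906d1e2e85c16c770240a408ee144133a4120eca160c14124d0120115dd215a00e0845548d09418164282a12d503f0073b0d4030d30100f0783532817068580647d3450800c00) (Nat.shiftLeft (nat_lit 0x8ba46dcb74dd79993b86c9b92d2f9fa1f81d4f8b98782e6ef1e230aa9b969a71299244a5ac584e33a6f2ab6e779262f8b2e4dc77dba62de7280c3682d9617859c1786b7baf5f761e7c61c277b0ea1a7e799bd75b6dbfb09d3dbe75247a4751ca69cd13428c6fca8a9f8c2f4d425da5f437adf0b025bac6d4a4a8b8a2bab1260a8ea07d758e775ab6a78adae5c6717cceb3bcf1dbea6fc5a028eae68ee7d9f23caf2bfca2dc)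 (nat_lit 8000))))
noncomputable def a_u_t2 : BT Nat := (BT.leaf (Nat.lor (nat_lit 0xa12f9cba5cb8eb3ccf69ccb2bb22e2a778a9d27e98f66dd66aaa78ed7aa2aeaf0c76fa9be468329cabf5f977528672dc163dc52c99e74ecbf18e426e735dd74ddadb6d6de60eaf328cd37c852f6c568d8ba20baf20e0737709b6a665bc1f44c6a1b98278a0a4f7fdbb6fa24b86f79c5fce1b3f84e04bfb47c8ae58e323b9b4084242dbb356f1bdcc319d16859ee69989ca8ae2293aefa078d8bdfacf751b9f3cd4257bd756e0edc89afdd2f878e63cc1b43d66546ddc1b1ef8d0aec98668e5f6592ac08c374b93768b764c9b25c7eeab8336e0292a61f38625ec4e9fcb2a08c62c85a47e2f09ab20782f89822e9e4f3e9f2fbd3303d1aff785acbcde872ebfafa8f85e44c2b9d7da286d227dfdc3d6ba28d78879aeeb75f884a11c7324c9f297b693759b0c5eb5e12fcd4f4fdfba3de37dbb6327d741b06416b5f7a3a56a2e1d779fb88eda73ef2c3a01dcb717e5d7e1637ad240a5a0fa1a3ec6e4b791f1a45d46c6b8a5f2a7d2c4772b97a5ea966abbc6cbadeb6cef0d80de79f7488d9ce80aaad2716c4ad9dab63961bf87adbdbdf095767b31d1716258ff6bbd3619235bb61c4b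16de78adf8170187db969e676a1c8c09c681b68dc1b26bb5cd89dbb09c7749c97baa46a9b3825a5b0de06d60aa95f2701ab6e1a9699ba691af444bc40c8b1ed703dce84c0fe3895c458be6614b4646633521219462453c564da3090d529183059909d754a0e53d13b35cee20c8564d02084ed600ae1a515478f02f5124d0684bd1d3e41f5f97d228b358d3f54d62500954895a6548c580a018ce738d94240dd61c1432d8e2acca37cff3bd613a4b63e0a93d53a62cfb6295b3812c4815f48d43508fc4a44c65cf62bd9a2e17f33cd9469324ccad2c59e2916606d550816c3b0362d4b93595d2496e5d16d535102fceb0f8aa46d574a93d424170680242819299131342f1ad82545244c413390f34ac6f2091757981224b41554e5482e6701130d440ad4f284775a88d5a46a338655516b5250524d415c97a66cc015c100387c00c241d0db5d878644091389e63c6e2c97b49d2e10cea3851c1749f5dc35379960ed26400d5158a361904221886251463087250e6418ac268c611c3c0a0423159f31d6463446561a268d3e3e90f2c184129485404b4dc962887a4e10c370c81fc8f17ca81f59d68449010482749c438640c8395943a530f15a1731b4f2330c459d7919d0126cc93f45425d392ed1f51cd8168340cca526406494750714560c510b4b7239a0179350547009423260411d936181715bcba344791f9920a5560e04f5e05902908160805f05218873101901b0161c92d18471348d40f585074442100b14c500dc070150b02018114260b02a088d00301e0fc0f34c300c4a70485b41c0d0045c20400)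 (Nat.shiftLeft (nat_lit 0x94a34aba6de6311ce777e4695e7a737978cb3e51c339ac3e66ab66c7bed2e524db438f8a79caa1d5a5392e5ad177e8adea83a22ce9430bb3672e7fa08aba1dedd076243d82b078e8794dec92680dce75b29cc7aed7db26ba9dfe8cf388573aa6e5fc2245e560dd634dd76659db10e6670766a696a9ab5755d2b54b1aa39921cac6bdba2d49fe899de007f61acc621aeea1a4304c7a8c93382d5f21c039b8ee3ab4e9eaca7a) (nat_lit 8000))))
noncomputable def a_u_t3 : BT Nat := (BT.leaf (Nat.lor (nat_lit 0x9ce21dcae4a7ba17e77ba4a907f61490ed391ba276ba38ba799c638c8e327ab8f855fc8a63989a2575a3fd5abeb064d996249178bd3ebd85f90aeac6d2f9692a18b65ec951b3e81f6df3076a6669320ec9b9cd9e87955ac84adfdaa4998b8791e5872ea6acb4ad6eef709c983753c264bd2233e0b6d8d9c3a0b35d3a4fdba2d762b5afeb19d1cf912e8986486c2a2cd2b7a9610b5749ccdce98ddc8b2ca93a31e2ae3d6a5db5de3dbf8584e936f1db9a759a872bdd75fe770ac5656af358aa305ae5f8d55c46d6c5acefb6ddeecfb2aba677a55f5c05dd8bf7edf5f7de339b5369ca2a3691c89b33ab967d881ca6eb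1fbb764b778896b0fb723cc32d6d5f0b79b68aef4d701bfcc743bd1f16c69c6d320c89af9c310e26c47ef02e4e80b36b481338b4325bea3794ae26adb9cfe786e1c6c3b0686ac7a6b9ae12539c9e7cf2cc741bebb1e187a0fa91c1ab1b2c875096dd4a61d5be276cbe1dc7317d9627a36427cb7086776db1feb2f9fc2318796b89bf9bb823dc4e75e3223d32fee1a06789f37c32ca75ed86f03a6741e6600e49bbbaf81b6391e5f47805dfbd6087fe858faadbab0080b6b983297166a9b688abaa99033ba29ded8a7fc49efaaf37a52f1a0eb69ee7ca9e919466bd71ada26cf96634a5a50c5afcd0b1bb3b63108c116474634a23b1044b9823b4d23d9594a40e4b0916817a33cbf2cd55401074242316d89088af5e1624d1063f8015a8600841115503640e24bc9664cc63f19f261805f9304a9414f5395987d3803b0015c5297d5b8b82dcc2580da29c2710cb4194ff5843337d361e8c85a4730d0d43741e484ea315154ed0d4f8163958122d194595e44542069571f15b5699644cd1021373e4f20a5981a1402d4d63c5280c91027c950c41f4700553cd91c0072c47e1589d518e40b89339c5f4488665cfa065942f943324a1024474d4c3548f346c8245d016382f0282500c2a0113136d6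5090524948e3d173050d5664ca4608967156370e35218a52ca92a99a3386c3d46707153421321240b228694aca8574761404a2d88821502061332e8ac3f57406c2d1dc451ad20199844299e534ee4e9261b8de35d646490f0a04d5ad8f201050e10c25158184870e98c4881348c6314c3d3ecf01c8e82785c3dc4f49d6d5c0cb2e4b05e576189714781d5d43e2ed5f1208d4f12d1c42005440334c7361442f0a426991281854e1723000d1a8a6138780dca5265a15f08f2f4d00183647cef2ac9b15c8328c301907b2c94e111881749c3ad86210f83996f60d4c0ada24742c2b914468751bc5e3317b11949550264399d0e5771fd453a4170f092105470fc02205a31504b16951310e1144ad59c8c5b17f1e46d0d44c5a187030d34fc0f24097540126541042d2466c5862d63) (Nat.shiftLeft (nat_lit 0x7837fbdac8dde5fd479874727d823a8ae03cb71dc6641e0da8c7b2e73284b9e0a7666e71f6187e11bba0caa9e86db8d95f04be6c9bdee6e02de74f4574b40cf68f7adaee7a1cb6a7edced1bf724a7edba82c388aff7d314b86c097b44826308eeb09a1a5c69aa7a75dcc1e4d52c26f752abf66d1a97e5207d7af2bc3959eb1182f8ebce8ba325ccdb0d69f3285a67a1a28de62add371699cd81681a39faa6ed275f7a8d664)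 (nat_lit 8000))))
noncomputable def a_u_t4 : BT Nat := (BT.leaf (Nat.lor (nat_lit 0x9838fe520b69b53e4dfc829a9a2f5e7d5bfcfa4296a2bcda579528cb1dfdb922aa1b7c79a3e9d5d0d81f0d9da89fa35dee0fde7a175e4bcef426eb41b338397e1d77dd19e6b2e2f789971ca7a32d75f7b637697659d936bbaddda6e56aa66dc4b24da2376b9a58ee207fea2deba08a2f0a0240d8b4cbef5cadefcbd289946f1a15faab1b8ae23a9fecfadb56d25c774a176f78171a876d6d0aae199aaaea4763d971b7a648c962779611d19ab9ddbba5b176d316dc32781f39ce9c36bdc8b73317538c6e6bfca23c7036a991b66df3fc322e9e20e7d2b5c7e23c2e437e788726676c9caa4f55ccae2be720a96d5ac5cde7b5ba733884e5b6b6d2df68ab6ee9892336cdaaaf2a1beae1b1aedb5ab0b4f11bdeb3c4e06e49c5bf9d37da58d5f98c0b0a8d2c1c85acb1308a83589cf0daeaa3e5f2ec0f3082301c02f87cb61c7a63e161b8336c79e2980eecbcf33c1714a5ed9e12aa86ae0b2782cf78ad65d6d11eeca639e59cf765e275600c57048ff26c66849c2e69db5f7b205929eb6fa7c7a2eadbf07d478088a537ef4ea69ed873a3761c29d2a4a530fe26b9c8eff84212dd773e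6e1fad2a6cab8db4662b2a68e1e2c72e82b02cb8624f93a1ed2e95782618c22d9f77fa0647ba216926af9136e6c2da8c752b8f90cd72bd526908840181915c0b40c0e300cda39d2a42d3201d085ccab1b977298f967c9c004de6184c040481b0b610d9a4f96e0596d5805f0d99021d830b886204be3a86a2108b1115f2301729d7d53411065673c0ac0018254d5b1f93a32d624d133658a04d8e263033350ff0780946c4e2cc42375610d0df099130b072419385a928035415a47b50cb15a06b4b95040581308d23c96c5d59b1e9933356b65524234b03b4042649b51cb8164830fd1d3f43b4f0e53ed3b5103c4c50d4e5222a831508a2014b5624d3629802919c5e0c43e98b5517f2fd712550a4b44623d9735ceb3f92c49494160b26659d125460ac9243c454fd123817607165544ae524e13c55a468732b5263a14a039984c05c63cd91d437228e64154e1d1725141d4015c6886963907174711fcc12255e574c749d566344f45c886103d068c015cdb370cc564661887014d9e4106d484914504a1586f1856f02974480a1440286480b178ec1f0184f4cf390c62790c31447150fc08ca50b516599351414f054642ecca0e9a0530931e5190e4af050d82e46733929358b7554512608527d7c4383812c9061c1f68402155155e42125cee06cc9238652a012080c83447d408352e84d55da309c7609480258295909d0bca318c5a04d4b5492347c523e1112f03e104f44aca9560323d8ef621855ec7847948208d52f537424c30a9401dce9268085e806031941a00f340f740d2f4605b470f33d4245f963)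 (Nat.shiftLeft (nat_lit 0xc3b10c6ae77fb6da36de7e22678f9c76eeed03458f5e1772f2c1b3cdf9f3bda9f9065cb51efa6225e46c377b77e8a729c6e5c6322cbe6fe7e02a3f2dda71dcb204a66bbb0a0173ad79b252b77488265e691c1e1b99a3b43d41b1b369da4a88956fda0f4db234ae7614bd6bd941f1bbeceaa2c576b47dd35a931a7793728be7bdc621712669ba386f337afaada9f349374f8378ee55eaa427a7326be6adf8db66c264585646) (nat_lit 8000))))
noncomputable def a_u_t5 : BT Nat := (BT.leaf (Nat.lor (nat_lit 0xa1aa4c3ad6c469b8fb36a3f2a786dc9f1ef693416ba6b6ce046f619845fbcfad8766afc41a8aa6a797388b57027a5f8b1329c0698b42738d36c79f9769e6ad09c6856fae0ddbd92cc969d08cdecb467272afc69acf6d73baff7b6cab778a52e69a994763ac1de721eab53a3bba94b01cb92e6d6bf656e6966c5d187f77715f4a4f5db35df7031789ea8e45e4abadd7564675ebbbb261a566e8267fd81ad80dce905e0b7abc7e671df68871edb72683a2b8c7538482a89bb5e87eb73b0f0dcc5dd7f6e2c3e0570f8ead69f7131bd2a8b7fabace680a7621ab31675b56ad1d8b49f0a5edfdfa498e65f73235e4dcfe6f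69b26bede9e3a870bc4e6584b2dc25bec9247b15e5e71f3d32239575095214e4a0e8024ada2c7b2af8a8a0bb0aa381f2ed6a22b237183352c21c17b9ac8a7538076db8780902fda0b30c8b49cb1e6a6b33cd6f3df3059365d8f645e8aa68e9b6dd1f7c13959ee59bfebda7381a66e7b6662d4755b8e8186a8cc2a50dda42e829ed86b6c82b99834e9da448c1bf99ee6d0291e536687a6c6ab3f6eb6aab631c4b8a695b8bc307cf38bbc60f8f2ce6d1d2ca34bdbb14b973290ef5c86eb76a588ba1b8b5cd8e3a1a42859d1f5d6372be726d9e188931cd238284e48d533ae19bc93a576df75d6dffbfa3698e2f110a34441903586184953a8d95b49d4b46e5e54b4050b568971f97500d95410c62204a5290c15048675702d8c957456644c12804d0fd2105167140c00f4fa11528088e11a89b5a4aa01c27558672044903d9e5254e680cd418e8455764ac52640255ac1e241610ccb21313f3f85a018d33bcdd479961e13e61126441556498c06997249051794f355231e8ed5359f41c3a194573452a2b4c71d4e31388d0618f04d600bd2c3282b3f41c5792f4d0a2671195b15f49ca618ceb0057a2ac053c5132bcd029066474124e50e270b016c940a9a1451643ed1f27c282a4293210a0593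a0400935c431c87c2388c010f70f18e3d120564c20391a54d8b400dc56c37279242f9525511b1a45c3481750c735d0a55a9323d97f3984024cac51588609251188f5405f21cf029d622fcda4a426519372e10f3c9414e12e2b8213e4de2f5420c8b16684b2a16666c9608d7c5ec1f06cd64f130449985f50820035339653953b5c8b53915c408bb10968635a268c8a1d193225333606f14c593cd171740860c7d3b11c0454732cf5434e24d56e460411fd7820985028201b43461d6f0e0df6246b604cc31439311092e98a1e4705c46833d735dcee20c3e268990b83639cfc1ed402e516055582146c0b548160985307640c3113d361443b6017e07447284d4244641dc622f00b1c4c30b1224c48b2dcb40c08455d3d1800200194665633fce93e05536d5138086510242cc0c) (Nat.shiftLeft (nat_lit 0xcbf44d1e78c6a168734394f2bd1668e432396f37e2670b19dcdbeaa8b3878df96c572789666c1b59a362aba67993f199d7579fa3fb2e8485ef7de36b7b6568ae28acb85c62e8c774fe7ae07f2b3a95f6b5f5ea8269cf65ec96f6b92ea899f2a4b8fdff9fd7208dc2776ee877c71ee7798c0e4cac7388eeabd1aef9f6fbd36329ea1db05c274e20b4f0cd7e02e37998431fd8a8ec02da6c1abbd2069be0dbcb79992b87af34)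 (nat_lit 8000))))
noncomputable def a_u_t6 : BT Nat := (BT.leaf (Nat.lor (nat_lit 0xcc34cdadb69f39fdfb6dad272e25d0965e1c6f03a0f1da2336969ff956337738587211d26fcbdf2d835a78a2ded02ea6ee40ddb5c7332987b25765ddd0ac9a36a972b5ae076c821ee73f5b80e848af689aa9dabb14a5b2c81f06d8f1cbf6cbcde6db86f5b71d6adee6de64197e3790b91946f9a263dceec7b665e8329caaa787db22b59f89fe6fd9b6fd1ecfc12af78e73d138ec06b2c0216d971e8f23f96f619f9fa9d60bc6a21826f69aec0a9ec8ae7577b1c1c5f2ee0e009ea93a3a98d3b1f70378a522780a76a937bd071383f3de03a0d41f3df5bfbd2e0a6b92c9ea6b11e8c3aeed83987bf869632369606aa1f599b5e86affe56e5839c86b37292e49e6ed4b45fedfdad86f48b16449a1b294aac861f2735fca7e29deb19865d7d161599dc3e2da6992f3b8f3e789f1691c77178ddc7828bf70acf59e1db7932389d338af5e9cf39d71a01c29b8ddf9ebae486ce57c273176246c9a358fa8fa97528ef28a0b0ca87348b6456a279a1767c228ba6efa84b646faba93b58d366cc4a31dcee2c86ccbee8cbc622942b0972d5c569eadacea1b90ba1c9c166eaae71ab691ce5d4a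fae498aa071265b1adfa56cda5eecaee7da073a8cab57c254c2daed3de5b05de6ae14b6dd5c36d7aff2bb0f0fa8a30ca9e7b4b02bbedd77f111fc803f15f4c96260d17274a1034924f1466300e1f13f5f557490e42053e3704e15cc016d9e181431c4bf15429318282449a2650e6546211d5a638cb1208912d821686666515554c95ac825d89e230fa030b6549224511b5fc86365913843804d67500d3374d4018bb4e1604cc3165187584341b0b130403334a42b03c5394404895228f040cab2c02c19d191e8c806494468aa65d205652c2cd7044d422f8d64d81a5e0e23e1474146e348de458651d03a56cfb42893685412b9021a586648f2140904c55d4e98b0bc8564cdb02d4d4743e3e57229c09398c71a8e31d4ad42cb8524464d06f4419b0295c0fcc522c874a0685b805160a6520da01cb4668793b4964dc24528cf4b5081248d578541ad1f600f34a98a14c51070e05f1742d4d52941f2104f0ecaf05d81220160055028900424a94acc24356a3d49f2dd1232907689180957b3dcd7661015b043108326409c670fe30d3b08d532f0e9498e80607e1ed892e4040dc14114615948f18d8f1c0ea0f53513545084304a47d330eb0744c1e196174361596d3444a599064bc2244420674112e9391ccd03fd4c1d8334b97e021851dd580ad750b5275e94f2818859184098bd5c5a33b083190c45e4445cce50a93014859360402385c544a30b815484410d41b478fd3d0f65a0b25580226d6f2a05e2615409d1c25d3d68125338f10e57748d041b4ef58cdf67c000785f3b8725a54b430e76341043c0f)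 (Nat.shiftLeft (nat_lit 0xb2a17709fbd5369d2e4f986d3ccb4abc38a841eb98e47ac797d5a80cce92769e0e4efee31afdba90ba5b482a2ad5669a661db625dc9375af1fd6aa13a29bc8db51e3dd18b2f2dd1e4982436e5eab0ae7b432f7e6a3cd762ae3536a639e11bddf270811b18ba348164ada9f4cfe4d74a7b891b5e8743e67a2e72edc41ed79b07d7ddbb69b09df46e531887f20881cea1e26e8e3a95a23e6b16be1d3e21bad7653e5a2572df7) (nat_lit 8000))))
noncomputable def a_u_t7 : BT Nat := (BT.leaf (Nat.lor (nat_lit 0xa931c9728d83638d0f067f245c771eb8a0ea99bea1dfb72e8285e96d96e7b9b23b22c9bea4ac7dc28ff8d846147e2f6bdf05bd6799be2ad36bd892bce72649df96e5e1eadf0b9bb50cf342deb2dcbb1589b467bb70896d8baac0e8e1dccea1a4f7eaaeb8df753e16dcbff38b1e718f78f816cc7733676f62d2af0acf58ac6bfa12d685629d7e5ad56babcfa28fb88dca67abe9ac2726e4f2a73f3eca2d3a8369a42d5b85d07b36f7ca106c1fd8cdebcd29e90ea3db67ac5313e1f4bb939dc376e78361d6a867e5fedc5cc6b222902eec0e37ad331811c5925d8be321be61ac2b74de34fa2de96baaeaa68e73a2879a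597e9b678ee095aedc82419c33778a76ceb82ba78b82df5b3e8971aef9f5d17df9ea9deaab67e9233f802d1c11bb7660c6c653d1e27ba375a5eca8ca07e639183dd7a7288b3b8a956ecb5e5097b29a0f27a161cb42d987f08881ad8d5f69467fe6a7c8f30ed526c9af4ce424b791dfd3a99ac383769b7796cb81a5d9b66aa6376b8f64dcf2bcc9bc755ff735f3e66d27be3bc0335b1b5682352e6dcaa0236bee1be7e018eab5b35f4a6f10d6724e49ed865b396366a3e3980b57c3dc86ea096e1b9861d2c469497db5712729d603bf5a4829ab7c72569eac6fda898e956c9b49d2736a9c76bda9699c0725a50f89f13493554d92094f2e19b1a95b5b51c508ff248bf5d9a14acab220aa579624a92e37d6e330560997e5fd824346b490a512d231e9a3210ac39588194a620d4e1904c3ad01668683201d4ed96464e258cf33bd8b4f943275954dd40504353f0914954b521495286121ced6316f551515495328126118945808d3d53a2248c19cf05d49643959390d84d11830cc2128de35cf41a5723c8f66198965ccb2a4b90dce3110b551451400fe3007b648b14c9332d92c3851648591354632b855068081f05c0fc05670c9408624756c651660ec2c57cda468c160d284e174254d60e98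e584733a02249cc60e5700a43259d98219a02295661d2f2414d2c13f454854c18f5a4020cc1241834070a25185d334315e50f3e55d3dc36448ad180a45957d3b968674c42f96b0a19e5a8571d4474d4b34b58145d104f0dc67cbc205141bc6e541844303807d223a913284ca0ac774455a628b4590661c8dd68899570fb0f09c3e8f14149e080980b427010a340c254282331d0455cec5dd7136cfd104e02c87410d1b1e11e6008b1412039c4e2dc110bc7f200545617a0b9081609a3a45b510ce26cf839947114af17d9304d29100cf3483d050091b0975f17b2f44200c1b42d991c18d0c0521781513cd034c21168594e5851d8790287e4f5732ecc501c100606d14d3623c062a1315e04841d0929c492e871640165302403c0b3440c0388e47c010a81e03417064d41f400) (Nat.shiftLeft (nat_lit 0xb6ec58b66179e2fbd30277a2e75246e1adf91e4ec59f084f5d9a230e0748bc77bae763ce784b06eb6f6a8dfeaabfaddcee2c98a8185b1bda9c1a2b12e5691bf2c4e030ca976796f60b5260e322b995e199adae275bb0e4493e78ddf41df2be909d6bcba1adba0b9722c5f8eaeddd8d2b29ef6cd72c295f18cbe4c88654d2701c67309371a9a631daeded7aa2a4b94d0351cf72ca329dde5c384a9f74e5288de8d1307d1768)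 (nat_lit 8000))))
noncomputable def a_u_t8 : BT Nat := (BT.leaf (Nat.lor (nat_lit 0xc0714c571ede33acf744d3f93b828da337470dd872e10a1f6eba26daa61ac8b18be23d9e79ccf9ebb2f7f6ef71787039be71be6fabdf9dac755e2ebe92a7a96a26e12d994635c2307d46897e713a765ce5b36dfacce8f62872da896b8a7b69a89ee8fa1d9362976ec480232c1305b25e9e8b70d7f46e16d8aeb58bcaf0d36b2e26d0ba75377277af74aaee05aae6690db4b47809978291711db71fa4334b52a1ca292cb22b766aa819fb8cf0a6c1c2b4f33dca9f73e64c732d9a7759322ac3e8287eb98870cde9e38524292612d268ebdb5cbb6546f5ad6b1beb2257bd6e77f60e835fcce78fab363d96ee6c77be8368706237fb1ddaeb4981d1d165b89f408e32685624d7794cef4282b029ce41e5798c5b5ea47579627bbfeafb1e117b1dd73b1a9e1e285f4ba5631ce38ee7b9ae877cd9af4ada628dadfb6ef1c967cd061986eeab5a1e7826e74dc5c2f79adefce4729bf6988b712c6e3a93db9721e78c1ffb16756f1cd77a3f7ca80a5b17c3a5fa06fb91e16939da7c2996df927b6dd7529ba52449a324e7e618060997655d92858239bd32c3b06038ee728b3567cf99c9dc49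229ca96637c67ec35e4695ca6aa4b9d1bfcab00dd9a66cf10e0df48f1c9719c780a5e701ae749af8e6976a6678627d6e1ab6a1b26d5a7691ba5e08f640e22a4b62ed056696b0f0e449d66570ff1391944013358f00e94d580954a17437d290b8a23dd802b86b605822f8431085e3241b1dd914ecf40a12c1d8e85318665d002e0b5354bc394fe2fc9358d8a3bd433ed8b3188d660964e05f1e4e067d4b52149528a367170370115515154953148cd47c57579955655a3695f0a4ab59d400bcf556c202c53545917070d7379882bd1463d89130f63ad465557d5e89e444680246c405961b8f9595342b512364a6270c325cac321395fca10f47d0605c064d121c7a1fd035b11d6511c1d1572308931c543152a5052e5892b2213c584bd538785b49d164ed19c535d5374896444c7261d30240aa1d4fa679364bcf243c020cc49034341285632d854989a411691ecea098ba4cd323e11b648b9104a809c154919b19515480942c071460db1410d309766398c4941d05d725f0c0200ce26d47688865748a1545a238841113a3cd4468193558dd07c0a5093e1a8e14fd8d53ce3361775c59d29c611882a00509469790b06d2602d2cc703b8910503b294a4088455f9994b56a4f4925cd6f43902540c113c3733108160310c05b2d1844306008438478690d4666856e5ed310581a2c945145211bc401cc4b41da31208b3f4f13a4a048cc4560d034ce63283918c5d20cfc2640739cb7209831f8101f0ec0c88527c065a0cf0f90b00c23010120d847134d21902403c0b0140c0382b1190a0941e418810fcd402000)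 (Nat.shiftLeft (nat_lit 0xb5eb0d535277e46a22ef796137be2fbaeecdcf32a9dd58ba0bb1b4ebfb6794228d86aea2f97b378681252e376fe06d2b3f59e2ae3cae6bd6dfa8d26c7dead9fedca6a86a3f48cdf77a8320db1d0c25f8e22c0a136aad735e4347d828375ebc731e8ace0fb39e6cc2e69aa07bce0ca2abfcff8c8dedec8723c66e4d6b31902a4cbee5df653e1eca95ac27aa93b55f59db3cd0ee1b8b2e7daa688aa3882a86d9d6c1b509c259) (nat_lit 8000))))
noncomputable def a_u_t9 : BT Nat := (BT.leaf (Nat.lor (nat_lit 0x90b7d90f71b8b529a62cbd7158364cdcae0d8a01aadeddc33cc19a982b2be436e88665d4f247bb99e1366a632cdae2a7f38bc2a24c2705e3a0bbe30c9777e76efb9f9f292ef0d5231989a8a4e45853748ef8570b9c889dcbba757635fdedf97ddfb92b96c7ac86fb76b7a9ee2229d3ebf7af6da6fa384a26e3deac2f5d7a60fa9327a3703d9225d7a0779a1073ec9c77418eab4be70fa336ad5a05df1f67d7798a339937008de1f8f208b323d8fb9fde9d7c4f38a03a285778b9b2ab867992344c978d9c758b5368c532987792b41b6d6ac48ae476c660b61f3e764e99a81bdf2d97304ccebba45b2729ccd1ed5d36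d694a7cd2793b7211d82049a241776308b695cbaf6af3696e5c094639d6e20cd2d96aeb36ff9ab7f77bb65f7f69495aa8cde16745c1d467d96319ca2b2d863fd2aa37c6ac6eb23bbf2684db8e4789711d6ac301e0f7fd5e6173a7bd56a2721afaaaea80a9ac69b4691ecc1f17d9781952db6dde8751d586de0a71cb6d5c6801d99b9acd0238d15e7a16c179736c7dcdbfaa6e033d95e339eae79decf6c28f70ed2cfb46787828bacb92684cc28796a647fb12b0f9898f1187a03d226a9aeb7a9ea9c36f4956ff7e27fab61c78f6fe7acecee50ae5f4a5a6ca0f639cf67a2688a5e36c6eb69b6fcd0aaebc71647c83614933c09d0ac4e6602353ce5589333ecdf454c92c0432b0a92a8282256d5d12e3fc950805618980014f4628f609413304a8464111112b56d6a518672ecdc21401428e4500b5670374e8de1e8e200117350d24f81a365072e4b84a4ec2018f285485285b5482c3541c3a01b1702452c0e14d261346e580044353b578a73b5550617d024c24042e59935458f34b19635c6b43d721a58241920034882ac96210c70757e0bcca568fe38d6446d2f345303182944118260d621d4c1f55d4fd7f5d55105cad320bf3146101c7c078b14942600cda2505f4852849d2a5b9915349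c58558630e94e0b63b84a5c0361f99a5e4863f48b0cd340d0656383d0f17c448af2440261c4865c90298a20e83e3357b3e4e06807455c7147008478ce291371b0fc0281f4242a32c6a624c04f0a030c7244cf5564753854e155110651418c9e48cb42ccb2311040ec703a85923d7a1dd00605924892d664dd0b4145714241576059732491a5bc7968947231033dd9b1312415c7b28c42408215599312cf20e19f4398413c601a09b229884c59e39cd82955025c391ccbc68c0b42045089535954436c40054272696910450515413e0f13e943265a115168640310c05a654cc1250c198b72f49f5dce61e0d0019710d46d1753611d836751d33d3d1485e59c585b0511d8462e8d31fd8d1bd0b57d6b234122088e1918b5e154030102b80f524324e4eb2f994618810fcef4c963) (Nat.shiftLeft (nat_lit 0x6f22f86a53a65f06cf4bbadef7fddeb16189c2767278677ef2cc721b5eec6969f819a6a425e76add8d320bf797b364679318b973ac21c7c09ad9e1d2a866769f4cb0abddd6b5e320ce55e26f70eb1f5c9be19a3aa59d350d0f6c7e9aea4a35c4259a1ab16aabaa0a44826f3e85c596fa089dd3abdd0dce1793f1cbeb32b0223cd6e8a76e3cbf22b45bbafb948cad3b1b59b2ae983ae4a82b8e6e8ba2b3f9ca40e2b87d3ada)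 (nat_lit 8000))))
noncomputable def a_u_t10 : BT Nat := (BT.leaf (Nat.lor (nat_lit 0x7becfab7426ae0f8cb7c829a4c5a7fa45d273b57aa366716f0af6f7bd77982f0bbd26aadb7787a9c709ede05a8bb341aa6f19b650c5dc4d3b90696e889ed98ff8ce6e12cbb3c79a8bdef2cceb1ba2712906cbe125b81b2091a73e366098a81cc9e0cde7b791badfe9776b2fabaced9731e5e787476f7cb3fb1b35dba4f9a3526df2a721aadb2aa91230d521fd1da66fe2ac3e1371a3a71decd82b98b216dcf2be2acacedffb0e10e7efd6b5b594a3cb8f5999f8778b61adea7ca3276bdae75b557cdd86cf519ba8f702eb8d25e861e7a237579794b635f6c725a0f95d8df96a5b4725cac6657dca6fc11d473ee586a748fb86bbe6bd2dd5d5a337a63b70e07e825f92db8d0e70a7714ba6d1766879db7eb8b50c771f95b248ba95a5a99b7eab929f6a6dacd63837a333b9a54e89db94f189defab229fd26c0ad2f6cfadbc1648a69cd9f5be807a1d8b96d1238a36e1896c196ab0aeb2dc576abcb09d3e98acb89a925873211c41fbe65d38f6f9b4b5bb51c1b4ea2a85b69caea8af9ee6b01c3a0cb16beaee047d2b17c77d6f76877600e4798956dabb7857ead7a4a2080a03d2374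8df46abe197ba647fa65e4e15de1fcd3221786dd8da4c90ecdd9fa3cda29936248167a7f60ee76669d5e38535add9f891753c2ae4dc788e2e0d17483118c71c0660ad691f8e42459b345300fc061d0943c843558db070ed0497f2d46834c056846e0b12a25582429204e8d83289838c110dc8a425892212c0c8e7214f36282306174140440953515d1a001973bd430653f4308d5d51d2b4ee314754f0101615142062664aa3c50e5255302d5420973134561208c1316b42d5f0a0b350167024eb2f82e4d0de6580119d1646188249315d8f4564f63d5463f47c28c933dd2868cc10a8c3464865e5125893364ca62bcd72a1134b46f5043c0696d2e45b5712922c9e200774dc9661d1c384bc654493244b1fd7e2b9804c8721299f008e94f5580209b3b14d194366616c46d642acc86516624170154fa574644bd1053d610796045c340a4c032c3e2dd1e649054891540c9f2c5385ecb4410070e45e5c41f56d5a0e8ea5a8a2284a03f9913580d4198f4958d6397a4f8cf18cbf1e4ce554b20e0a4678f01a85111d1118524618f968087354d02641405c813806962d2643ce25bd236881501157074e5435001e9652103525c212b0c617cb03109c06d440c0bd4b8b64ac6b5c83b37013295834086c3e0260bd4b54840268241ed842a44551c270884e1b59c5147d1cce80f4d20b420169776407813c5400ccc368d9274cd180715a0e60c4dd37c0a1084147d3623d50674b84518c148fc5f54a668591d9852e8ff4854e5315e29d3b41c8914c8e5f0165e00e0314849c0f170bb4e4c240433605423ecd45b963)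 (Nat.shiftLeft (nat_lit 0xb0a8ed374aa51bb9c6dcca642c01d0e02d0da7349727c88f07afef3a136bbe32388ac9c8b92b7aff875dc821eb872eec7aa3b5693a828c902ccdb6e0d1713c730d6f306b135cbeea693a806c2fe826b56cb118be59b5ab3af36492679cc28286ea585ee7c0f1a8d75eb1f2198770e722d975cb98dde7d686d75a7ab1f7c99df7ab0c6e77aa7a908e5f0cf6479a740e3dd7ce6519b2fcc228a9fa31ae226a17028a338e3b82) (nat_lit 8000))))
noncomputable def a_u_t11 : BT Nat := (BT.leaf (Nat.lor (nat_lit 0xbbb3cc6253b8dca721ba93b2bc231acc38a7b5c58068ae6eae9b738e55c4749a9c8740cf687e69cecfeb89f66178731d1707c8b439c34ec56e0e42c972e037c5c3aaf37c2f88719b96e3a18ab3ab9f23a9b98899f273e1f75298db797bda71c5396dff84ba244e727c77b7dcbf509da45772069279e929e0b8b13bdf2d9730477f00a0b356b202c768cbe75fe36ca8b2bfc41d5dce1b85b6b8cf91b2279b8705be31ed131176660b6234e4a697cdb1beb03d672e6c1f4d4638cedffd5230d2763b32789a1fde75e3d4b0fe7e52b76a4952dbb79a7bf5eb821ad95da8b99b3e1e62a073285793a4a8b7df0176224c2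6c5c96957fa6eb06c2812807260c8edc782685dba4f83ae4a1a0faf61cd725ddc664dea43df2d9daa2079672c66737b3576f9ae7ea9ba5a99da2b7937789ea77d3e29b2f8fd7af1d22008475dd86afe3aef9d1efa525bdc20ad99c299b5a8d5e696ad1dbed69ab7bde6ecc4b69cd383a9e6388e8f735bcd327bd8b778c9f5b42b5a0dd19fe88a25b7dda3976a25dfa42c9f8cb6a919ade2816a9e16f0d836790618e89dbb7e9a8af46db2c4ada27e8deec0a9fd6e3fa12fec7e1e902d3b5358a8aa1baef395ac0b0ebaa8edca9736aaab3d56bccfab9cced5aef28e0659ac6b2e1a37a4ebea434dd2a9ebcaa027cba208285549b2393c08d0a67d815015f4615263c3a454114ac702891a5f99a4f942521980541c540171f8d2014164180a0c17a0a4095a0723d4fa324e347d8418d412558a4241932177565602206558cae52534458b1275825acbe5f44555c3b248d33403301983140c06802d350340081e53179214aa6006b4c9171a16a388fd56d240b8ad4344341c481247d464da2253f155921a9434e18b588942a4250e4ed0d43f0e04f3cd5e298f133403060a74309e57412445563544701c694716c4ed94379674b46740c4b5693a5508c24451480b532c261e0fb2e55c2e0d6159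0552c543385a258c61006e24c763919b2dce836c875448d54cc75a5335d8326543c2700b0392a49c242fc4a15c4d4106d450e1634752017c0107c104e74982a0749a68ce6034011e9100f54d43c5242d132b0d10219e53d6413898659650f92c2f4dc2ac2704d732c0b32bc61614a817cc25fccf539996714a684b24d4c3494ea4491b639702946007c1b620c5109865b8eb519721b0843e1a2228d92f074360e02653d32921205936441a3e4f251171330621ccf73f0593116137cec408904c58c3c0ee4399d25ca14788b5bd37179224c16608147560445e123304e93d9455d0662d8a41fc640dc211e4584202f28d7b1c5901182c051011ecb40ac22400dd3947720c530d8100c48623d2e625973d1281bca02ed2f4e58703cff5d40c3bc5d4d9291305b5b4fe35c5c47400) (Nat.shiftLeft (nat_lit 0x6edb6c5f659d6137a6ea8ea468662ee0affbf3427e65f8bf74c6f16dd65582f8bd1f39ba63e743268f21087720d2dccc32ce94341bd1f69225e88a28851d7e83297c30ae2636776fbcb1bdd5b2a91df88c70e79e58e02ad9b1c1d9207d4e3dc35e89bdfc7aa656d5bfe520dbd67e84ac774f24b5eed6bdb26d22db19c0b4a8e99da685eacb3e51b36b4dcb1ca364c6adaa79306b961a88799aa29da71fba5dd66964b692b0)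 (nat_lit 8000))))
noncomputable def a_u_t12 : BT Nat := (BT.leaf (Nat.lor (nat_lit 0x7369eacf34e3f148f71de878ebced3afa0ba72ab9fb62d5f7dba76e98715be32ea82baa49d3992b8e59ce9d795daa93ac69faf6d5d3779711a58a1e48831fd1a0c7179ce1ecfb866fcb64ec6ebfa86f2776779edbe9e1eb90a99d1e106d1c972b3f849fbce77ccde858aeaebc2a3d2b41981d87065a96dc2ab1aa92db86cdc06dafe8c9d77eb366e9ae6bf2088b0cd7b3abadbb79b2981edf6f67a6fdc7719a4749a6ca3278d9dc8d2d8c963597a1d6ae677a9a98133ecceb299b0e7d5f6c0a4d949cf7e6b79ae587df4cbf6cc8022fa8a848bac7e7e1f8f23eb52f5d565cc2f5d7a60fa5a83cf617d4a4681a6cbf29ae4b76922bb872136c3609c5c3e3279c727cce37b943178c732c8ac1b0f77d979ab1ace911ee785cb74386d63839579b7ca8c6b36c85698a95fdd8e88e4798d0aad76ee38b37475add7c26281775cae40b69cce064aaa32ce65e0ceea79a773e7b4b897829324fd3a56e2e1a94e73d6ac479e59bbab4c3e26a2a5da0b54c9a37e4f64997787f28ea56dcbb76f879d4c463b9d353e7756d86148ff2fa01e8beec0ae6cbdaec5779f1a6e63dcb24aaad9d2707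7e385b6f0080f7ebbf1a95f19952e7c4308bb218d7340d4239da202e8f18b9ae57d3a2d47439bb44a528fd16389cab5cc730c1a709db3cc8f212ec7623d4d664ac148913918a24986060a735d081a92c1a42e64c8731c564a16c064810407e265705415c661432558b564c40c17a518435a0d90343d2787a190861347d0150a56d3e36d7741848298aa58d27171666591c44cf44ed0159c4555d1067cff3759437d832ac932d1473bc90585871187b0f8654a9885b9974b9891b99c425000452913009235603694115c490481a414a463cd202016344bf22d3a1084a1b0fb5c44f0050b2218c4c5955015f644c92c089444b62cc534dd152c59a5ac334d57d3c0cb40c590a825038044f05f3d97419c771803f5d417474664685502c544885a1f08a100e2300ba08ce55c93d3207016d07090a2385301d07100cf243d4b551802b953250ed464633e46d5cd69370ea2005d230961054e33d5a28c7304da23d4f338c3b3e8282708e5789d26d624e0af28544494984591b2143a0c58d1401468d14574d5678bc1bca8144eb5b52639d553f45806d9d378fe138754bd653801c51478085a11acc50e5814c8c20a4b70d4f7088e631872185760bd8e054e8328795092b4313f4103c590385bc622688425c4b02802018ec17834334f14b4ee080b23f14f478a933007408ce4cd344382d560444d87f304e9480a52d4d65599248d1f0dc1f4854a548d80757b0c9395302c09cbe5e5a0280f8490d066c260d84720d482f584208685a9176097e6142b27d126401e03cd32e40c3517c5e0ad435515fcc3461492e000)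 (Nat.shiftLeft (nat_lit 0x755dfb93719f6c2a06cdc3701caadeb5ad2c274f9a297a92f18aa21abdece2b12db6e89b5ad796d0823976c75fb45efb2a4383a45836307f9f3e3790aa73591e1b84651b5dd9a9a4182a3378a19e835ba19ff88de3ac2298924974616a45c88eb676e689d667fa36c88b6f46a201dfda7a1e27e25dabe69dbdb94deb04bfdb7c0f1ea2ee2e230aba9bcada096d66abeb13b2690af369c5b66dc1b27b78497f48b82f7c1780) (nat_lit 8000))))
noncomputable def a_u_TT : BT (BT Nat) := (BT.node (nat_lit 6) (BT.node (nat_lit 3) (BT.node (nat_lit 1) (BT.leaf a_u_t0) (BT.node (nat_lit 2) (BT.leaf a_u_t1) (BT.leaf a_u_t2))) (BT.node (nat_lit 4) (BT.leaf a_u_t3) (BT.node (nat_lit 5) (BT.leaf a_u_t4) (BT.leaf a_u_t5)))) (BT.node (nat_lit 9) (BT.node (nat_lit 7) (BT.leaf a_u_t6) (BT.node (nat_lit 8) (BT.leaf a_u_t7) (BT.leaf a_u_t8))) (BT.node (nat_lit 11) (BT.node (nat_lit 10) (BT.leaf a_u_t9) (BT.leaf a_u_t10)) (BT.node (nat_lit 12) (BT.leaf a_u_t11) (BT.leaf a_u_t12)))))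
noncomputable def a_c : List Lvl := [⟨(nat_lit 1), [[(nat_lit 7)],
  [(nat_lit 9)]], (nat_lit 8)⟩,
  ⟨(nat_lit 0), [[(nat_lit 5), (nat_lit 1), (nat_lit 3)]], (nat_lit 1)⟩,
  ⟨(nat_lit 7), [[(nat_lit 4), (nat_lit 2), (nat_lit 6), (nat_lit 2), (nat_lit 11), (nat_lit 9), (nat_lit 5)]], (nat_lit 1)⟩,
  ⟨(nat_lit 2), [[(nat_lit 8), (nat_lit 1), (nat_lit 6), (nat_lit 7)],
  [(nat_lit 5), (nat_lit 11), (nat_lit 11)]], (nat_lit 3)⟩,
  ⟨(nat_lit 5), [[(nat_lit 4), (nat_lit 2), (nat_lit 6), (nat_lit 7), (nat_lit 1), (nat_lit 7)],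
  [(nat_lit 10), (nat_lit 2), (nat_lit 10), (nat_lit 8), (nat_lit 1), (nat_lit 6), (nat_lit 7)]], (nat_lit 1)⟩,
  ⟨(nat_lit 420), [[(nat_lit 4), (nat_lit 2), (nat_lit 2), (nat_lit 4)],
  [(nat_lit 7), (nat_lit 1), (nat_lit 7), (nat_lit 3), (nat_lit 1), (nat_lit 11), (nat_lit 11)]], (nat_lit 1)⟩,
  ⟨(nat_lit 9), [[(nat_lit 12), (nat_lit 12), (nat_lit 2), (nat_lit 4), (nat_lit 8), (nat_lit 2), (nat_lit 8), (nat_lit 5), (nat_lit 2), (nat_lit 4), (nat_lit 5), (nat_lit 1), (nat_lit 3), (nat_lit 5), (nat_lit 1), (nat_lit 3), (nat_lit 5), (nat_lit 1), (nat_lit 3)]], (nat_lit 1)⟩]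
noncomputable def a_X0 : List (List Nat) := [[]]
noncomputable def a_X1 : List (List Nat) := [[],
  [(nat_lit 1)]]
noncomputable def a_E0 : List Ent := [Ent.split [⟨[], (nat_lit 0), []⟩, ⟨[], (nat_lit 1), []⟩]]
noncomputable def a_X2 : List (List Nat) := [[],
  [(nat_lit 3)],
  [(nat_lit 1)],
  [(nat_lit 1), (nat_lit 3)]]
noncomputable def a_E1 : List Ent := [Ent.split [⟨[], (nat_lit 0), []⟩, ⟨[], (nat_lit 1), []⟩],
  Ent.split [⟨[], (nat_lit 2), []⟩, ⟨[], (nat_lit 3), []⟩]]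
noncomputable def a_X3 : List (List Nat) := [[],
  [(nat_lit 5)],
  [(nat_lit 3)],
  [(nat_lit 3), (nat_lit 5)],
  [(nat_lit 1)],
  [(nat_lit 1), (nat_lit 5)],
  [(nat_lit 1), (nat_lit 3)],
  [(nat_lit 1), (nat_lit 3), (nat_lit 5)]]
noncomputable def a_E2 : List Ent := [Ent.split [⟨[], (nat_lit 0), []⟩, ⟨[], (nat_lit 1), []⟩],
  Ent.split [⟨[], (nat_lit 2), []⟩, ⟨[], (nat_lit 3), []⟩],
  Ent.split [⟨[], (nat_lit 4), []⟩, ⟨[], (nat_lit 5), []⟩],
  Ent.split [⟨[], (nat_lit 6), []⟩, ⟨[], (nat_lit 7), []⟩]]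
noncomputable def a_X4 : List (List Nat) := [[],
  [(nat_lit 7)],
  [(nat_lit 3)],
  [(nat_lit 3), (nat_lit 5)],
  [(nat_lit 1), (nat_lit 5)],
  [(nat_lit 1), (nat_lit 5), (nat_lit 7)],
  [(nat_lit 1), (nat_lit 3)],
  [(nat_lit 1), (nat_lit 3), (nat_lit 5)]]
noncomputable def a_E3 : List Ent := [Ent.split [⟨[], (nat_lit 0), []⟩, ⟨[], (nat_lit 1), []⟩],
  Ent.dead (nat_lit 1) [(nat_lit 1), (nat_lit 9), (nat_lit 15), (nat_lit 17), (nat_lit 21), (nat_lit 25), (nat_lit 27)],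
  Ent.merge [(nat_lit 5)] (nat_lit 1) [(nat_lit 3), (nat_lit 5), (nat_lit 11), (nat_lit 13), (nat_lit 15), (nat_lit 17), (nat_lit 21), (nat_lit 27)] ⟨[], (nat_lit 2), []⟩,
  Ent.merge [(nat_lit 5)] (nat_lit 1) [(nat_lit 5), (nat_lit 7), (nat_lit 11), (nat_lit 13), (nat_lit 15), (nat_lit 19), (nat_lit 21), (nat_lit 25)] ⟨[], (nat_lit 3), []⟩,
  Ent.dead (nat_lit 1) [(nat_lit 5), (nat_lit 7), (nat_lit 9), (nat_lit 17), (nat_lit 19), (nat_lit 21)],
  Ent.split [⟨[], (nat_lit 4), []⟩, ⟨[], (nat_lit 5), []⟩],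
  Ent.merge [(nat_lit 5)] (nat_lit 1) [(nat_lit 1), (nat_lit 15), (nat_lit 23), (nat_lit 25)] ⟨[], (nat_lit 6), []⟩,
  Ent.merge [(nat_lit 5)] (nat_lit 1) [(nat_lit 1), (nat_lit 11), (nat_lit 13), (nat_lit 15), (nat_lit 17), (nat_lit 19), (nat_lit 25), (nat_lit 27)] ⟨[], (nat_lit 7), []⟩]
noncomputable def a_X5 : List (List Nat) := [[],
  [(nat_lit 9)],
  [(nat_lit 7)],
  [(nat_lit 7), (nat_lit 9)],
  [(nat_lit 3)],
  [(nat_lit 3), (nat_lit 9)],
  [(nat_lit 1), (nat_lit 5)],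
  [(nat_lit 1), (nat_lit 5), (nat_lit 7)],
  [(nat_lit 1), (nat_lit 3)],
  [(nat_lit 1), (nat_lit 3), (nat_lit 5)],
  [(nat_lit 1), (nat_lit 3), (nat_lit 5), (nat_lit 9)]]
noncomputable def a_E4 : List Ent := [Ent.split [⟨[], (nat_lit 0), []⟩, ⟨[], (nat_lit 1), []⟩],
  Ent.split [⟨[], (nat_lit 2), []⟩, ⟨[], (nat_lit 3), []⟩],
  Ent.split [⟨[], (nat_lit 4), []⟩, ⟨[], (nat_lit 5), []⟩],
  Ent.dead (nat_lit 1) [(nat_lit 3), (nat_lit 5), (nat_lit 19), (nat_lit 21), (nat_lit 25)],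
  Ent.merge [(nat_lit 5)] (nat_lit 1) [(nat_lit 1), (nat_lit 3), (nat_lit 9), (nat_lit 11), (nat_lit 17), (nat_lit 19), (nat_lit 21), (nat_lit 23)] ⟨[], (nat_lit 6), []⟩,
  Ent.merge [(nat_lit 5)] (nat_lit 1) [(nat_lit 7), (nat_lit 11), (nat_lit 17), (nat_lit 19), (nat_lit 25)] ⟨[], (nat_lit 7), []⟩,
  Ent.merge [(nat_lit 3), (nat_lit 5), (nat_lit 7), (nat_lit 9), (nat_lit 13), (nat_lit 15), (nat_lit 21), (nat_lit 29), (nat_lit 35)] (nat_lit 1) [(nat_lit 7), (nat_lit 11), (nat_lit 13), (nat_lit 17), (nat_lit 21), (nat_lit 25)] ⟨[], (nat_lit 8), []⟩,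
  Ent.split [⟨[], (nat_lit 9), []⟩, ⟨[], (nat_lit 10), []⟩]]
noncomputable def a_X6 : List (List Nat) := [[],
  [(nat_lit 11)],
  [(nat_lit 9)],
  [(nat_lit 7)],
  [(nat_lit 7), (nat_lit 9)],
  [(nat_lit 3), (nat_lit 9)],
  [(nat_lit 1), (nat_lit 5)],
  [(nat_lit 1), (nat_lit 3)],
  [(nat_lit 1), (nat_lit 3), (nat_lit 11)],
  [(nat_lit 1), (nat_lit 3), (nat_lit 5)]]
noncomputable def a_E5 : List Ent := [Ent.split [⟨[], (nat_lit 0), []⟩, ⟨[], (nat_lit 1), []⟩],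
  Ent.merge [(nat_lit 5)] (nat_lit 1) [(nat_lit 3), (nat_lit 9), (nat_lit 13), (nat_lit 17), (nat_lit 19)] ⟨[], (nat_lit 2), []⟩,
  Ent.merge [(nat_lit 5)] (nat_lit 1) [(nat_lit 3), (nat_lit 7), (nat_lit 9), (nat_lit 17), (nat_lit 21)] ⟨[], (nat_lit 3), []⟩,
  Ent.merge [(nat_lit 3)] (nat_lit 1) [(nat_lit 1), (nat_lit 5), (nat_lit 11), (nat_lit 13)] ⟨[], (nat_lit 4), []⟩,
  Ent.dead (nat_lit 1) [(nat_lit 3), (nat_lit 5), (nat_lit 7), (nat_lit 9), (nat_lit 13), (nat_lit 17)],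
  Ent.merge [(nat_lit 9)] (nat_lit 1) [(nat_lit 3), (nat_lit 7), (nat_lit 11), (nat_lit 13), (nat_lit 17), (nat_lit 19), (nat_lit 21), (nat_lit 23)] ⟨[], (nat_lit 5), []⟩,
  Ent.merge [(nat_lit 7)] (nat_lit 1) [(nat_lit 1), (nat_lit 5), (nat_lit 7), (nat_lit 13), (nat_lit 17), (nat_lit 21)] ⟨[], (nat_lit 6), []⟩,
  Ent.dead (nat_lit 1) [(nat_lit 1), (nat_lit 5), (nat_lit 7), (nat_lit 11), (nat_lit 13), (nat_lit 15), (nat_lit 19), (nat_lit 21), (nat_lit 23)],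
  Ent.split [⟨[], (nat_lit 7), []⟩, ⟨[], (nat_lit 8), []⟩],
  Ent.merge [(nat_lit 9)] (nat_lit 1) [(nat_lit 1), (nat_lit 5), (nat_lit 7), (nat_lit 11), (nat_lit 15), (nat_lit 19), (nat_lit 23)] ⟨[], (nat_lit 9), []⟩,
  Ent.dead (nat_lit 1) [(nat_lit 3), (nat_lit 5), (nat_lit 11), (nat_lit 13), (nat_lit 15), (nat_lit 19), (nat_lit 21), (nat_lit 23)]]
noncomputable def a_X7 : List (List Nat) := [[],
  [(nat_lit 13)],
  [(nat_lit 11)],
  [(nat_lit 9)],
  [(nat_lit 7)],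
  [(nat_lit 3), (nat_lit 9)],
  [(nat_lit 1), (nat_lit 5)],
  [(nat_lit 1), (nat_lit 3)]]
noncomputable def a_E6 : List Ent := [Ent.split [⟨[], (nat_lit 0), []⟩, ⟨[], (nat_lit 1), []⟩],
  Ent.merge [(nat_lit 5)] (nat_lit 1) [(nat_lit 1), (nat_lit 5), (nat_lit 7), (nat_lit 11), (nat_lit 13), (nat_lit 15), (nat_lit 19)] ⟨[], (nat_lit 2), []⟩,
  Ent.merge [(nat_lit 7)] (nat_lit 1) [(nat_lit 1), (nat_lit 3), (nat_lit 7), (nat_lit 9), (nat_lit 11), (nat_lit 15)] ⟨[], (nat_lit 3), []⟩,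
  Ent.merge [(nat_lit 9)] (nat_lit 1) [(nat_lit 1), (nat_lit 3), (nat_lit 7), (nat_lit 9), (nat_lit 11), (nat_lit 15), (nat_lit 17), (nat_lit 19)] ⟨[], (nat_lit 4), []⟩,
  Ent.dead (nat_lit 1) [(nat_lit 1), (nat_lit 3), (nat_lit 9), (nat_lit 13), (nat_lit 15)],
  Ent.merge [(nat_lit 1), (nat_lit 5), (nat_lit 7), (nat_lit 13), (nat_lit 15), (nat_lit 23), (nat_lit 25), (nat_lit 27), (nat_lit 29)] (nat_lit 1) [(nat_lit 1), (nat_lit 3), (nat_lit 5), (nat_lit 7), (nat_lit 9), (nat_lit 11), (nat_lit 19)] ⟨[], (nat_lit 5), []⟩,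
  Ent.merge [(nat_lit 3)] (nat_lit 1) [(nat_lit 1), (nat_lit 3), (nat_lit 9), (nat_lit 11), (nat_lit 15)] ⟨[], (nat_lit 6), []⟩,
  Ent.merge [(nat_lit 11)] (nat_lit 1) [(nat_lit 1), (nat_lit 3), (nat_lit 5), (nat_lit 7), (nat_lit 9), (nat_lit 11), (nat_lit 13), (nat_lit 19), (nat_lit 21)] ⟨[], (nat_lit 7), []⟩,
  Ent.dead (nat_lit 1) [(nat_lit 1), (nat_lit 3), (nat_lit 7), (nat_lit 13)],
  Ent.dead (nat_lit 1) [(nat_lit 1), (nat_lit 5), (nat_lit 7), (nat_lit 9), (nat_lit 11), (nat_lit 15), (nat_lit 19), (nat_lit 21)]]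
noncomputable def a_X8 : List (List Nat) := [[],
  [(nat_lit 15)],
  [(nat_lit 13)],
  [(nat_lit 13), (nat_lit 15)],
  [(nat_lit 11)],
  [(nat_lit 11), (nat_lit 15)],
  [(nat_lit 9)],
  [(nat_lit 9), (nat_lit 15)],
  [(nat_lit 7)],
  [(nat_lit 7), (nat_lit 15)],
  [(nat_lit 3), (nat_lit 9)],
  [(nat_lit 3), (nat_lit 9), (nat_lit 15)],
  [(nat_lit 1), (nat_lit 5)],
  [(nat_lit 1), (nat_lit 5), (nat_lit 15)],
  [(nat_lit 1), (nat_lit 3)],
  [(nat_lit 1), (nat_lit 3), (nat_lit 15)]]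
noncomputable def a_E7 : List Ent := [Ent.split [⟨[], (nat_lit 0), []⟩, ⟨[], (nat_lit 1), []⟩],
  Ent.split [⟨[], (nat_lit 2), []⟩, ⟨[], (nat_lit 3), []⟩],
  Ent.split [⟨[], (nat_lit 4), []⟩, ⟨[], (nat_lit 5), []⟩],
  Ent.split [⟨[], (nat_lit 6), []⟩, ⟨[], (nat_lit 7), []⟩],
  Ent.split [⟨[], (nat_lit 8), []⟩, ⟨[], (nat_lit 9), []⟩],
  Ent.split [⟨[], (nat_lit 10), []⟩, ⟨[], (nat_lit 11), []⟩],
  Ent.split [⟨[], (nat_lit 12), []⟩, ⟨[], (nat_lit 13), []⟩],
  Ent.split [⟨[], (nat_lit 14), []⟩, ⟨[], (nat_lit 15), []⟩]]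
noncomputable def a_X9 : List (List Nat) := [[],
  [(nat_lit 17)],
  [(nat_lit 15)],
  [(nat_lit 13)],
  [(nat_lit 13), (nat_lit 15)],
  [(nat_lit 13), (nat_lit 15), (nat_lit 17)],
  [(nat_lit 11)],
  [(nat_lit 11), (nat_lit 15)],
  [(nat_lit 11), (nat_lit 15), (nat_lit 17)],
  [(nat_lit 9)],
  [(nat_lit 9), (nat_lit 17)],
  [(nat_lit 9), (nat_lit 15)],
  [(nat_lit 9), (nat_lit 15), (nat_lit 17)],
  [(nat_lit 7)],
  [(nat_lit 7), (nat_lit 17)],
  [(nat_lit 7), (nat_lit 15)],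
  [(nat_lit 3), (nat_lit 9), (nat_lit 15)],
  [(nat_lit 1), (nat_lit 5)],
  [(nat_lit 1), (nat_lit 5), (nat_lit 17)],
  [(nat_lit 1), (nat_lit 5), (nat_lit 15)],
  [(nat_lit 1), (nat_lit 5), (nat_lit 15), (nat_lit 17)],
  [(nat_lit 1), (nat_lit 3)],
  [(nat_lit 1), (nat_lit 3), (nat_lit 17)],
  [(nat_lit 1), (nat_lit 3), (nat_lit 15)],
  [(nat_lit 1), (nat_lit 3), (nat_lit 15), (nat_lit 17)]]
noncomputable def a_E8 : List Ent := [Ent.split [⟨[], (nat_lit 0), []⟩, ⟨[], (nat_lit 1), []⟩],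
  Ent.merge [(nat_lit 5)] (nat_lit 1) [(nat_lit 1), (nat_lit 3), (nat_lit 7)] ⟨[], (nat_lit 2), []⟩,
  Ent.merge [(nat_lit 5)] (nat_lit 1) [(nat_lit 3), (nat_lit 7), (nat_lit 9)] ⟨[], (nat_lit 3), []⟩,
  Ent.split [⟨[], (nat_lit 4), []⟩, ⟨[], (nat_lit 5), []⟩],
  Ent.merge [(nat_lit 3)] (nat_lit 1) [(nat_lit 7), (nat_lit 9), (nat_lit 11), (nat_lit 13), (nat_lit 17)] ⟨[], (nat_lit 6), []⟩,
  Ent.split [⟨[], (nat_lit 7), []⟩, ⟨[], (nat_lit 8), []⟩],
  Ent.split [⟨[], (nat_lit 9), []⟩, ⟨[], (nat_lit 10), []⟩],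
  Ent.split [⟨[], (nat_lit 11), []⟩, ⟨[], (nat_lit 12), []⟩],
  Ent.split [⟨[], (nat_lit 13), []⟩, ⟨[], (nat_lit 14), []⟩],
  Ent.merge [(nat_lit 3), (nat_lit 9), (nat_lit 21), (nat_lit 23), (nat_lit 25), (nat_lit 27), (nat_lit 29), (nat_lit 31), (nat_lit 35)] (nat_lit 1) [(nat_lit 1), (nat_lit 5), (nat_lit 11), (nat_lit 13), (nat_lit 15)] ⟨[], (nat_lit 15), []⟩,
  Ent.dead (nat_lit 1) [(nat_lit 7), (nat_lit 9), (nat_lit 11), (nat_lit 15)],
  Ent.merge [(nat_lit 15)] (nat_lit 1) [(nat_lit 5), (nat_lit 7), (nat_lit 13)] ⟨[], (nat_lit 16), []⟩,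
  Ent.split [⟨[], (nat_lit 17), []⟩, ⟨[], (nat_lit 18), []⟩],
  Ent.split [⟨[], (nat_lit 19), []⟩, ⟨[], (nat_lit 20), []⟩],
  Ent.split [⟨[], (nat_lit 21), []⟩, ⟨[], (nat_lit 22), []⟩],
  Ent.split [⟨[], (nat_lit 23), []⟩, ⟨[], (nat_lit 24), []⟩]]
noncomputable def a_X10 : List (List Nat) := [[],
  [(nat_lit 19)],
  [(nat_lit 17)],
  [(nat_lit 15)],
  [(nat_lit 13)],
  [(nat_lit 13), (nat_lit 15)],
  [(nat_lit 13), (nat_lit 15), (nat_lit 17)],
  [(nat_lit 13), (nat_lit 15), (nat_lit 17), (nat_lit 19)],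
  [(nat_lit 11)],
  [(nat_lit 11), (nat_lit 15)],
  [(nat_lit 11), (nat_lit 15), (nat_lit 19)],
  [(nat_lit 11), (nat_lit 15), (nat_lit 17)],
  [(nat_lit 11), (nat_lit 15), (nat_lit 17), (nat_lit 19)],
  [(nat_lit 9)],
  [(nat_lit 9), (nat_lit 17)],
  [(nat_lit 9), (nat_lit 17), (nat_lit 19)],
  [(nat_lit 9), (nat_lit 15)],
  [(nat_lit 9), (nat_lit 15), (nat_lit 19)],
  [(nat_lit 9), (nat_lit 15), (nat_lit 17)],
  [(nat_lit 7)],
  [(nat_lit 7), (nat_lit 17)],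
  [(nat_lit 3), (nat_lit 9), (nat_lit 15)],
  [(nat_lit 3), (nat_lit 9), (nat_lit 15), (nat_lit 19)],
  [(nat_lit 1), (nat_lit 5)],
  [(nat_lit 1), (nat_lit 5), (nat_lit 19)],
  [(nat_lit 1), (nat_lit 5), (nat_lit 17)],
  [(nat_lit 1), (nat_lit 5), (nat_lit 17), (nat_lit 19)],
  [(nat_lit 1), (nat_lit 5), (nat_lit 15)],
  [(nat_lit 1), (nat_lit 5), (nat_lit 15), (nat_lit 19)],
  [(nat_lit 1), (nat_lit 5), (nat_lit 15), (nat_lit 17)],
  [(nat_lit 1), (nat_lit 5), (nat_lit 15), (nat_lit 17), (nat_lit 19)],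
  [(nat_lit 1), (nat_lit 3), (nat_lit 17)],
  [(nat_lit 1), (nat_lit 3), (nat_lit 15)]]
noncomputable def a_E9 : List Ent := [Ent.split [⟨[], (nat_lit 0), []⟩, ⟨[], (nat_lit 1), []⟩],
  Ent.merge [(nat_lit 5)] (nat_lit 1) [(nat_lit 5), (nat_lit 9), (nat_lit 11), (nat_lit 15)] ⟨[], (nat_lit 2), []⟩,
  Ent.merge [(nat_lit 7)] (nat_lit 1) [(nat_lit 3), (nat_lit 5), (nat_lit 13), (nat_lit 15)] ⟨[], (nat_lit 3), []⟩,
  Ent.merge [(nat_lit 7)] (nat_lit 1) [(nat_lit 5), (nat_lit 9), (nat_lit 11), (nat_lit 15)] ⟨[], (nat_lit 4), []⟩,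
  Ent.merge [(nat_lit 5)] (nat_lit 1) [(nat_lit 7)] ⟨[], (nat_lit 5), []⟩,
  Ent.split [⟨[], (nat_lit 6), []⟩, ⟨[], (nat_lit 7), []⟩],
  Ent.merge [(nat_lit 7)] (nat_lit 1) [(nat_lit 3), (nat_lit 5), (nat_lit 7), (nat_lit 15)] ⟨[], (nat_lit 8), []⟩,
  Ent.split [⟨[], (nat_lit 9), []⟩, ⟨[], (nat_lit 10), []⟩],
  Ent.split [⟨[], (nat_lit 11), []⟩, ⟨[], (nat_lit 12), []⟩],
  Ent.merge [(nat_lit 3), (nat_lit 5), (nat_lit 9), (nat_lit 17), (nat_lit 25)] (nat_lit 1) [(nat_lit 3), (nat_lit 5)] ⟨[], (nat_lit 13), []⟩,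
  Ent.split [⟨[], (nat_lit 14), []⟩, ⟨[], (nat_lit 15), []⟩],
  Ent.split [⟨[], (nat_lit 16), []⟩, ⟨[], (nat_lit 17), []⟩],
  Ent.merge [(nat_lit 3), (nat_lit 5), (nat_lit 9), (nat_lit 17), (nat_lit 25)] (nat_lit 1) [(nat_lit 3), (nat_lit 5), (nat_lit 7), (nat_lit 11), (nat_lit 15)] ⟨[], (nat_lit 18), []⟩,
  Ent.merge [(nat_lit 15)] (nat_lit 1) [(nat_lit 3), (nat_lit 5), (nat_lit 13), (nat_lit 15)] ⟨[], (nat_lit 19), []⟩,
  Ent.merge [(nat_lit 15)] (nat_lit 1) [(nat_lit 3), (nat_lit 5), (nat_lit 13), (nat_lit 15)] ⟨[], (nat_lit 20), []⟩,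
  Ent.dead (nat_lit 1) [(nat_lit 5), (nat_lit 9)],
  Ent.split [⟨[], (nat_lit 21), []⟩, ⟨[], (nat_lit 22), []⟩],
  Ent.split [⟨[], (nat_lit 23), []⟩, ⟨[], (nat_lit 24), []⟩],
  Ent.split [⟨[], (nat_lit 25), []⟩, ⟨[], (nat_lit 26), []⟩],
  Ent.split [⟨[], (nat_lit 27), []⟩, ⟨[], (nat_lit 28), []⟩],
  Ent.split [⟨[], (nat_lit 29), []⟩, ⟨[], (nat_lit 30), []⟩],
  Ent.dead (nat_lit 1) [(nat_lit 1), (nat_lit 7), (nat_lit 11), (nat_lit 13)],
  Ent.merge [(nat_lit 17)] (nat_lit 1) [(nat_lit 1), (nat_lit 7), (nat_lit 9), (nat_lit 11), (nat_lit 13)] ⟨[], (nat_lit 31), []⟩,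
  Ent.merge [(nat_lit 17)] (nat_lit 1) [(nat_lit 1), (nat_lit 7), (nat_lit 9), (nat_lit 11), (nat_lit 13)] ⟨[], (nat_lit 32), []⟩,
  Ent.dead (nat_lit 1) [(nat_lit 1), (nat_lit 7), (nat_lit 11), (nat_lit 15)]]
noncomputable def a_X11 : List (List Nat) := [[],
  [(nat_lit 21)],
  [(nat_lit 19)],
  [(nat_lit 17)],
  [(nat_lit 15)],
  [(nat_lit 13)],
  [(nat_lit 13), (nat_lit 15)],
  [(nat_lit 13), (nat_lit 15), (nat_lit 17)],
  [(nat_lit 13), (nat_lit 15), (nat_lit 17), (nat_lit 21)],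
  [(nat_lit 13), (nat_lit 15), (nat_lit 17), (nat_lit 19)],
  [(nat_lit 11), (nat_lit 15)],
  [(nat_lit 11), (nat_lit 15), (nat_lit 19)],
  [(nat_lit 11), (nat_lit 15), (nat_lit 17)],
  [(nat_lit 11), (nat_lit 15), (nat_lit 17), (nat_lit 19)],
  [(nat_lit 9), (nat_lit 17)],
  [(nat_lit 9), (nat_lit 17), (nat_lit 19)],
  [(nat_lit 9), (nat_lit 15)],
  [(nat_lit 9), (nat_lit 15), (nat_lit 19)],
  [(nat_lit 7)],
  [(nat_lit 7), (nat_lit 21)],
  [(nat_lit 7), (nat_lit 17)],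
  [(nat_lit 7), (nat_lit 17), (nat_lit 21)],
  [(nat_lit 3), (nat_lit 9), (nat_lit 15)],
  [(nat_lit 3), (nat_lit 9), (nat_lit 15), (nat_lit 21)],
  [(nat_lit 3), (nat_lit 9), (nat_lit 15), (nat_lit 19)],
  [(nat_lit 3), (nat_lit 9), (nat_lit 15), (nat_lit 19), (nat_lit 21)],
  [(nat_lit 1), (nat_lit 5)],
  [(nat_lit 1), (nat_lit 5), (nat_lit 17)],
  [(nat_lit 1), (nat_lit 5), (nat_lit 15), (nat_lit 19)],
  [(nat_lit 1), (nat_lit 5), (nat_lit 15), (nat_lit 17), (nat_lit 19)],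
  [(nat_lit 1), (nat_lit 3), (nat_lit 17)],
  [(nat_lit 1), (nat_lit 3), (nat_lit 17), (nat_lit 21)],
  [(nat_lit 1), (nat_lit 3), (nat_lit 15)],
  [(nat_lit 1), (nat_lit 3), (nat_lit 15), (nat_lit 21)]]
noncomputable def a_E10 : List Ent := [Ent.split [⟨[], (nat_lit 0), []⟩, ⟨[], (nat_lit 1), []⟩],
  Ent.merge [(nat_lit 5)] (nat_lit 1) [(nat_lit 3), (nat_lit 5), (nat_lit 9), (nat_lit 11)] ⟨[], (nat_lit 2), []⟩,
  Ent.merge [(nat_lit 9)] (nat_lit 1) [(nat_lit 1), (nat_lit 3), (nat_lit 5), (nat_lit 9), (nat_lit 11), (nat_lit 13)] ⟨[], (nat_lit 3), []⟩,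
  Ent.merge [(nat_lit 11)] (nat_lit 1) [(nat_lit 1), (nat_lit 3), (nat_lit 5), (nat_lit 7), (nat_lit 11)] ⟨[], (nat_lit 4), []⟩,
  Ent.merge [(nat_lit 11)] (nat_lit 1) [(nat_lit 1), (nat_lit 9), (nat_lit 11)] ⟨[], (nat_lit 5), []⟩,
  Ent.merge [(nat_lit 9)] (nat_lit 1) [(nat_lit 1), (nat_lit 3), (nat_lit 5), (nat_lit 7), (nat_lit 11)] ⟨[], (nat_lit 6), []⟩,
  Ent.split [⟨[], (nat_lit 7), []⟩, ⟨[], (nat_lit 8), []⟩],
  Ent.merge [(nat_lit 5)] (nat_lit 1) [(nat_lit 7), (nat_lit 11), (nat_lit 13)] ⟨[], (nat_lit 9), []⟩,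
  Ent.dead (nat_lit 1) [(nat_lit 1), (nat_lit 3), (nat_lit 5), (nat_lit 9), (nat_lit 11)],
  Ent.merge [(nat_lit 15)] (nat_lit 1) [(nat_lit 1), (nat_lit 3), (nat_lit 5), (nat_lit 7), (nat_lit 11)] ⟨[], (nat_lit 10), []⟩,
  Ent.merge [(nat_lit 15)] (nat_lit 1) [(nat_lit 1), (nat_lit 3), (nat_lit 5), (nat_lit 7), (nat_lit 11)] ⟨[], (nat_lit 11), []⟩,
  Ent.merge [(nat_lit 15)] (nat_lit 1) [(nat_lit 1), (nat_lit 3), (nat_lit 5), (nat_lit 7), (nat_lit 11)] ⟨[], (nat_lit 12), []⟩,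
  Ent.merge [(nat_lit 15)] (nat_lit 1) [(nat_lit 1), (nat_lit 3), (nat_lit 5), (nat_lit 7), (nat_lit 11)] ⟨[], (nat_lit 13), []⟩,
  Ent.dead (nat_lit 1) [(nat_lit 1), (nat_lit 3), (nat_lit 5), (nat_lit 7), (nat_lit 9), (nat_lit 13)],
  Ent.merge [(nat_lit 17)] (nat_lit 1) [(nat_lit 1), (nat_lit 3), (nat_lit 5), (nat_lit 9), (nat_lit 11), (nat_lit 13)] ⟨[], (nat_lit 14), []⟩,
  Ent.merge [(nat_lit 17)] (nat_lit 1) [(nat_lit 1), (nat_lit 3), (nat_lit 5), (nat_lit 9), (nat_lit 11), (nat_lit 13)] ⟨[], (nat_lit 15), []⟩,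
  Ent.merge [(nat_lit 17)] (nat_lit 1) [(nat_lit 1), (nat_lit 3), (nat_lit 5), (nat_lit 9), (nat_lit 11), (nat_lit 13)] ⟨[], (nat_lit 16), []⟩,
  Ent.merge [(nat_lit 17)] (nat_lit 1) [(nat_lit 1), (nat_lit 3), (nat_lit 5), (nat_lit 9), (nat_lit 11), (nat_lit 13)] ⟨[], (nat_lit 17), []⟩,
  Ent.dead (nat_lit 1) [(nat_lit 1), (nat_lit 5), (nat_lit 7), (nat_lit 9), (nat_lit 13)],
  Ent.split [⟨[], (nat_lit 18), []⟩, ⟨[], (nat_lit 19), []⟩],
  Ent.split [⟨[], (nat_lit 20), []⟩, ⟨[], (nat_lit 21), []⟩],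
  Ent.split [⟨[], (nat_lit 22), []⟩, ⟨[], (nat_lit 23), []⟩],
  Ent.split [⟨[], (nat_lit 24), []⟩, ⟨[], (nat_lit 25), []⟩],
  Ent.merge [(nat_lit 19)] (nat_lit 1) [(nat_lit 1), (nat_lit 13)] ⟨[], (nat_lit 26), []⟩,
  Ent.dead (nat_lit 1) [(nat_lit 1), (nat_lit 5), (nat_lit 9), (nat_lit 11), (nat_lit 13)],
  Ent.merge [(nat_lit 19)] (nat_lit 1) [(nat_lit 1), (nat_lit 13)] ⟨[], (nat_lit 27), []⟩,
  Ent.dead (nat_lit 1) [(nat_lit 1), (nat_lit 3), (nat_lit 5), (nat_lit 7), (nat_lit 9), (nat_lit 11)],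
  Ent.dead (nat_lit 1) [(nat_lit 1), (nat_lit 13)],
  Ent.merge [(nat_lit 19)] (nat_lit 1) [(nat_lit 1), (nat_lit 13)] ⟨[], (nat_lit 28), []⟩,
  Ent.dead (nat_lit 1) [(nat_lit 1), (nat_lit 3), (nat_lit 7)],
  Ent.merge [(nat_lit 19)] (nat_lit 1) [(nat_lit 1), (nat_lit 13)] ⟨[], (nat_lit 29), []⟩,
  Ent.split [⟨[], (nat_lit 30), []⟩, ⟨[], (nat_lit 31), []⟩],
  Ent.split [⟨[], (nat_lit 32), []⟩, ⟨[], (nat_lit 33), []⟩]]
noncomputable def a_X12 : List (List Nat) := [[],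
  [(nat_lit 23)],
  [(nat_lit 21)],
  [(nat_lit 21), (nat_lit 23)],
  [(nat_lit 19)],
  [(nat_lit 17)],
  [(nat_lit 15)],
  [(nat_lit 15), (nat_lit 23)],
  [(nat_lit 13)],
  [(nat_lit 13), (nat_lit 23)],
  [(nat_lit 13), (nat_lit 15)],
  [(nat_lit 13), (nat_lit 15), (nat_lit 17)],
  [(nat_lit 13), (nat_lit 15), (nat_lit 17), (nat_lit 23)],
  [(nat_lit 13), (nat_lit 15), (nat_lit 17), (nat_lit 21)],
  [(nat_lit 13), (nat_lit 15), (nat_lit 17), (nat_lit 21), (nat_lit 23)],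
  [(nat_lit 13), (nat_lit 15), (nat_lit 17), (nat_lit 19)],
  [(nat_lit 11), (nat_lit 15)],
  [(nat_lit 11), (nat_lit 15), (nat_lit 19)],
  [(nat_lit 11), (nat_lit 15), (nat_lit 19), (nat_lit 23)],
  [(nat_lit 11), (nat_lit 15), (nat_lit 17)],
  [(nat_lit 11), (nat_lit 15), (nat_lit 17), (nat_lit 19)],
  [(nat_lit 9), (nat_lit 17)],
  [(nat_lit 9), (nat_lit 17), (nat_lit 23)],
  [(nat_lit 9), (nat_lit 17), (nat_lit 19)],
  [(nat_lit 9), (nat_lit 17), (nat_lit 19), (nat_lit 23)],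
  [(nat_lit 9), (nat_lit 15)],
  [(nat_lit 9), (nat_lit 15), (nat_lit 23)],
  [(nat_lit 9), (nat_lit 15), (nat_lit 19)],
  [(nat_lit 9), (nat_lit 15), (nat_lit 19), (nat_lit 23)],
  [(nat_lit 7), (nat_lit 17)],
  [(nat_lit 7), (nat_lit 17), (nat_lit 21)],
  [(nat_lit 3), (nat_lit 9), (nat_lit 15), (nat_lit 19)],
  [(nat_lit 3), (nat_lit 9), (nat_lit 15), (nat_lit 19), (nat_lit 21)],
  [(nat_lit 1), (nat_lit 5)],
  [(nat_lit 1), (nat_lit 5), (nat_lit 23)],
  [(nat_lit 1), (nat_lit 5), (nat_lit 17)],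
  [(nat_lit 1), (nat_lit 5), (nat_lit 17), (nat_lit 23)],
  [(nat_lit 1), (nat_lit 5), (nat_lit 15), (nat_lit 19)],
  [(nat_lit 1), (nat_lit 5), (nat_lit 15), (nat_lit 19), (nat_lit 23)],
  [(nat_lit 1), (nat_lit 5), (nat_lit 15), (nat_lit 17), (nat_lit 19)],
  [(nat_lit 1), (nat_lit 5), (nat_lit 15), (nat_lit 17), (nat_lit 19), (nat_lit 23)],
  [(nat_lit 1), (nat_lit 3), (nat_lit 17)],
  [(nat_lit 1), (nat_lit 3), (nat_lit 17), (nat_lit 23)],
  [(nat_lit 1), (nat_lit 3), (nat_lit 17), (nat_lit 21)],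
  [(nat_lit 1), (nat_lit 3), (nat_lit 17), (nat_lit 21), (nat_lit 23)],
  [(nat_lit 1), (nat_lit 3), (nat_lit 15)],
  [(nat_lit 1), (nat_lit 3), (nat_lit 15), (nat_lit 21)]]
noncomputable def a_E11 : List Ent := [Ent.split [⟨[], (nat_lit 0), []⟩, ⟨[], (nat_lit 1), []⟩],
  Ent.split [⟨[], (nat_lit 2), []⟩, ⟨[], (nat_lit 3), []⟩],
  Ent.merge [(nat_lit 3)] (nat_lit 1) [(nat_lit 1)] ⟨[], (nat_lit 4), []⟩,
  Ent.merge [(nat_lit 7)] (nat_lit 1) [(nat_lit 5), (nat_lit 11)] ⟨[], (nat_lit 5), []⟩,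
  Ent.split [⟨[], (nat_lit 6), []⟩, ⟨[], (nat_lit 7), []⟩],
  Ent.split [⟨[], (nat_lit 8), []⟩, ⟨[], (nat_lit 9), []⟩],
  Ent.merge [(nat_lit 7)] (nat_lit 1) [(nat_lit 5), (nat_lit 7), (nat_lit 9)] ⟨[], (nat_lit 10), []⟩,
  Ent.split [⟨[], (nat_lit 11), []⟩, ⟨[], (nat_lit 12), []⟩],
  Ent.split [⟨[], (nat_lit 13), []⟩, ⟨[], (nat_lit 14), []⟩],
  Ent.merge [(nat_lit 3)] (nat_lit 1) [(nat_lit 7)] ⟨[], (nat_lit 15), []⟩,
  Ent.merge [(nat_lit 3), (nat_lit 15)] (nat_lit 1) [(nat_lit 1), (nat_lit 3), (nat_lit 9)] ⟨[], (nat_lit 16), []⟩,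
  Ent.split [⟨[], (nat_lit 17), []⟩, ⟨[], (nat_lit 18), []⟩],
  Ent.merge [(nat_lit 7)] (nat_lit 1) [(nat_lit 3), (nat_lit 5), (nat_lit 9), (nat_lit 11)] ⟨[], (nat_lit 19), []⟩,
  Ent.merge [(nat_lit 7)] (nat_lit 1) [(nat_lit 3), (nat_lit 5), (nat_lit 11)] ⟨[], (nat_lit 20), []⟩,
  Ent.split [⟨[], (nat_lit 21), []⟩, ⟨[], (nat_lit 22), []⟩],
  Ent.split [⟨[], (nat_lit 23), []⟩, ⟨[], (nat_lit 24), []⟩],
  Ent.split [⟨[], (nat_lit 25), []⟩, ⟨[], (nat_lit 26), []⟩],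
  Ent.split [⟨[], (nat_lit 27), []⟩, ⟨[], (nat_lit 28), []⟩],
  Ent.dead (nat_lit 1) [(nat_lit 5), (nat_lit 9), (nat_lit 11)],
  Ent.dead (nat_lit 1) [(nat_lit 7), (nat_lit 11)],
  Ent.merge [(nat_lit 17)] (nat_lit 1) [(nat_lit 5), (nat_lit 11)] ⟨[], (nat_lit 29), []⟩,
  Ent.merge [(nat_lit 17)] (nat_lit 1) [(nat_lit 5), (nat_lit 11)] ⟨[], (nat_lit 30), []⟩,
  Ent.dead (nat_lit 1) [(nat_lit 3), (nat_lit 5), (nat_lit 7), (nat_lit 9)],
  Ent.dead (nat_lit 1) [(nat_lit 5), (nat_lit 9), (nat_lit 11)],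
  Ent.merge [(nat_lit 19)] (nat_lit 1) [(nat_lit 5), (nat_lit 7)] ⟨[], (nat_lit 31), []⟩,
  Ent.merge [(nat_lit 19)] (nat_lit 1) [(nat_lit 5), (nat_lit 7)] ⟨[], (nat_lit 32), []⟩,
  Ent.split [⟨[], (nat_lit 33), []⟩, ⟨[], (nat_lit 34), []⟩],
  Ent.split [⟨[], (nat_lit 35), []⟩, ⟨[], (nat_lit 36), []⟩],
  Ent.split [⟨[], (nat_lit 37), []⟩, ⟨[], (nat_lit 38), []⟩],
  Ent.split [⟨[], (nat_lit 39), []⟩, ⟨[], (nat_lit 40), []⟩],
  Ent.split [⟨[], (nat_lit 41), []⟩, ⟨[], (nat_lit 42), []⟩],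
  Ent.split [⟨[], (nat_lit 43), []⟩, ⟨[], (nat_lit 44), []⟩],
  Ent.merge [(nat_lit 7), (nat_lit 11), (nat_lit 17), (nat_lit 21), (nat_lit 23), (nat_lit 25), (nat_lit 27), (nat_lit 31), (nat_lit 33)] (nat_lit 1) [(nat_lit 3), (nat_lit 11)] ⟨[], (nat_lit 45), []⟩,
  Ent.merge [(nat_lit 7), (nat_lit 11), (nat_lit 17), (nat_lit 21), (nat_lit 23), (nat_lit 25), (nat_lit 27), (nat_lit 31), (nat_lit 33)] (nat_lit 1) [(nat_lit 3), (nat_lit 5), (nat_lit 7), (nat_lit 9)] ⟨[], (nat_lit 46), []⟩]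
noncomputable def a_X13 : List (List Nat) := [[],
  [(nat_lit 25)],
  [(nat_lit 23)],
  [(nat_lit 23), (nat_lit 25)],
  [(nat_lit 21)],
  [(nat_lit 21), (nat_lit 23)],
  [(nat_lit 19)],
  [(nat_lit 17)],
  [(nat_lit 15)],
  [(nat_lit 15), (nat_lit 23)],
  [(nat_lit 13), (nat_lit 15)],
  [(nat_lit 13), (nat_lit 15), (nat_lit 17)],
  [(nat_lit 13), (nat_lit 15), (nat_lit 17), (nat_lit 23)],
  [(nat_lit 13), (nat_lit 15), (nat_lit 17), (nat_lit 21)],
  [(nat_lit 13), (nat_lit 15), (nat_lit 17), (nat_lit 21), (nat_lit 23)],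
  [(nat_lit 13), (nat_lit 15), (nat_lit 17), (nat_lit 19)],
  [(nat_lit 11), (nat_lit 15)],
  [(nat_lit 11), (nat_lit 15), (nat_lit 19)],
  [(nat_lit 11), (nat_lit 15), (nat_lit 19), (nat_lit 25)],
  [(nat_lit 11), (nat_lit 15), (nat_lit 19), (nat_lit 23)],
  [(nat_lit 11), (nat_lit 15), (nat_lit 19), (nat_lit 23), (nat_lit 25)],
  [(nat_lit 11), (nat_lit 15), (nat_lit 17)],
  [(nat_lit 11), (nat_lit 15), (nat_lit 17), (nat_lit 19)],
  [(nat_lit 9), (nat_lit 17)],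
  [(nat_lit 9), (nat_lit 17), (nat_lit 23)],
  [(nat_lit 9), (nat_lit 15), (nat_lit 19)],
  [(nat_lit 9), (nat_lit 15), (nat_lit 19), (nat_lit 23)],
  [(nat_lit 7), (nat_lit 17)],
  [(nat_lit 7), (nat_lit 17), (nat_lit 25)],
  [(nat_lit 7), (nat_lit 17), (nat_lit 21)],
  [(nat_lit 3), (nat_lit 9), (nat_lit 15), (nat_lit 19)],
  [(nat_lit 3), (nat_lit 9), (nat_lit 15), (nat_lit 19), (nat_lit 25)],
  [(nat_lit 3), (nat_lit 9), (nat_lit 15), (nat_lit 19), (nat_lit 21)],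
  [(nat_lit 3), (nat_lit 9), (nat_lit 15), (nat_lit 19), (nat_lit 21), (nat_lit 25)],
  [(nat_lit 1), (nat_lit 5)],
  [(nat_lit 1), (nat_lit 5), (nat_lit 23)],
  [(nat_lit 1), (nat_lit 5), (nat_lit 15), (nat_lit 19)],
  [(nat_lit 1), (nat_lit 5), (nat_lit 15), (nat_lit 19), (nat_lit 23)],
  [(nat_lit 1), (nat_lit 3), (nat_lit 17)],
  [(nat_lit 1), (nat_lit 3), (nat_lit 17), (nat_lit 23)],
  [(nat_lit 1), (nat_lit 3), (nat_lit 15)]]
noncomputable def a_E12 : List Ent := [Ent.split [⟨[], (nat_lit 0), []⟩, ⟨[], (nat_lit 1), []⟩],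
  Ent.split [⟨[], (nat_lit 2), []⟩, ⟨[], (nat_lit 3), []⟩],
  Ent.merge [(nat_lit 5)] (nat_lit 1) [(nat_lit 5), (nat_lit 7)] ⟨[], (nat_lit 4), []⟩,
  Ent.merge [(nat_lit 5)] (nat_lit 1) [(nat_lit 1), (nat_lit 3), (nat_lit 9)] ⟨[], (nat_lit 5), []⟩,
  Ent.merge [(nat_lit 9)] (nat_lit 1) [(nat_lit 3), (nat_lit 7), (nat_lit 9)] ⟨[], (nat_lit 6), []⟩,
  Ent.merge [(nat_lit 1), (nat_lit 5), (nat_lit 13), (nat_lit 15), (nat_lit 25), (nat_lit 27), (nat_lit 31)] (nat_lit 1) [(nat_lit 3), (nat_lit 5), (nat_lit 7)] ⟨[], (nat_lit 7), []⟩,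
  Ent.merge [(nat_lit 13)] (nat_lit 1) [(nat_lit 3), (nat_lit 5)] ⟨[], (nat_lit 8), []⟩,
  Ent.merge [(nat_lit 13)] (nat_lit 1) [(nat_lit 3), (nat_lit 5)] ⟨[], (nat_lit 9), []⟩,
  Ent.dead (nat_lit 1) [(nat_lit 3), (nat_lit 7), (nat_lit 9)],
  Ent.dead (nat_lit 1) [(nat_lit 3), (nat_lit 7), (nat_lit 9)],
  Ent.merge [(nat_lit 15)] (nat_lit 1) [(nat_lit 3), (nat_lit 5)] ⟨[], (nat_lit 10), []⟩,
  Ent.merge [(nat_lit 15)] (nat_lit 1) [(nat_lit 3), (nat_lit 5)] ⟨[], (nat_lit 11), []⟩,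
  Ent.merge [(nat_lit 15)] (nat_lit 1) [(nat_lit 3), (nat_lit 5)] ⟨[], (nat_lit 12), []⟩,
  Ent.merge [(nat_lit 15)] (nat_lit 1) [(nat_lit 3), (nat_lit 5)] ⟨[], (nat_lit 13), []⟩,
  Ent.merge [(nat_lit 15)] (nat_lit 1) [(nat_lit 3), (nat_lit 5)] ⟨[], (nat_lit 14), []⟩,
  Ent.merge [(nat_lit 15)] (nat_lit 1) [(nat_lit 3), (nat_lit 5)] ⟨[], (nat_lit 15), []⟩,
  Ent.merge [(nat_lit 9)] (nat_lit 1) [(nat_lit 1), (nat_lit 7)] ⟨[], (nat_lit 16), []⟩,
  Ent.split [⟨[], (nat_lit 17), []⟩, ⟨[], (nat_lit 18), []⟩],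
  Ent.split [⟨[], (nat_lit 19), []⟩, ⟨[], (nat_lit 20), []⟩],
  Ent.merge [(nat_lit 9), (nat_lit 15)] (nat_lit 1) [(nat_lit 1), (nat_lit 3), (nat_lit 5), (nat_lit 7)] ⟨[], (nat_lit 21), []⟩,
  Ent.merge [(nat_lit 1), (nat_lit 5), (nat_lit 9), (nat_lit 15), (nat_lit 17), (nat_lit 19), (nat_lit 23), (nat_lit 33), (nat_lit 35)] (nat_lit 1) [(nat_lit 1), (nat_lit 5)] ⟨[], (nat_lit 22), []⟩,
  Ent.merge [(nat_lit 19)] (nat_lit 1) [(nat_lit 3), (nat_lit 7), (nat_lit 9)] ⟨[], (nat_lit 23), []⟩,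
  Ent.merge [(nat_lit 19)] (nat_lit 1) [(nat_lit 3), (nat_lit 7), (nat_lit 9)] ⟨[], (nat_lit 24), []⟩,
  Ent.dead (nat_lit 1) [(nat_lit 9)],
  Ent.dead (nat_lit 1) [(nat_lit 3), (nat_lit 7), (nat_lit 9)],
  Ent.dead (nat_lit 1) [(nat_lit 3), (nat_lit 7)],
  Ent.dead (nat_lit 1) [],
  Ent.merge [(nat_lit 19)] (nat_lit 1) [(nat_lit 3), (nat_lit 7), (nat_lit 9)] ⟨[], (nat_lit 25), []⟩,
  Ent.merge [(nat_lit 19)] (nat_lit 1) [(nat_lit 3), (nat_lit 7), (nat_lit 9)] ⟨[], (nat_lit 26), []⟩,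
  Ent.split [⟨[], (nat_lit 27), []⟩, ⟨[], (nat_lit 28), []⟩],
  Ent.merge [(nat_lit 1), (nat_lit 15), (nat_lit 17)] (nat_lit 1) [(nat_lit 1), (nat_lit 7), (nat_lit 9)] ⟨[], (nat_lit 29), []⟩,
  Ent.split [⟨[], (nat_lit 30), []⟩, ⟨[], (nat_lit 31), []⟩],
  Ent.split [⟨[], (nat_lit 32), []⟩, ⟨[], (nat_lit 33), []⟩],
  Ent.merge [(nat_lit 17)] (nat_lit 1) [(nat_lit 3), (nat_lit 9)] ⟨[], (nat_lit 34), []⟩,
  Ent.merge [(nat_lit 17)] (nat_lit 1) [(nat_lit 3), (nat_lit 9)] ⟨[], (nat_lit 35), []⟩,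
  Ent.dead (nat_lit 1) [(nat_lit 1), (nat_lit 3), (nat_lit 5), (nat_lit 7), (nat_lit 9)],
  Ent.dead (nat_lit 1) [(nat_lit 3)],
  Ent.merge [(nat_lit 17)] (nat_lit 1) [(nat_lit 3), (nat_lit 9)] ⟨[], (nat_lit 36), []⟩,
  Ent.merge [(nat_lit 17)] (nat_lit 1) [(nat_lit 3), (nat_lit 9)] ⟨[], (nat_lit 37), []⟩,
  Ent.dead (nat_lit 1) [(nat_lit 3), (nat_lit 9)],
  Ent.dead (nat_lit 1) [(nat_lit 1), (nat_lit 3), (nat_lit 5), (nat_lit 7)],
  Ent.merge [(nat_lit 21)] (nat_lit 1) [(nat_lit 7)] ⟨[], (nat_lit 38), []⟩,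
  Ent.merge [(nat_lit 21)] (nat_lit 1) [(nat_lit 7)] ⟨[], (nat_lit 39), []⟩,
  Ent.dead (nat_lit 1) [(nat_lit 3), (nat_lit 7)],
  Ent.dead (nat_lit 1) [(nat_lit 7)],
  Ent.merge [(nat_lit 21)] (nat_lit 1) [(nat_lit 7)] ⟨[], (nat_lit 40), []⟩,
  Ent.dead (nat_lit 1) [(nat_lit 3), (nat_lit 9)]]
noncomputable def a_X14 : List (List Nat) := [[],
  [(nat_lit 27)],
  [(nat_lit 25)],
  [(nat_lit 25), (nat_lit 27)],
  [(nat_lit 23)],
  [(nat_lit 23), (nat_lit 25)],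
  [(nat_lit 21)],
  [(nat_lit 21), (nat_lit 23)],
  [(nat_lit 19)],
  [(nat_lit 19), (nat_lit 27)],
  [(nat_lit 17)],
  [(nat_lit 15)],
  [(nat_lit 15), (nat_lit 27)],
  [(nat_lit 15), (nat_lit 23)],
  [(nat_lit 13), (nat_lit 15)],
  [(nat_lit 13), (nat_lit 15), (nat_lit 17)],
  [(nat_lit 13), (nat_lit 15), (nat_lit 17), (nat_lit 23)],
  [(nat_lit 13), (nat_lit 15), (nat_lit 17), (nat_lit 23), (nat_lit 27)],
  [(nat_lit 13), (nat_lit 15), (nat_lit 17), (nat_lit 21)],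
  [(nat_lit 13), (nat_lit 15), (nat_lit 17), (nat_lit 21), (nat_lit 23)],
  [(nat_lit 13), (nat_lit 15), (nat_lit 17), (nat_lit 19)],
  [(nat_lit 13), (nat_lit 15), (nat_lit 17), (nat_lit 19), (nat_lit 27)],
  [(nat_lit 11), (nat_lit 15)],
  [(nat_lit 11), (nat_lit 15), (nat_lit 19)],
  [(nat_lit 11), (nat_lit 15), (nat_lit 19), (nat_lit 25)],
  [(nat_lit 11), (nat_lit 15), (nat_lit 19), (nat_lit 23)],
  [(nat_lit 11), (nat_lit 15), (nat_lit 19), (nat_lit 23), (nat_lit 25)],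
  [(nat_lit 9), (nat_lit 17)],
  [(nat_lit 9), (nat_lit 17), (nat_lit 23)],
  [(nat_lit 9), (nat_lit 17), (nat_lit 23), (nat_lit 27)],
  [(nat_lit 9), (nat_lit 15), (nat_lit 19)],
  [(nat_lit 9), (nat_lit 15), (nat_lit 19), (nat_lit 23)],
  [(nat_lit 7), (nat_lit 17)],
  [(nat_lit 7), (nat_lit 17), (nat_lit 27)],
  [(nat_lit 7), (nat_lit 17), (nat_lit 25)],
  [(nat_lit 7), (nat_lit 17), (nat_lit 25), (nat_lit 27)],
  [(nat_lit 7), (nat_lit 17), (nat_lit 21)],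
  [(nat_lit 3), (nat_lit 9), (nat_lit 15), (nat_lit 19), (nat_lit 21)],
  [(nat_lit 3), (nat_lit 9), (nat_lit 15), (nat_lit 19), (nat_lit 21), (nat_lit 25)],
  [(nat_lit 1), (nat_lit 5), (nat_lit 23)],
  [(nat_lit 1), (nat_lit 5), (nat_lit 15), (nat_lit 19)],
  [(nat_lit 1), (nat_lit 3), (nat_lit 17)],
  [(nat_lit 1), (nat_lit 3), (nat_lit 17), (nat_lit 27)],
  [(nat_lit 1), (nat_lit 3), (nat_lit 17), (nat_lit 23)],
  [(nat_lit 1), (nat_lit 3), (nat_lit 17), (nat_lit 23), (nat_lit 27)],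
  [(nat_lit 1), (nat_lit 3), (nat_lit 15)],
  [(nat_lit 1), (nat_lit 3), (nat_lit 15), (nat_lit 27)]]
noncomputable def a_E13 : List Ent := [Ent.split [⟨[], (nat_lit 0), []⟩, ⟨[], (nat_lit 1), []⟩],
  Ent.split [⟨[], (nat_lit 2), []⟩, ⟨[], (nat_lit 3), []⟩],
  Ent.merge [(nat_lit 5)] (nat_lit 1) [(nat_lit 1), (nat_lit 3), (nat_lit 5), (nat_lit 7)] ⟨[], (nat_lit 4), []⟩,
  Ent.merge [(nat_lit 5)] (nat_lit 1) [(nat_lit 1)] ⟨[], (nat_lit 5), []⟩,
  Ent.merge [(nat_lit 3)] (nat_lit 1) [(nat_lit 1), (nat_lit 3), (nat_lit 5)] ⟨[], (nat_lit 6), []⟩,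
  Ent.merge [(nat_lit 3)] (nat_lit 1) [(nat_lit 3)] ⟨[], (nat_lit 7), []⟩,
  Ent.split [⟨[], (nat_lit 8), []⟩, ⟨[], (nat_lit 9), []⟩],
  Ent.merge [(nat_lit 11)] (nat_lit 1) [(nat_lit 5), (nat_lit 7)] ⟨[], (nat_lit 10), []⟩,
  Ent.split [⟨[], (nat_lit 11), []⟩, ⟨[], (nat_lit 12), []⟩],
  Ent.merge [(nat_lit 3), (nat_lit 5), (nat_lit 7), (nat_lit 9), (nat_lit 11), (nat_lit 15), (nat_lit 23), (nat_lit 25), (nat_lit 29), (nat_lit 31), (nat_lit 33), (nat_lit 35)] (nat_lit 1) [(nat_lit 3), (nat_lit 5), (nat_lit 7)] ⟨[], (nat_lit 13), []⟩,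
  Ent.merge [(nat_lit 11), (nat_lit 15)] (nat_lit 1) [(nat_lit 7)] ⟨[], (nat_lit 14), []⟩,
  Ent.merge [(nat_lit 5), (nat_lit 15)] (nat_lit 1) [(nat_lit 3), (nat_lit 7)] ⟨[], (nat_lit 15), []⟩,
  Ent.split [⟨[], (nat_lit 16), []⟩, ⟨[], (nat_lit 17), []⟩],
  Ent.merge [(nat_lit 5)] (nat_lit 1) [(nat_lit 1), (nat_lit 5), (nat_lit 7)] ⟨[], (nat_lit 18), []⟩,
  Ent.merge [(nat_lit 3), (nat_lit 15)] (nat_lit 1) [(nat_lit 1), (nat_lit 5)] ⟨[], (nat_lit 19), []⟩,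
  Ent.split [⟨[], (nat_lit 20), []⟩, ⟨[], (nat_lit 21), []⟩],
  Ent.merge [(nat_lit 17)] (nat_lit 1) [(nat_lit 5), (nat_lit 7)] ⟨[], (nat_lit 22), []⟩,
  Ent.merge [(nat_lit 17)] (nat_lit 1) [(nat_lit 5), (nat_lit 7)] ⟨[], (nat_lit 23), []⟩,
  Ent.merge [(nat_lit 17)] (nat_lit 1) [(nat_lit 5), (nat_lit 7)] ⟨[], (nat_lit 24), []⟩,
  Ent.merge [(nat_lit 17)] (nat_lit 1) [(nat_lit 5), (nat_lit 7)] ⟨[], (nat_lit 25), []⟩,
  Ent.merge [(nat_lit 17)] (nat_lit 1) [(nat_lit 5), (nat_lit 7)] ⟨[], (nat_lit 26), []⟩,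
  Ent.dead (nat_lit 1) [(nat_lit 1), (nat_lit 3), (nat_lit 5), (nat_lit 7)],
  Ent.dead (nat_lit 1) [(nat_lit 5)],
  Ent.merge [(nat_lit 3), (nat_lit 5), (nat_lit 9), (nat_lit 17), (nat_lit 25)] (nat_lit 1) [(nat_lit 1), (nat_lit 3), (nat_lit 5)] ⟨[], (nat_lit 27), []⟩,
  Ent.split [⟨[], (nat_lit 28), []⟩, ⟨[], (nat_lit 29), []⟩],
  Ent.merge [(nat_lit 11)] (nat_lit 1) [(nat_lit 5)] ⟨[], (nat_lit 30), []⟩,
  Ent.merge [(nat_lit 11)] (nat_lit 1) [(nat_lit 5)] ⟨[], (nat_lit 31), []⟩,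
  Ent.split [⟨[], (nat_lit 32), []⟩, ⟨[], (nat_lit 33), []⟩],
  Ent.split [⟨[], (nat_lit 34), []⟩, ⟨[], (nat_lit 35), []⟩],
  Ent.merge [(nat_lit 3), (nat_lit 9), (nat_lit 15), (nat_lit 21), (nat_lit 23), (nat_lit 25), (nat_lit 27), (nat_lit 29), (nat_lit 31), (nat_lit 35)] (nat_lit 1) [] ⟨[], (nat_lit 36), []⟩,
  Ent.dead (nat_lit 1) [(nat_lit 5)],
  Ent.dead (nat_lit 1) [(nat_lit 3), (nat_lit 7)],
  Ent.merge [(nat_lit 21)] (nat_lit 1) [(nat_lit 3), (nat_lit 7)] ⟨[], (nat_lit 37), []⟩,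
  Ent.merge [(nat_lit 21)] (nat_lit 1) [(nat_lit 3), (nat_lit 7)] ⟨[], (nat_lit 38), []⟩,
  Ent.dead (nat_lit 1) [(nat_lit 3), (nat_lit 5)],
  Ent.merge [(nat_lit 23)] (nat_lit 1) [(nat_lit 3), (nat_lit 5), (nat_lit 7)] ⟨[], (nat_lit 39), []⟩,
  Ent.merge [(nat_lit 23)] (nat_lit 1) [(nat_lit 3), (nat_lit 5), (nat_lit 7)] ⟨[], (nat_lit 40), []⟩,
  Ent.dead (nat_lit 1) [(nat_lit 3), (nat_lit 5), (nat_lit 7)],
  Ent.split [⟨[], (nat_lit 41), []⟩, ⟨[], (nat_lit 42), []⟩],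
  Ent.split [⟨[], (nat_lit 43), []⟩, ⟨[], (nat_lit 44), []⟩],
  Ent.split [⟨[], (nat_lit 45), []⟩, ⟨[], (nat_lit 46), []⟩]]
noncomputable def a_X15 : List (List Nat) := [[],
  [(nat_lit 29)],
  [(nat_lit 27)],
  [(nat_lit 25)],
  [(nat_lit 25), (nat_lit 29)],
  [(nat_lit 25), (nat_lit 27)],
  [(nat_lit 23)],
  [(nat_lit 23), (nat_lit 25)],
  [(nat_lit 21)],
  [(nat_lit 21), (nat_lit 23)],
  [(nat_lit 19)],
  [(nat_lit 19), (nat_lit 27)],
  [(nat_lit 17)],
  [(nat_lit 17), (nat_lit 29)],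
  [(nat_lit 15)],
  [(nat_lit 15), (nat_lit 27)],
  [(nat_lit 15), (nat_lit 27), (nat_lit 29)],
  [(nat_lit 15), (nat_lit 23)],
  [(nat_lit 13), (nat_lit 15)],
  [(nat_lit 13), (nat_lit 15), (nat_lit 29)],
  [(nat_lit 13), (nat_lit 15), (nat_lit 17)],
  [(nat_lit 13), (nat_lit 15), (nat_lit 17), (nat_lit 23)],
  [(nat_lit 13), (nat_lit 15), (nat_lit 17), (nat_lit 23), (nat_lit 27)],
  [(nat_lit 13), (nat_lit 15), (nat_lit 17), (nat_lit 23), (nat_lit 27), (nat_lit 29)],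
  [(nat_lit 13), (nat_lit 15), (nat_lit 17), (nat_lit 21)],
  [(nat_lit 13), (nat_lit 15), (nat_lit 17), (nat_lit 21), (nat_lit 23)],
  [(nat_lit 13), (nat_lit 15), (nat_lit 17), (nat_lit 19)],
  [(nat_lit 13), (nat_lit 15), (nat_lit 17), (nat_lit 19), (nat_lit 27)],
  [(nat_lit 11), (nat_lit 15), (nat_lit 19)],
  [(nat_lit 11), (nat_lit 15), (nat_lit 19), (nat_lit 25)],
  [(nat_lit 11), (nat_lit 15), (nat_lit 19), (nat_lit 23)],
  [(nat_lit 11), (nat_lit 15), (nat_lit 19), (nat_lit 23), (nat_lit 25)],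
  [(nat_lit 9), (nat_lit 17), (nat_lit 23)],
  [(nat_lit 9), (nat_lit 17), (nat_lit 23), (nat_lit 27)],
  [(nat_lit 9), (nat_lit 15), (nat_lit 19)],
  [(nat_lit 7), (nat_lit 17)],
  [(nat_lit 7), (nat_lit 17), (nat_lit 27)],
  [(nat_lit 7), (nat_lit 17), (nat_lit 25)],
  [(nat_lit 7), (nat_lit 17), (nat_lit 25), (nat_lit 27)],
  [(nat_lit 3), (nat_lit 9), (nat_lit 15), (nat_lit 19), (nat_lit 21)],
  [(nat_lit 3), (nat_lit 9), (nat_lit 15), (nat_lit 19), (nat_lit 21), (nat_lit 29)],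
  [(nat_lit 3), (nat_lit 9), (nat_lit 15), (nat_lit 19), (nat_lit 21), (nat_lit 25)],
  [(nat_lit 3), (nat_lit 9), (nat_lit 15), (nat_lit 19), (nat_lit 21), (nat_lit 25), (nat_lit 29)],
  [(nat_lit 1), (nat_lit 5), (nat_lit 23)],
  [(nat_lit 1), (nat_lit 5), (nat_lit 23), (nat_lit 29)],
  [(nat_lit 1), (nat_lit 5), (nat_lit 15), (nat_lit 19)],
  [(nat_lit 1), (nat_lit 3), (nat_lit 17), (nat_lit 27)],
  [(nat_lit 1), (nat_lit 3), (nat_lit 17), (nat_lit 23)],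
  [(nat_lit 1), (nat_lit 3), (nat_lit 15), (nat_lit 27)]]
noncomputable def a_E14 : List Ent := [Ent.split [⟨[], (nat_lit 0), []⟩, ⟨[], (nat_lit 1), []⟩],
  Ent.merge [(nat_lit 5)] (nat_lit 1) [] ⟨[], (nat_lit 2), []⟩,
  Ent.split [⟨[], (nat_lit 3), []⟩, ⟨[], (nat_lit 4), []⟩],
  Ent.merge [(nat_lit 5)] (nat_lit 1) [(nat_lit 1), (nat_lit 3), (nat_lit 5)] ⟨[], (nat_lit 5), []⟩,
  Ent.merge [(nat_lit 9)] (nat_lit 1) [(nat_lit 3)] ⟨[], (nat_lit 6), []⟩,
  Ent.merge [(nat_lit 9)] (nat_lit 1) [(nat_lit 3)] ⟨[], (nat_lit 7), []⟩,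
  Ent.merge [(nat_lit 9)] (nat_lit 1) [(nat_lit 3), (nat_lit 5)] ⟨[], (nat_lit 8), []⟩,
  Ent.merge [(nat_lit 7)] (nat_lit 1) [(nat_lit 1), (nat_lit 3)] ⟨[], (nat_lit 9), []⟩,
  Ent.merge [(nat_lit 11)] (nat_lit 1) [(nat_lit 1), (nat_lit 5)] ⟨[], (nat_lit 10), []⟩,
  Ent.merge [(nat_lit 11)] (nat_lit 1) [(nat_lit 1), (nat_lit 5)] ⟨[], (nat_lit 11), []⟩,
  Ent.split [⟨[], (nat_lit 12), []⟩, ⟨[], (nat_lit 13), []⟩],
  Ent.merge [(nat_lit 3), (nat_lit 5), (nat_lit 7), (nat_lit 9), (nat_lit 11), (nat_lit 15), (nat_lit 23), (nat_lit 25), (nat_lit 29), (nat_lit 31), (nat_lit 33), (nat_lit 35)] (nat_lit 1) [] ⟨[], (nat_lit 14), []⟩,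
  Ent.split [⟨[], (nat_lit 15), []⟩, ⟨[], (nat_lit 16), []⟩],
  Ent.merge [(nat_lit 9), (nat_lit 11), (nat_lit 13), (nat_lit 21), (nat_lit 23), (nat_lit 27), (nat_lit 29), (nat_lit 31)] (nat_lit 1) [(nat_lit 3)] ⟨[], (nat_lit 17), []⟩,
  Ent.split [⟨[], (nat_lit 18), []⟩, ⟨[], (nat_lit 19), []⟩],
  Ent.merge [(nat_lit 9)] (nat_lit 1) [(nat_lit 1), (nat_lit 5)] ⟨[], (nat_lit 20), []⟩,
  Ent.merge [(nat_lit 5), (nat_lit 15)] (nat_lit 1) [(nat_lit 3)] ⟨[], (nat_lit 21), []⟩,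
  Ent.split [⟨[], (nat_lit 22), []⟩, ⟨[], (nat_lit 23), []⟩],
  Ent.merge [(nat_lit 7)] (nat_lit 1) [(nat_lit 5)] ⟨[], (nat_lit 24), []⟩,
  Ent.merge [(nat_lit 9)] (nat_lit 1) [(nat_lit 1)] ⟨[], (nat_lit 25), []⟩,
  Ent.merge [(nat_lit 11), (nat_lit 15)] (nat_lit 1) [(nat_lit 1), (nat_lit 3), (nat_lit 5)] ⟨[], (nat_lit 26), []⟩,
  Ent.merge [(nat_lit 11), (nat_lit 15)] (nat_lit 1) [(nat_lit 1), (nat_lit 3), (nat_lit 5)] ⟨[], (nat_lit 27), []⟩,
  Ent.dead (nat_lit 1) [(nat_lit 1)],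
  Ent.merge [(nat_lit 19)] (nat_lit 1) [(nat_lit 1), (nat_lit 5)] ⟨[], (nat_lit 28), []⟩,
  Ent.merge [(nat_lit 19)] (nat_lit 1) [(nat_lit 1), (nat_lit 5)] ⟨[], (nat_lit 29), []⟩,
  Ent.merge [(nat_lit 19)] (nat_lit 1) [(nat_lit 1), (nat_lit 5)] ⟨[], (nat_lit 30), []⟩,
  Ent.merge [(nat_lit 19)] (nat_lit 1) [(nat_lit 1), (nat_lit 5)] ⟨[], (nat_lit 31), []⟩,
  Ent.dead (nat_lit 1) [(nat_lit 3)],
  Ent.merge [(nat_lit 23)] (nat_lit 1) [(nat_lit 3)] ⟨[], (nat_lit 32), []⟩,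
  Ent.merge [(nat_lit 23)] (nat_lit 1) [(nat_lit 3)] ⟨[], (nat_lit 33), []⟩,
  Ent.merge [(nat_lit 23)] (nat_lit 1) [(nat_lit 3)] ⟨[], (nat_lit 34), []⟩,
  Ent.dead (nat_lit 1) [(nat_lit 3), (nat_lit 5)],
  Ent.merge [(nat_lit 21)] (nat_lit 1) [(nat_lit 1), (nat_lit 3)] ⟨[], (nat_lit 35), []⟩,
  Ent.merge [(nat_lit 21)] (nat_lit 1) [(nat_lit 1), (nat_lit 3)] ⟨[], (nat_lit 36), []⟩,
  Ent.merge [(nat_lit 21)] (nat_lit 1) [(nat_lit 1), (nat_lit 3)] ⟨[], (nat_lit 37), []⟩,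
  Ent.merge [(nat_lit 21)] (nat_lit 1) [(nat_lit 1), (nat_lit 3)] ⟨[], (nat_lit 38), []⟩,
  Ent.dead (nat_lit 1) [(nat_lit 1)],
  Ent.split [⟨[], (nat_lit 39), []⟩, ⟨[], (nat_lit 40), []⟩],
  Ent.split [⟨[], (nat_lit 41), []⟩, ⟨[], (nat_lit 42), []⟩],
  Ent.split [⟨[], (nat_lit 43), []⟩, ⟨[], (nat_lit 44), []⟩],
  Ent.merge [(nat_lit 11), (nat_lit 17), (nat_lit 19), (nat_lit 23)] (nat_lit 1) [] ⟨[], (nat_lit 45), []⟩,
  Ent.dead (nat_lit 1) [],
  Ent.merge [(nat_lit 27)] (nat_lit 1) [] ⟨[], (nat_lit 46), []⟩,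
  Ent.merge [(nat_lit 27)] (nat_lit 1) [] ⟨[], (nat_lit 47), []⟩,
  Ent.dead (nat_lit 1) [],
  Ent.dead (nat_lit 1) [(nat_lit 3), (nat_lit 5)],
  Ent.merge [(nat_lit 27)] (nat_lit 1) [] ⟨[], (nat_lit 48), []⟩]
noncomputable def a_X16 : List (List Nat) := [[],
  [(nat_lit 31)],
  [(nat_lit 29)],
  [(nat_lit 29), (nat_lit 31)],
  [(nat_lit 27)],
  [(nat_lit 27), (nat_lit 31)],
  [(nat_lit 25)],
  [(nat_lit 25), (nat_lit 29)],
  [(nat_lit 25), (nat_lit 27)],
  [(nat_lit 23)],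
  [(nat_lit 23), (nat_lit 31)],
  [(nat_lit 23), (nat_lit 25)],
  [(nat_lit 21)],
  [(nat_lit 21), (nat_lit 23)],
  [(nat_lit 21), (nat_lit 23), (nat_lit 31)],
  [(nat_lit 19)],
  [(nat_lit 19), (nat_lit 31)],
  [(nat_lit 19), (nat_lit 27)],
  [(nat_lit 17)],
  [(nat_lit 17), (nat_lit 29)],
  [(nat_lit 15)],
  [(nat_lit 15), (nat_lit 31)],
  [(nat_lit 15), (nat_lit 27)],
  [(nat_lit 15), (nat_lit 27), (nat_lit 31)],
  [(nat_lit 15), (nat_lit 27), (nat_lit 29)],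
  [(nat_lit 15), (nat_lit 27), (nat_lit 29), (nat_lit 31)],
  [(nat_lit 15), (nat_lit 23)],
  [(nat_lit 15), (nat_lit 23), (nat_lit 31)],
  [(nat_lit 13), (nat_lit 15), (nat_lit 17)],
  [(nat_lit 13), (nat_lit 15), (nat_lit 17), (nat_lit 23)],
  [(nat_lit 13), (nat_lit 15), (nat_lit 17), (nat_lit 23), (nat_lit 27)],
  [(nat_lit 13), (nat_lit 15), (nat_lit 17), (nat_lit 23), (nat_lit 27), (nat_lit 29)],
  [(nat_lit 13), (nat_lit 15), (nat_lit 17), (nat_lit 21)],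
  [(nat_lit 13), (nat_lit 15), (nat_lit 17), (nat_lit 21), (nat_lit 23)],
  [(nat_lit 13), (nat_lit 15), (nat_lit 17), (nat_lit 19)],
  [(nat_lit 13), (nat_lit 15), (nat_lit 17), (nat_lit 19), (nat_lit 27)],
  [(nat_lit 11), (nat_lit 15), (nat_lit 19)],
  [(nat_lit 11), (nat_lit 15), (nat_lit 19), (nat_lit 25)],
  [(nat_lit 11), (nat_lit 15), (nat_lit 19), (nat_lit 23)],
  [(nat_lit 11), (nat_lit 15), (nat_lit 19), (nat_lit 23), (nat_lit 25)],
  [(nat_lit 11), (nat_lit 15), (nat_lit 19), (nat_lit 23), (nat_lit 25), (nat_lit 31)],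
  [(nat_lit 9), (nat_lit 17), (nat_lit 23)],
  [(nat_lit 9), (nat_lit 17), (nat_lit 23), (nat_lit 31)],
  [(nat_lit 9), (nat_lit 17), (nat_lit 23), (nat_lit 27)],
  [(nat_lit 9), (nat_lit 17), (nat_lit 23), (nat_lit 27), (nat_lit 31)],
  [(nat_lit 9), (nat_lit 15), (nat_lit 19)],
  [(nat_lit 9), (nat_lit 15), (nat_lit 19), (nat_lit 31)],
  [(nat_lit 7), (nat_lit 17)],
  [(nat_lit 7), (nat_lit 17), (nat_lit 27)],
  [(nat_lit 7), (nat_lit 17), (nat_lit 25)],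
  [(nat_lit 7), (nat_lit 17), (nat_lit 25), (nat_lit 31)],
  [(nat_lit 7), (nat_lit 17), (nat_lit 25), (nat_lit 27)],
  [(nat_lit 3), (nat_lit 9), (nat_lit 15), (nat_lit 19), (nat_lit 21), (nat_lit 25)],
  [(nat_lit 3), (nat_lit 9), (nat_lit 15), (nat_lit 19), (nat_lit 21), (nat_lit 25), (nat_lit 29)],
  [(nat_lit 1), (nat_lit 5), (nat_lit 23)],
  [(nat_lit 1), (nat_lit 5), (nat_lit 23), (nat_lit 31)],
  [(nat_lit 1), (nat_lit 5), (nat_lit 23), (nat_lit 29)],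
  [(nat_lit 1), (nat_lit 5), (nat_lit 23), (nat_lit 29), (nat_lit 31)],
  [(nat_lit 1), (nat_lit 5), (nat_lit 15), (nat_lit 19)],
  [(nat_lit 1), (nat_lit 3), (nat_lit 17), (nat_lit 27)],
  [(nat_lit 1), (nat_lit 3), (nat_lit 17), (nat_lit 27), (nat_lit 31)],
  [(nat_lit 1), (nat_lit 3), (nat_lit 17), (nat_lit 23)],
  [(nat_lit 1), (nat_lit 3), (nat_lit 17), (nat_lit 23), (nat_lit 31)],
  [(nat_lit 1), (nat_lit 3), (nat_lit 15), (nat_lit 27)],
  [(nat_lit 1), (nat_lit 3), (nat_lit 15), (nat_lit 27), (nat_lit 31)]]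
noncomputable def a_E15 : List Ent := [Ent.split [⟨[], (nat_lit 0), []⟩, ⟨[], (nat_lit 1), []⟩],
  Ent.split [⟨[], (nat_lit 2), []⟩, ⟨[], (nat_lit 3), []⟩],
  Ent.split [⟨[], (nat_lit 4), []⟩, ⟨[], (nat_lit 5), []⟩],
  Ent.merge [(nat_lit 5)] (nat_lit 1) [(nat_lit 1), (nat_lit 3)] ⟨[], (nat_lit 6), []⟩,
  Ent.merge [(nat_lit 5)] (nat_lit 1) [(nat_lit 1), (nat_lit 3)] ⟨[], (nat_lit 7), []⟩,
  Ent.merge [(nat_lit 3)] (nat_lit 1) [(nat_lit 1), (nat_lit 3)] ⟨[], (nat_lit 8), []⟩,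
  Ent.split [⟨[], (nat_lit 9), []⟩, ⟨[], (nat_lit 10), []⟩],
  Ent.merge [(nat_lit 3), (nat_lit 9), (nat_lit 21), (nat_lit 23), (nat_lit 25), (nat_lit 27), (nat_lit 29), (nat_lit 31), (nat_lit 35)] (nat_lit 1) [(nat_lit 1), (nat_lit 3)] ⟨[], (nat_lit 11), []⟩,
  Ent.merge [(nat_lit 7), (nat_lit 9), (nat_lit 21), (nat_lit 23), (nat_lit 25), (nat_lit 27), (nat_lit 29), (nat_lit 31), (nat_lit 35)] (nat_lit 1) [(nat_lit 3)] ⟨[], (nat_lit 12), []⟩,
  Ent.split [⟨[], (nat_lit 13), []⟩, ⟨[], (nat_lit 14), []⟩],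
  Ent.split [⟨[], (nat_lit 15), []⟩, ⟨[], (nat_lit 16), []⟩],
  Ent.merge [(nat_lit 1), (nat_lit 3), (nat_lit 9), (nat_lit 11), (nat_lit 15), (nat_lit 17), (nat_lit 19), (nat_lit 21), (nat_lit 25), (nat_lit 33)] (nat_lit 1) [(nat_lit 3)] ⟨[], (nat_lit 17), []⟩,
  Ent.merge [(nat_lit 13)] (nat_lit 1) [(nat_lit 1), (nat_lit 3)] ⟨[], (nat_lit 18), []⟩,
  Ent.merge [(nat_lit 13)] (nat_lit 1) [(nat_lit 1), (nat_lit 3)] ⟨[], (nat_lit 19), []⟩,
  Ent.split [⟨[], (nat_lit 20), []⟩, ⟨[], (nat_lit 21), []⟩],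
  Ent.split [⟨[], (nat_lit 22), []⟩, ⟨[], (nat_lit 23), []⟩],
  Ent.split [⟨[], (nat_lit 24), []⟩, ⟨[], (nat_lit 25), []⟩],
  Ent.split [⟨[], (nat_lit 26), []⟩, ⟨[], (nat_lit 27), []⟩],
  Ent.dead (nat_lit 1) [(nat_lit 1), (nat_lit 3)],
  Ent.dead (nat_lit 1) [(nat_lit 1), (nat_lit 3)],
  Ent.merge [(nat_lit 17)] (nat_lit 1) [(nat_lit 1), (nat_lit 3)] ⟨[], (nat_lit 28), []⟩,
  Ent.merge [(nat_lit 17)] (nat_lit 1) [(nat_lit 1), (nat_lit 3)] ⟨[], (nat_lit 29), []⟩,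
  Ent.merge [(nat_lit 17)] (nat_lit 1) [(nat_lit 1), (nat_lit 3)] ⟨[], (nat_lit 30), []⟩,
  Ent.merge [(nat_lit 17)] (nat_lit 1) [(nat_lit 1), (nat_lit 3)] ⟨[], (nat_lit 31), []⟩,
  Ent.merge [(nat_lit 17)] (nat_lit 1) [(nat_lit 1), (nat_lit 3)] ⟨[], (nat_lit 32), []⟩,
  Ent.merge [(nat_lit 17)] (nat_lit 1) [(nat_lit 1), (nat_lit 3)] ⟨[], (nat_lit 33), []⟩,
  Ent.merge [(nat_lit 17)] (nat_lit 1) [(nat_lit 1), (nat_lit 3)] ⟨[], (nat_lit 34), []⟩,
  Ent.merge [(nat_lit 17)] (nat_lit 1) [(nat_lit 1), (nat_lit 3)] ⟨[], (nat_lit 35), []⟩,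
  Ent.merge [(nat_lit 9), (nat_lit 17), (nat_lit 19)] (nat_lit 1) [(nat_lit 1)] ⟨[], (nat_lit 36), []⟩,
  Ent.merge [(nat_lit 9), (nat_lit 17), (nat_lit 19)] (nat_lit 1) [(nat_lit 1)] ⟨[], (nat_lit 37), []⟩,
  Ent.merge [(nat_lit 3), (nat_lit 15), (nat_lit 17), (nat_lit 19)] (nat_lit 1) [(nat_lit 1), (nat_lit 3)] ⟨[], (nat_lit 38), []⟩,
  Ent.split [⟨[], (nat_lit 39), []⟩, ⟨[], (nat_lit 40), []⟩],
  Ent.split [⟨[], (nat_lit 41), []⟩, ⟨[], (nat_lit 42), []⟩],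
  Ent.split [⟨[], (nat_lit 43), []⟩, ⟨[], (nat_lit 44), []⟩],
  Ent.split [⟨[], (nat_lit 45), []⟩, ⟨[], (nat_lit 46), []⟩],
  Ent.merge [(nat_lit 3), (nat_lit 9), (nat_lit 15), (nat_lit 21), (nat_lit 23), (nat_lit 25), (nat_lit 27), (nat_lit 29), (nat_lit 31), (nat_lit 35)] (nat_lit 1) [(nat_lit 3)] ⟨[], (nat_lit 47), []⟩,
  Ent.merge [(nat_lit 3), (nat_lit 9), (nat_lit 15), (nat_lit 21), (nat_lit 23), (nat_lit 25), (nat_lit 27), (nat_lit 29), (nat_lit 31), (nat_lit 35)] (nat_lit 1) [(nat_lit 3)] ⟨[], (nat_lit 48), []⟩,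
  Ent.split [⟨[], (nat_lit 49), []⟩, ⟨[], (nat_lit 50), []⟩],
  Ent.merge [(nat_lit 1), (nat_lit 15), (nat_lit 17), (nat_lit 21)] (nat_lit 1) [] ⟨[], (nat_lit 51), []⟩,
  Ent.dead (nat_lit 1) [(nat_lit 1), (nat_lit 3)],
  Ent.dead (nat_lit 1) [(nat_lit 1), (nat_lit 3)],
  Ent.merge [(nat_lit 25)] (nat_lit 1) [(nat_lit 1), (nat_lit 3)] ⟨[], (nat_lit 52), []⟩,
  Ent.merge [(nat_lit 25)] (nat_lit 1) [(nat_lit 1), (nat_lit 3)] ⟨[], (nat_lit 53), []⟩,
  Ent.split [⟨[], (nat_lit 54), []⟩, ⟨[], (nat_lit 55), []⟩],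
  Ent.split [⟨[], (nat_lit 56), []⟩, ⟨[], (nat_lit 57), []⟩],
  Ent.merge [(nat_lit 13), (nat_lit 19)] (nat_lit 1) [(nat_lit 1), (nat_lit 3)] ⟨[], (nat_lit 58), []⟩,
  Ent.split [⟨[], (nat_lit 59), []⟩, ⟨[], (nat_lit 60), []⟩],
  Ent.split [⟨[], (nat_lit 61), []⟩, ⟨[], (nat_lit 62), []⟩],
  Ent.split [⟨[], (nat_lit 63), []⟩, ⟨[], (nat_lit 64), []⟩]]
noncomputable def a_X17 : List (List Nat) := [[],
  [(nat_lit 33)],
  [(nat_lit 31)],
  [(nat_lit 29)],
  [(nat_lit 29), (nat_lit 33)],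
  [(nat_lit 29), (nat_lit 31)],
  [(nat_lit 27)],
  [(nat_lit 27), (nat_lit 33)],
  [(nat_lit 27), (nat_lit 31)],
  [(nat_lit 27), (nat_lit 31), (nat_lit 33)],
  [(nat_lit 25)],
  [(nat_lit 25), (nat_lit 29)],
  [(nat_lit 25), (nat_lit 27)],
  [(nat_lit 23)],
  [(nat_lit 23), (nat_lit 31)],
  [(nat_lit 23), (nat_lit 31), (nat_lit 33)],
  [(nat_lit 23), (nat_lit 25)],
  [(nat_lit 21)],
  [(nat_lit 21), (nat_lit 23)],
  [(nat_lit 21), (nat_lit 23), (nat_lit 33)],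
  [(nat_lit 21), (nat_lit 23), (nat_lit 31)],
  [(nat_lit 21), (nat_lit 23), (nat_lit 31), (nat_lit 33)],
  [(nat_lit 19)],
  [(nat_lit 19), (nat_lit 31)],
  [(nat_lit 19), (nat_lit 27)],
  [(nat_lit 17)],
  [(nat_lit 17), (nat_lit 33)],
  [(nat_lit 17), (nat_lit 29)],
  [(nat_lit 17), (nat_lit 29), (nat_lit 33)],
  [(nat_lit 15)],
  [(nat_lit 15), (nat_lit 33)],
  [(nat_lit 15), (nat_lit 31)],
  [(nat_lit 15), (nat_lit 31), (nat_lit 33)],
  [(nat_lit 15), (nat_lit 27)],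
  [(nat_lit 15), (nat_lit 27), (nat_lit 33)],
  [(nat_lit 15), (nat_lit 27), (nat_lit 31)],
  [(nat_lit 15), (nat_lit 27), (nat_lit 29)],
  [(nat_lit 15), (nat_lit 27), (nat_lit 29), (nat_lit 33)],
  [(nat_lit 15), (nat_lit 27), (nat_lit 29), (nat_lit 31)],
  [(nat_lit 15), (nat_lit 23)],
  [(nat_lit 15), (nat_lit 23), (nat_lit 33)],
  [(nat_lit 15), (nat_lit 23), (nat_lit 31)],
  [(nat_lit 13), (nat_lit 15), (nat_lit 17)],
  [(nat_lit 13), (nat_lit 15), (nat_lit 17), (nat_lit 23)],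
  [(nat_lit 13), (nat_lit 15), (nat_lit 17), (nat_lit 23), (nat_lit 27)],
  [(nat_lit 13), (nat_lit 15), (nat_lit 17), (nat_lit 23), (nat_lit 27), (nat_lit 29)],
  [(nat_lit 13), (nat_lit 15), (nat_lit 17), (nat_lit 21)],
  [(nat_lit 13), (nat_lit 15), (nat_lit 17), (nat_lit 21), (nat_lit 23)],
  [(nat_lit 11), (nat_lit 15), (nat_lit 19)],
  [(nat_lit 11), (nat_lit 15), (nat_lit 19), (nat_lit 25)],
  [(nat_lit 11), (nat_lit 15), (nat_lit 19), (nat_lit 23)],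
  [(nat_lit 11), (nat_lit 15), (nat_lit 19), (nat_lit 23), (nat_lit 25)],
  [(nat_lit 11), (nat_lit 15), (nat_lit 19), (nat_lit 23), (nat_lit 25), (nat_lit 33)],
  [(nat_lit 11), (nat_lit 15), (nat_lit 19), (nat_lit 23), (nat_lit 25), (nat_lit 31)],
  [(nat_lit 11), (nat_lit 15), (nat_lit 19), (nat_lit 23), (nat_lit 25), (nat_lit 31), (nat_lit 33)],
  [(nat_lit 9), (nat_lit 17), (nat_lit 23)],
  [(nat_lit 9), (nat_lit 17), (nat_lit 23), (nat_lit 33)],
  [(nat_lit 9), (nat_lit 17), (nat_lit 23), (nat_lit 31)],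
  [(nat_lit 9), (nat_lit 17), (nat_lit 23), (nat_lit 27)],
  [(nat_lit 9), (nat_lit 17), (nat_lit 23), (nat_lit 27), (nat_lit 31)],
  [(nat_lit 9), (nat_lit 17), (nat_lit 23), (nat_lit 27), (nat_lit 31), (nat_lit 33)],
  [(nat_lit 9), (nat_lit 15), (nat_lit 19)],
  [(nat_lit 9), (nat_lit 15), (nat_lit 19), (nat_lit 31)],
  [(nat_lit 7), (nat_lit 17), (nat_lit 25)],
  [(nat_lit 7), (nat_lit 17), (nat_lit 25), (nat_lit 31)],
  [(nat_lit 7), (nat_lit 17), (nat_lit 25), (nat_lit 27)],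
  [(nat_lit 3), (nat_lit 9), (nat_lit 15), (nat_lit 19), (nat_lit 21), (nat_lit 25)],
  [(nat_lit 3), (nat_lit 9), (nat_lit 15), (nat_lit 19), (nat_lit 21), (nat_lit 25), (nat_lit 33)],
  [(nat_lit 3), (nat_lit 9), (nat_lit 15), (nat_lit 19), (nat_lit 21), (nat_lit 25), (nat_lit 29)],
  [(nat_lit 3), (nat_lit 9), (nat_lit 15), (nat_lit 19), (nat_lit 21), (nat_lit 25), (nat_lit 29), (nat_lit 33)],
  [(nat_lit 1), (nat_lit 5), (nat_lit 23)],
  [(nat_lit 1), (nat_lit 5), (nat_lit 23), (nat_lit 33)],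
  [(nat_lit 1), (nat_lit 5), (nat_lit 23), (nat_lit 31)],
  [(nat_lit 1), (nat_lit 5), (nat_lit 23), (nat_lit 31), (nat_lit 33)],
  [(nat_lit 1), (nat_lit 5), (nat_lit 23), (nat_lit 29)],
  [(nat_lit 1), (nat_lit 5), (nat_lit 23), (nat_lit 29), (nat_lit 33)],
  [(nat_lit 1), (nat_lit 5), (nat_lit 23), (nat_lit 29), (nat_lit 31)],
  [(nat_lit 1), (nat_lit 5), (nat_lit 23), (nat_lit 29), (nat_lit 31), (nat_lit 33)],
  [(nat_lit 1), (nat_lit 5), (nat_lit 15), (nat_lit 19)],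
  [(nat_lit 1), (nat_lit 5), (nat_lit 15), (nat_lit 19), (nat_lit 33)],
  [(nat_lit 1), (nat_lit 3), (nat_lit 17), (nat_lit 27)],
  [(nat_lit 1), (nat_lit 3), (nat_lit 17), (nat_lit 23)],
  [(nat_lit 1), (nat_lit 3), (nat_lit 15), (nat_lit 27), (nat_lit 31)]]
noncomputable def a_E16 : List Ent := [Ent.split [⟨[], (nat_lit 0), []⟩, ⟨[], (nat_lit 1), []⟩],
  Ent.merge [(nat_lit 5)] (nat_lit 1) [(nat_lit 1)] ⟨[], (nat_lit 2), []⟩,
  Ent.split [⟨[], (nat_lit 3), []⟩, ⟨[], (nat_lit 4), []⟩],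
  Ent.merge [(nat_lit 5)] (nat_lit 1) [(nat_lit 1)] ⟨[], (nat_lit 5), []⟩,
  Ent.split [⟨[], (nat_lit 6), []⟩, ⟨[], (nat_lit 7), []⟩],
  Ent.split [⟨[], (nat_lit 8), []⟩, ⟨[], (nat_lit 9), []⟩],
  Ent.merge [(nat_lit 7)] (nat_lit 1) [] ⟨[], (nat_lit 10), []⟩,
  Ent.merge [(nat_lit 7)] (nat_lit 1) [] ⟨[], (nat_lit 11), []⟩,
  Ent.merge [(nat_lit 7)] (nat_lit 1) [] ⟨[], (nat_lit 12), []⟩,
  Ent.merge [(nat_lit 1)] (nat_lit 1) [] ⟨[], (nat_lit 13), []⟩,
  Ent.split [⟨[], (nat_lit 14), []⟩, ⟨[], (nat_lit 15), []⟩],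
  Ent.merge [(nat_lit 7)] (nat_lit 1) [] ⟨[], (nat_lit 16), []⟩,
  Ent.merge [(nat_lit 1), (nat_lit 3), (nat_lit 5), (nat_lit 7), (nat_lit 9), (nat_lit 17), (nat_lit 21), (nat_lit 23), (nat_lit 25), (nat_lit 29), (nat_lit 33)] (nat_lit 1) [] ⟨[], (nat_lit 17), []⟩,
  Ent.split [⟨[], (nat_lit 18), []⟩, ⟨[], (nat_lit 19), []⟩],
  Ent.split [⟨[], (nat_lit 20), []⟩, ⟨[], (nat_lit 21), []⟩],
  Ent.merge [(nat_lit 13)] (nat_lit 1) [] ⟨[], (nat_lit 22), []⟩,
  Ent.merge [(nat_lit 13)] (nat_lit 1) [] ⟨[], (nat_lit 23), []⟩,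
  Ent.merge [(nat_lit 13)] (nat_lit 1) [] ⟨[], (nat_lit 24), []⟩,
  Ent.split [⟨[], (nat_lit 25), []⟩, ⟨[], (nat_lit 26), []⟩],
  Ent.split [⟨[], (nat_lit 27), []⟩, ⟨[], (nat_lit 28), []⟩],
  Ent.split [⟨[], (nat_lit 29), []⟩, ⟨[], (nat_lit 30), []⟩],
  Ent.split [⟨[], (nat_lit 31), []⟩, ⟨[], (nat_lit 32), []⟩],
  Ent.split [⟨[], (nat_lit 33), []⟩, ⟨[], (nat_lit 34), []⟩],
  Ent.merge [(nat_lit 3), (nat_lit 5), (nat_lit 7), (nat_lit 9), (nat_lit 11), (nat_lit 15), (nat_lit 23), (nat_lit 25), (nat_lit 29), (nat_lit 31), (nat_lit 33), (nat_lit 35)] (nat_lit 1) [(nat_lit 1)] ⟨[], (nat_lit 35), []⟩,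
  Ent.split [⟨[], (nat_lit 36), []⟩, ⟨[], (nat_lit 37), []⟩],
  Ent.merge [(nat_lit 3), (nat_lit 5), (nat_lit 7), (nat_lit 9), (nat_lit 11), (nat_lit 15), (nat_lit 23), (nat_lit 25), (nat_lit 29), (nat_lit 31), (nat_lit 33), (nat_lit 35)] (nat_lit 1) [(nat_lit 1)] ⟨[], (nat_lit 38), []⟩,
  Ent.split [⟨[], (nat_lit 39), []⟩, ⟨[], (nat_lit 40), []⟩],
  Ent.merge [(nat_lit 1), (nat_lit 3), (nat_lit 7), (nat_lit 11), (nat_lit 15), (nat_lit 21), (nat_lit 23), (nat_lit 25), (nat_lit 31)] (nat_lit 1) [(nat_lit 1)] ⟨[], (nat_lit 41), []⟩,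
  Ent.merge [(nat_lit 19)] (nat_lit 1) [] ⟨[], (nat_lit 42), []⟩,
  Ent.merge [(nat_lit 19)] (nat_lit 1) [] ⟨[], (nat_lit 43), []⟩,
  Ent.merge [(nat_lit 19)] (nat_lit 1) [] ⟨[], (nat_lit 44), []⟩,
  Ent.merge [(nat_lit 19)] (nat_lit 1) [] ⟨[], (nat_lit 45), []⟩,
  Ent.merge [(nat_lit 19)] (nat_lit 1) [] ⟨[], (nat_lit 46), []⟩,
  Ent.merge [(nat_lit 19)] (nat_lit 1) [] ⟨[], (nat_lit 47), []⟩,
  Ent.dead (nat_lit 1) [],
  Ent.dead (nat_lit 1) [],
  Ent.merge [(nat_lit 7), (nat_lit 17)] (nat_lit 1) [(nat_lit 1)] ⟨[], (nat_lit 48), []⟩,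
  Ent.merge [(nat_lit 1), (nat_lit 5), (nat_lit 7), (nat_lit 9), (nat_lit 13), (nat_lit 15), (nat_lit 19), (nat_lit 21), (nat_lit 29), (nat_lit 35)] (nat_lit 1) [] ⟨[], (nat_lit 49), []⟩,
  Ent.merge [(nat_lit 7), (nat_lit 17)] (nat_lit 1) [(nat_lit 1)] ⟨[], (nat_lit 50), []⟩,
  Ent.split [⟨[], (nat_lit 51), []⟩, ⟨[], (nat_lit 52), []⟩],
  Ent.split [⟨[], (nat_lit 53), []⟩, ⟨[], (nat_lit 54), []⟩],
  Ent.split [⟨[], (nat_lit 55), []⟩, ⟨[], (nat_lit 56), []⟩],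
  Ent.merge [(nat_lit 3), (nat_lit 5), (nat_lit 9), (nat_lit 17), (nat_lit 25)] (nat_lit 1) [] ⟨[], (nat_lit 57), []⟩,
  Ent.merge [(nat_lit 3), (nat_lit 5), (nat_lit 9), (nat_lit 17), (nat_lit 23), (nat_lit 25)] (nat_lit 1) [] ⟨[], (nat_lit 58), []⟩,
  Ent.split [⟨[], (nat_lit 59), []⟩, ⟨[], (nat_lit 60), []⟩],
  Ent.merge [(nat_lit 13)] (nat_lit 1) [] ⟨[], (nat_lit 61), []⟩,
  Ent.merge [(nat_lit 13)] (nat_lit 1) [] ⟨[], (nat_lit 62), []⟩,
  Ent.dead (nat_lit 1) [],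
  Ent.dead (nat_lit 1) [],
  Ent.merge [(nat_lit 25)] (nat_lit 1) [] ⟨[], (nat_lit 63), []⟩,
  Ent.merge [(nat_lit 25)] (nat_lit 1) [] ⟨[], (nat_lit 64), []⟩,
  Ent.merge [(nat_lit 25)] (nat_lit 1) [] ⟨[], (nat_lit 65), []⟩,
  Ent.split [⟨[], (nat_lit 66), []⟩, ⟨[], (nat_lit 67), []⟩],
  Ent.split [⟨[], (nat_lit 68), []⟩, ⟨[], (nat_lit 69), []⟩],
  Ent.split [⟨[], (nat_lit 70), []⟩, ⟨[], (nat_lit 71), []⟩],
  Ent.split [⟨[], (nat_lit 72), []⟩, ⟨[], (nat_lit 73), []⟩],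
  Ent.split [⟨[], (nat_lit 74), []⟩, ⟨[], (nat_lit 75), []⟩],
  Ent.split [⟨[], (nat_lit 76), []⟩, ⟨[], (nat_lit 77), []⟩],
  Ent.split [⟨[], (nat_lit 78), []⟩, ⟨[], (nat_lit 79), []⟩],
  Ent.merge [(nat_lit 31)] (nat_lit 1) [(nat_lit 1)] ⟨[], (nat_lit 80), []⟩,
  Ent.dead (nat_lit 1) [(nat_lit 1)],
  Ent.merge [(nat_lit 31)] (nat_lit 1) [(nat_lit 1)] ⟨[], (nat_lit 81), []⟩,
  Ent.dead (nat_lit 1) [(nat_lit 1)],
  Ent.dead (nat_lit 1) [(nat_lit 1)],
  Ent.merge [(nat_lit 31)] (nat_lit 1) [(nat_lit 1)] ⟨[], (nat_lit 82), []⟩]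
noncomputable def a_X18 : List (List Nat) := [[],
  [(nat_lit 35)],
  [(nat_lit 33)],
  [(nat_lit 31)],
  [(nat_lit 29)],
  [(nat_lit 29), (nat_lit 35)],
  [(nat_lit 29), (nat_lit 33)],
  [(nat_lit 29), (nat_lit 31)],
  [(nat_lit 27)],
  [(nat_lit 27), (nat_lit 35)],
  [(nat_lit 27), (nat_lit 33)],
  [(nat_lit 27), (nat_lit 31)],
  [(nat_lit 27), (nat_lit 31), (nat_lit 33)],
  [(nat_lit 25)],
  [(nat_lit 25), (nat_lit 29)],
  [(nat_lit 25), (nat_lit 27)],
  [(nat_lit 23)],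
  [(nat_lit 23), (nat_lit 35)],
  [(nat_lit 23), (nat_lit 31)],
  [(nat_lit 23), (nat_lit 31), (nat_lit 35)],
  [(nat_lit 23), (nat_lit 31), (nat_lit 33)],
  [(nat_lit 23), (nat_lit 31), (nat_lit 33), (nat_lit 35)],
  [(nat_lit 23), (nat_lit 25)],
  [(nat_lit 21)],
  [(nat_lit 21), (nat_lit 23)],
  [(nat_lit 21), (nat_lit 23), (nat_lit 33)],
  [(nat_lit 21), (nat_lit 23), (nat_lit 31)],
  [(nat_lit 21), (nat_lit 23), (nat_lit 31), (nat_lit 33)],
  [(nat_lit 19)],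
  [(nat_lit 19), (nat_lit 35)],
  [(nat_lit 19), (nat_lit 31)],
  [(nat_lit 19), (nat_lit 31), (nat_lit 35)],
  [(nat_lit 19), (nat_lit 27)],
  [(nat_lit 19), (nat_lit 27), (nat_lit 35)],
  [(nat_lit 17)],
  [(nat_lit 17), (nat_lit 35)],
  [(nat_lit 17), (nat_lit 33)],
  [(nat_lit 17), (nat_lit 33), (nat_lit 35)],
  [(nat_lit 17), (nat_lit 29)],
  [(nat_lit 17), (nat_lit 29), (nat_lit 35)],
  [(nat_lit 17), (nat_lit 29), (nat_lit 33)],
  [(nat_lit 17), (nat_lit 29), (nat_lit 33), (nat_lit 35)],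
  [(nat_lit 15)],
  [(nat_lit 15), (nat_lit 35)],
  [(nat_lit 15), (nat_lit 33)],
  [(nat_lit 15), (nat_lit 31)],
  [(nat_lit 15), (nat_lit 31), (nat_lit 33)],
  [(nat_lit 15), (nat_lit 27)],
  [(nat_lit 15), (nat_lit 27), (nat_lit 35)],
  [(nat_lit 15), (nat_lit 27), (nat_lit 33)],
  [(nat_lit 15), (nat_lit 27), (nat_lit 31)],
  [(nat_lit 15), (nat_lit 27), (nat_lit 29)],
  [(nat_lit 15), (nat_lit 27), (nat_lit 29), (nat_lit 35)],
  [(nat_lit 15), (nat_lit 27), (nat_lit 29), (nat_lit 33)],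
  [(nat_lit 15), (nat_lit 27), (nat_lit 29), (nat_lit 31)],
  [(nat_lit 15), (nat_lit 23)],
  [(nat_lit 15), (nat_lit 23), (nat_lit 35)],
  [(nat_lit 15), (nat_lit 23), (nat_lit 33)],
  [(nat_lit 15), (nat_lit 23), (nat_lit 33), (nat_lit 35)],
  [(nat_lit 15), (nat_lit 23), (nat_lit 31)],
  [(nat_lit 15), (nat_lit 23), (nat_lit 31), (nat_lit 35)],
  [(nat_lit 13), (nat_lit 15), (nat_lit 17)],
  [(nat_lit 13), (nat_lit 15), (nat_lit 17), (nat_lit 23)],
  [(nat_lit 13), (nat_lit 15), (nat_lit 17), (nat_lit 23), (nat_lit 27)],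
  [(nat_lit 13), (nat_lit 15), (nat_lit 17), (nat_lit 23), (nat_lit 27), (nat_lit 29)],
  [(nat_lit 11), (nat_lit 15), (nat_lit 19), (nat_lit 25)],
  [(nat_lit 11), (nat_lit 15), (nat_lit 19), (nat_lit 23), (nat_lit 25)],
  [(nat_lit 11), (nat_lit 15), (nat_lit 19), (nat_lit 23), (nat_lit 25), (nat_lit 33)],
  [(nat_lit 11), (nat_lit 15), (nat_lit 19), (nat_lit 23), (nat_lit 25), (nat_lit 31)],
  [(nat_lit 11), (nat_lit 15), (nat_lit 19), (nat_lit 23), (nat_lit 25), (nat_lit 31), (nat_lit 33)],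
  [(nat_lit 9), (nat_lit 17), (nat_lit 23)],
  [(nat_lit 9), (nat_lit 17), (nat_lit 23), (nat_lit 33)],
  [(nat_lit 9), (nat_lit 17), (nat_lit 23), (nat_lit 27)],
  [(nat_lit 9), (nat_lit 15), (nat_lit 19), (nat_lit 31)],
  [(nat_lit 7), (nat_lit 17), (nat_lit 25)],
  [(nat_lit 7), (nat_lit 17), (nat_lit 25), (nat_lit 35)],
  [(nat_lit 7), (nat_lit 17), (nat_lit 25), (nat_lit 31)],
  [(nat_lit 7), (nat_lit 17), (nat_lit 25), (nat_lit 31), (nat_lit 35)],
  [(nat_lit 7), (nat_lit 17), (nat_lit 25), (nat_lit 27)],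
  [(nat_lit 7), (nat_lit 17), (nat_lit 25), (nat_lit 27), (nat_lit 35)],
  [(nat_lit 3), (nat_lit 9), (nat_lit 15), (nat_lit 19), (nat_lit 21), (nat_lit 25)],
  [(nat_lit 3), (nat_lit 9), (nat_lit 15), (nat_lit 19), (nat_lit 21), (nat_lit 25), (nat_lit 35)],
  [(nat_lit 3), (nat_lit 9), (nat_lit 15), (nat_lit 19), (nat_lit 21), (nat_lit 25), (nat_lit 33)],
  [(nat_lit 3), (nat_lit 9), (nat_lit 15), (nat_lit 19), (nat_lit 21), (nat_lit 25), (nat_lit 33), (nat_lit 35)],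
  [(nat_lit 3), (nat_lit 9), (nat_lit 15), (nat_lit 19), (nat_lit 21), (nat_lit 25), (nat_lit 29)],
  [(nat_lit 3), (nat_lit 9), (nat_lit 15), (nat_lit 19), (nat_lit 21), (nat_lit 25), (nat_lit 29), (nat_lit 35)],
  [(nat_lit 3), (nat_lit 9), (nat_lit 15), (nat_lit 19), (nat_lit 21), (nat_lit 25), (nat_lit 29), (nat_lit 33)],
  [(nat_lit 3), (nat_lit 9), (nat_lit 15), (nat_lit 19), (nat_lit 21), (nat_lit 25), (nat_lit 29), (nat_lit 33), (nat_lit 35)],
  [(nat_lit 1), (nat_lit 5), (nat_lit 23), (nat_lit 33)],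
  [(nat_lit 1), (nat_lit 5), (nat_lit 23), (nat_lit 31)],
  [(nat_lit 1), (nat_lit 5), (nat_lit 23), (nat_lit 29), (nat_lit 33)],
  [(nat_lit 1), (nat_lit 5), (nat_lit 23), (nat_lit 29), (nat_lit 31)],
  [(nat_lit 1), (nat_lit 5), (nat_lit 15), (nat_lit 19)],
  [(nat_lit 1), (nat_lit 3), (nat_lit 17), (nat_lit 27)],
  [(nat_lit 1), (nat_lit 3), (nat_lit 17), (nat_lit 27), (nat_lit 35)],
  [(nat_lit 1), (nat_lit 3), (nat_lit 17), (nat_lit 23)],
  [(nat_lit 1), (nat_lit 3), (nat_lit 15), (nat_lit 27), (nat_lit 31)]]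
noncomputable def a_E17 : List Ent := [Ent.split [⟨[], (nat_lit 0), []⟩, ⟨[], (nat_lit 1), []⟩],
  Ent.merge [(nat_lit 5)] (nat_lit 1) [] ⟨[], (nat_lit 2), []⟩,
  Ent.merge [(nat_lit 9)] (nat_lit 1) [] ⟨[], (nat_lit 3), []⟩,
  Ent.split [⟨[], (nat_lit 4), []⟩, ⟨[], (nat_lit 5), []⟩],
  Ent.merge [(nat_lit 5)] (nat_lit 1) [] ⟨[], (nat_lit 6), []⟩,
  Ent.merge [(nat_lit 9)] (nat_lit 1) [] ⟨[], (nat_lit 7), []⟩,
  Ent.split [⟨[], (nat_lit 8), []⟩, ⟨[], (nat_lit 9), []⟩],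
  Ent.merge [(nat_lit 1), (nat_lit 5), (nat_lit 7), (nat_lit 9), (nat_lit 13), (nat_lit 15), (nat_lit 21), (nat_lit 29), (nat_lit 35)] (nat_lit 1) [] ⟨[], (nat_lit 10), []⟩,
  Ent.merge [(nat_lit 9)] (nat_lit 1) [] ⟨[], (nat_lit 11), []⟩,
  Ent.merge [(nat_lit 9)] (nat_lit 1) [] ⟨[], (nat_lit 12), []⟩,
  Ent.merge [(nat_lit 11)] (nat_lit 1) [] ⟨[], (nat_lit 13), []⟩,
  Ent.merge [(nat_lit 11)] (nat_lit 1) [] ⟨[], (nat_lit 14), []⟩,
  Ent.merge [(nat_lit 11)] (nat_lit 1) [] ⟨[], (nat_lit 15), []⟩,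
  Ent.split [⟨[], (nat_lit 16), []⟩, ⟨[], (nat_lit 17), []⟩],
  Ent.split [⟨[], (nat_lit 18), []⟩, ⟨[], (nat_lit 19), []⟩],
  Ent.split [⟨[], (nat_lit 20), []⟩, ⟨[], (nat_lit 21), []⟩],
  Ent.merge [(nat_lit 11)] (nat_lit 1) [] ⟨[], (nat_lit 22), []⟩,
  Ent.merge [(nat_lit 13)] (nat_lit 1) [] ⟨[], (nat_lit 23), []⟩,
  Ent.merge [(nat_lit 13)] (nat_lit 1) [] ⟨[], (nat_lit 24), []⟩,
  Ent.merge [(nat_lit 13)] (nat_lit 1) [] ⟨[], (nat_lit 25), []⟩,
  Ent.merge [(nat_lit 13)] (nat_lit 1) [] ⟨[], (nat_lit 26), []⟩,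
  Ent.merge [(nat_lit 13)] (nat_lit 1) [] ⟨[], (nat_lit 27), []⟩,
  Ent.split [⟨[], (nat_lit 28), []⟩, ⟨[], (nat_lit 29), []⟩],
  Ent.split [⟨[], (nat_lit 30), []⟩, ⟨[], (nat_lit 31), []⟩],
  Ent.split [⟨[], (nat_lit 32), []⟩, ⟨[], (nat_lit 33), []⟩],
  Ent.split [⟨[], (nat_lit 34), []⟩, ⟨[], (nat_lit 35), []⟩],
  Ent.split [⟨[], (nat_lit 36), []⟩, ⟨[], (nat_lit 37), []⟩],
  Ent.split [⟨[], (nat_lit 38), []⟩, ⟨[], (nat_lit 39), []⟩],
  Ent.split [⟨[], (nat_lit 40), []⟩, ⟨[], (nat_lit 41), []⟩],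
  Ent.split [⟨[], (nat_lit 42), []⟩, ⟨[], (nat_lit 43), []⟩],
  Ent.merge [(nat_lit 1), (nat_lit 5), (nat_lit 9), (nat_lit 17), (nat_lit 25)] (nat_lit 1) [] ⟨[], (nat_lit 44), []⟩,
  Ent.merge [(nat_lit 9), (nat_lit 11), (nat_lit 13), (nat_lit 21), (nat_lit 23), (nat_lit 27), (nat_lit 29), (nat_lit 31)] (nat_lit 1) [] ⟨[], (nat_lit 45), []⟩,
  Ent.merge [(nat_lit 9), (nat_lit 11), (nat_lit 13), (nat_lit 21), (nat_lit 23), (nat_lit 27), (nat_lit 29), (nat_lit 31)] (nat_lit 1) [] ⟨[], (nat_lit 46), []⟩,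
  Ent.split [⟨[], (nat_lit 47), []⟩, ⟨[], (nat_lit 48), []⟩],
  Ent.merge [(nat_lit 3), (nat_lit 5), (nat_lit 7), (nat_lit 9), (nat_lit 11), (nat_lit 15), (nat_lit 23), (nat_lit 25), (nat_lit 29), (nat_lit 31), (nat_lit 33), (nat_lit 35)] (nat_lit 1) [] ⟨[], (nat_lit 49), []⟩,
  Ent.merge [(nat_lit 9), (nat_lit 11), (nat_lit 13), (nat_lit 21), (nat_lit 23), (nat_lit 27), (nat_lit 29), (nat_lit 31)] (nat_lit 1) [] ⟨[], (nat_lit 50), []⟩,
  Ent.split [⟨[], (nat_lit 51), []⟩, ⟨[], (nat_lit 52), []⟩],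
  Ent.merge [(nat_lit 3), (nat_lit 5), (nat_lit 7), (nat_lit 9), (nat_lit 11), (nat_lit 15), (nat_lit 23), (nat_lit 25), (nat_lit 29), (nat_lit 31), (nat_lit 33), (nat_lit 35)] (nat_lit 1) [] ⟨[], (nat_lit 53), []⟩,
  Ent.merge [(nat_lit 9), (nat_lit 11), (nat_lit 13), (nat_lit 21), (nat_lit 23), (nat_lit 27), (nat_lit 29), (nat_lit 31)] (nat_lit 1) [] ⟨[], (nat_lit 54), []⟩,
  Ent.split [⟨[], (nat_lit 55), []⟩, ⟨[], (nat_lit 56), []⟩],
  Ent.split [⟨[], (nat_lit 57), []⟩, ⟨[], (nat_lit 58), []⟩],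
  Ent.split [⟨[], (nat_lit 59), []⟩, ⟨[], (nat_lit 60), []⟩],
  Ent.merge [(nat_lit 21)] (nat_lit 1) [] ⟨[], (nat_lit 61), []⟩,
  Ent.merge [(nat_lit 21)] (nat_lit 1) [] ⟨[], (nat_lit 62), []⟩,
  Ent.merge [(nat_lit 21)] (nat_lit 1) [] ⟨[], (nat_lit 63), []⟩,
  Ent.merge [(nat_lit 21)] (nat_lit 1) [] ⟨[], (nat_lit 64), []⟩,
  Ent.dead (nat_lit 1) [],
  Ent.dead (nat_lit 1) [],
  Ent.dead (nat_lit 1) [],
  Ent.merge [(nat_lit 25)] (nat_lit 1) [] ⟨[], (nat_lit 65), []⟩,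
  Ent.dead (nat_lit 1) [],
  Ent.merge [(nat_lit 25)] (nat_lit 1) [] ⟨[], (nat_lit 66), []⟩,
  Ent.merge [(nat_lit 25)] (nat_lit 1) [] ⟨[], (nat_lit 67), []⟩,
  Ent.merge [(nat_lit 25)] (nat_lit 1) [] ⟨[], (nat_lit 68), []⟩,
  Ent.merge [(nat_lit 25)] (nat_lit 1) [] ⟨[], (nat_lit 69), []⟩,
  Ent.merge [(nat_lit 31)] (nat_lit 1) [] ⟨[], (nat_lit 70), []⟩,
  Ent.merge [(nat_lit 31)] (nat_lit 1) [] ⟨[], (nat_lit 71), []⟩,
  Ent.dead (nat_lit 1) [],
  Ent.merge [(nat_lit 31)] (nat_lit 1) [] ⟨[], (nat_lit 72), []⟩,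
  Ent.dead (nat_lit 1) [],
  Ent.dead (nat_lit 1) [],
  Ent.dead (nat_lit 1) [],
  Ent.merge [(nat_lit 31)] (nat_lit 1) [] ⟨[], (nat_lit 73), []⟩,
  Ent.split [⟨[], (nat_lit 74), []⟩, ⟨[], (nat_lit 75), []⟩],
  Ent.split [⟨[], (nat_lit 76), []⟩, ⟨[], (nat_lit 77), []⟩],
  Ent.split [⟨[], (nat_lit 78), []⟩, ⟨[], (nat_lit 79), []⟩],
  Ent.split [⟨[], (nat_lit 80), []⟩, ⟨[], (nat_lit 81), []⟩],
  Ent.split [⟨[], (nat_lit 82), []⟩, ⟨[], (nat_lit 83), []⟩],
  Ent.split [⟨[], (nat_lit 84), []⟩, ⟨[], (nat_lit 85), []⟩],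
  Ent.split [⟨[], (nat_lit 86), []⟩, ⟨[], (nat_lit 87), []⟩],
  Ent.dead (nat_lit 1) [],
  Ent.merge [(nat_lit 33)] (nat_lit 1) [] ⟨[], (nat_lit 88), []⟩,
  Ent.merge [(nat_lit 33)] (nat_lit 1) [] ⟨[], (nat_lit 89), []⟩,
  Ent.dead (nat_lit 1) [],
  Ent.dead (nat_lit 1) [],
  Ent.merge [(nat_lit 33)] (nat_lit 1) [] ⟨[], (nat_lit 90), []⟩,
  Ent.merge [(nat_lit 33)] (nat_lit 1) [] ⟨[], (nat_lit 91), []⟩,
  Ent.dead (nat_lit 1) [],
  Ent.merge [(nat_lit 33)] (nat_lit 1) [] ⟨[], (nat_lit 92), []⟩,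
  Ent.dead (nat_lit 1) [],
  Ent.split [⟨[], (nat_lit 93), []⟩, ⟨[], (nat_lit 94), []⟩],
  Ent.merge [(nat_lit 9), (nat_lit 17), (nat_lit 31)] (nat_lit 1) [] ⟨[], (nat_lit 95), []⟩,
  Ent.merge [(nat_lit 13), (nat_lit 21), (nat_lit 27)] (nat_lit 1) [] ⟨[], (nat_lit 96), []⟩]
noncomputable def a_F : List To := [⟨[], (nat_lit 0), []⟩,
  ⟨[(nat_lit 43), (nat_lit 33), (nat_lit 29), (nat_lit 3), (nat_lit 47), (nat_lit 29), (nat_lit 47), (nat_lit 41), (nat_lit 28), (nat_lit 33), (nat_lit 39), (nat_lit 33), (nat_lit 41), (nat_lit 48), (nat_lit 39), (nat_lit 45), (nat_lit 43), (nat_lit 49), (nat_lit 51)], (nat_lit 3), []⟩,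
  ⟨[(nat_lit 33), (nat_lit 48), (nat_lit 27), (nat_lit 51), (nat_lit 28), (nat_lit 1), (nat_lit 44), (nat_lit 41), (nat_lit 39), (nat_lit 28), (nat_lit 39), (nat_lit 41), (nat_lit 33), (nat_lit 39), (nat_lit 39), (nat_lit 47), (nat_lit 45)], (nat_lit 3), []⟩,
  ⟨[(nat_lit 33), (nat_lit 29), (nat_lit 39), (nat_lit 15), (nat_lit 37), (nat_lit 35), (nat_lit 15), (nat_lit 49), (nat_lit 17), (nat_lit 39), (nat_lit 3), (nat_lit 49), (nat_lit 29), (nat_lit 33), (nat_lit 45), (nat_lit 40), (nat_lit 33), (nat_lit 45), (nat_lit 40), (nat_lit 49), (nat_lit 23)], (nat_lit 3), []⟩,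
  ⟨[(nat_lit 15), (nat_lit 23), (nat_lit 28), (nat_lit 1), (nat_lit 30), (nat_lit 48), (nat_lit 15), (nat_lit 48), (nat_lit 33), (nat_lit 3), (nat_lit 45), (nat_lit 35), (nat_lit 33), (nat_lit 29), (nat_lit 27), (nat_lit 48), (nat_lit 43), (nat_lit 37), (nat_lit 33), (nat_lit 43), (nat_lit 49), (nat_lit 51), (nat_lit 23)], (nat_lit 2), []⟩,
  ⟨[], (nat_lit 1), []⟩,
  ⟨[(nat_lit 28), (nat_lit 30), (nat_lit 51), (nat_lit 15), (nat_lit 39), (nat_lit 15), (nat_lit 39), (nat_lit 51), (nat_lit 28), (nat_lit 1), (nat_lit 33), (nat_lit 43), (nat_lit 28), (nat_lit 35), (nat_lit 33), (nat_lit 40), (nat_lit 48), (nat_lit 39), (nat_lit 47), (nat_lit 23)], (nat_lit 2), []⟩,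
  ⟨[(nat_lit 43), (nat_lit 27), (nat_lit 15), (nat_lit 17), (nat_lit 40), (nat_lit 15), (nat_lit 41), (nat_lit 28), (nat_lit 44), (nat_lit 3), (nat_lit 41), (nat_lit 37), (nat_lit 27), (nat_lit 27), (nat_lit 44), (nat_lit 45), (nat_lit 37), (nat_lit 33), (nat_lit 44), (nat_lit 45), (nat_lit 39), (nat_lit 45)], (nat_lit 3), []⟩,
  ⟨[(nat_lit 48), (nat_lit 7), (nat_lit 9), (nat_lit 15), (nat_lit 39), (nat_lit 15), (nat_lit 37), (nat_lit 43), (nat_lit 1), (nat_lit 30), (nat_lit 41), (nat_lit 28), (nat_lit 28), (nat_lit 34), (nat_lit 43), (nat_lit 37), (nat_lit 35), (nat_lit 33), (nat_lit 40), (nat_lit 41), (nat_lit 43), (nat_lit 48), (nat_lit 23)], (nat_lit 1), []⟩,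
  ⟨[(nat_lit 49), (nat_lit 9), (nat_lit 40), (nat_lit 15), (nat_lit 40), (nat_lit 15), (nat_lit 30), (nat_lit 3), (nat_lit 33), (nat_lit 1), (nat_lit 34), (nat_lit 40), (nat_lit 30), (nat_lit 33), (nat_lit 41), (nat_lit 47), (nat_lit 41), (nat_lit 39), (nat_lit 44), (nat_lit 48), (nat_lit 48), (nat_lit 23)], (nat_lit 2), []⟩,
  ⟨[(nat_lit 34), (nat_lit 15), (nat_lit 44), (nat_lit 9), (nat_lit 39), (nat_lit 15), (nat_lit 33), (nat_lit 41), (nat_lit 3), (nat_lit 40), (nat_lit 27), (nat_lit 44), (nat_lit 28), (nat_lit 35), (nat_lit 41), (nat_lit 33), (nat_lit 45), (nat_lit 41), (nat_lit 39), (nat_lit 44), (nat_lit 49)], (nat_lit 3), []⟩,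
  ⟨[(nat_lit 40), (nat_lit 29), (nat_lit 7), (nat_lit 5), (nat_lit 1), (nat_lit 49), (nat_lit 30), (nat_lit 43), (nat_lit 28), (nat_lit 44), (nat_lit 47), (nat_lit 39), (nat_lit 44), (nat_lit 23)], (nat_lit 3), []⟩,
  ⟨[(nat_lit 19), (nat_lit 30), (nat_lit 27), (nat_lit 15), (nat_lit 17), (nat_lit 39), (nat_lit 15), (nat_lit 40), (nat_lit 33), (nat_lit 3), (nat_lit 40), (nat_lit 30), (nat_lit 27), (nat_lit 27), (nat_lit 39), (nat_lit 33), (nat_lit 44), (nat_lit 45), (nat_lit 39), (nat_lit 47), (nat_lit 51), (nat_lit 23)], (nat_lit 2), []⟩,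
  ⟨[(nat_lit 17), (nat_lit 43), (nat_lit 11), (nat_lit 1), (nat_lit 28), (nat_lit 1), (nat_lit 33), (nat_lit 49), (nat_lit 39), (nat_lit 27), (nat_lit 39), (nat_lit 33), (nat_lit 35), (nat_lit 33), (nat_lit 49), (nat_lit 45), (nat_lit 39)], (nat_lit 3), []⟩,
  ⟨[(nat_lit 48), (nat_lit 13), (nat_lit 40), (nat_lit 3), (nat_lit 15), (nat_lit 39), (nat_lit 15), (nat_lit 44), (nat_lit 40), (nat_lit 3), (nat_lit 51), (nat_lit 37), (nat_lit 33), (nat_lit 30), (nat_lit 27), (nat_lit 39), (nat_lit 43), (nat_lit 33), (nat_lit 41), (nat_lit 39), (nat_lit 39)], (nat_lit 2), []⟩,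
  ⟨[(nat_lit 44), (nat_lit 9), (nat_lit 5), (nat_lit 15), (nat_lit 43), (nat_lit 17), (nat_lit 40), (nat_lit 15), (nat_lit 48), (nat_lit 40), (nat_lit 28), (nat_lit 3), (nat_lit 27), (nat_lit 35), (nat_lit 30), (nat_lit 27), (nat_lit 41), (nat_lit 33), (nat_lit 35), (nat_lit 33), (nat_lit 43), (nat_lit 49)], (nat_lit 3), []⟩,
  ⟨[(nat_lit 30), (nat_lit 27), (nat_lit 15), (nat_lit 17), (nat_lit 39), (nat_lit 15), (nat_lit 34), (nat_lit 48), (nat_lit 5), (nat_lit 1), (nat_lit 28), (nat_lit 43), (nat_lit 33), (nat_lit 28), (nat_lit 33), (nat_lit 40), (nat_lit 44), (nat_lit 33), (nat_lit 41), (nat_lit 40), (nat_lit 40), (nat_lit 45), (nat_lit 48)], (nat_lit 2), []⟩,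
  ⟨[(nat_lit 35), (nat_lit 27), (nat_lit 33), (nat_lit 29), (nat_lit 1), (nat_lit 40), (nat_lit 28), (nat_lit 48), (nat_lit 28), (nat_lit 34), (nat_lit 45), (nat_lit 33), (nat_lit 37), (nat_lit 33), (nat_lit 39), (nat_lit 47), (nat_lit 45), (nat_lit 23)], (nat_lit 3), []⟩,
  ⟨[(nat_lit 35), (nat_lit 9), (nat_lit 30), (nat_lit 27), (nat_lit 15), (nat_lit 39), (nat_lit 15), (nat_lit 27), (nat_lit 27), (nat_lit 30), (nat_lit 1), (nat_lit 34), (nat_lit 39), (nat_lit 29), (nat_lit 27), (nat_lit 39), (nat_lit 43), (nat_lit 39), (nat_lit 39), (nat_lit 43), (nat_lit 48), (nat_lit 23)], (nat_lit 1), []⟩,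
  ⟨[(nat_lit 15), (nat_lit 41), (nat_lit 30), (nat_lit 39), (nat_lit 15), (nat_lit 51), (nat_lit 9), (nat_lit 28), (nat_lit 5), (nat_lit 1), (nat_lit 45), (nat_lit 33), (nat_lit 30), (nat_lit 27), (nat_lit 43), (nat_lit 33), (nat_lit 37), (nat_lit 33), (nat_lit 45), (nat_lit 40), (nat_lit 48), (nat_lit 44), (nat_lit 51)], (nat_lit 3), []⟩,
  ⟨[(nat_lit 9), (nat_lit 11), (nat_lit 27), (nat_lit 5), (nat_lit 1), (nat_lit 29), (nat_lit 48), (nat_lit 30), (nat_lit 34), (nat_lit 40), (nat_lit 37), (nat_lit 33), (nat_lit 41), (nat_lit 39), (nat_lit 43), (nat_lit 51)], (nat_lit 2), []⟩,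
  ⟨[(nat_lit 15), (nat_lit 33), (nat_lit 11), (nat_lit 23), (nat_lit 27), (nat_lit 1), (nat_lit 35), (nat_lit 15), (nat_lit 27), (nat_lit 19), (nat_lit 1), (nat_lit 45), (nat_lit 33), (nat_lit 28), (nat_lit 47), (nat_lit 33), (nat_lit 43), (nat_lit 41), (nat_lit 45), (nat_lit 51), (nat_lit 23)], (nat_lit 3), []⟩,
  ⟨[(nat_lit 31), (nat_lit 45), (nat_lit 17), (nat_lit 43), (nat_lit 15), (nat_lit 41), (nat_lit 15), (nat_lit 29), (nat_lit 41), (nat_lit 29), (nat_lit 1), (nat_lit 35), (nat_lit 30), (nat_lit 37), (nat_lit 33), (nat_lit 35), (nat_lit 33), (nat_lit 39), (nat_lit 45), (nat_lit 41), (nat_lit 48), (nat_lit 43)], (nat_lit 3), []⟩,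
  ⟨[(nat_lit 45), (nat_lit 28), (nat_lit 15), (nat_lit 41), (nat_lit 15), (nat_lit 9), (nat_lit 28), (nat_lit 19), (nat_lit 34), (nat_lit 41), (nat_lit 29), (nat_lit 27), (nat_lit 41), (nat_lit 39), (nat_lit 35), (nat_lit 33), (nat_lit 39), (nat_lit 43), (nat_lit 39), (nat_lit 39), (nat_lit 49), (nat_lit 51)], (nat_lit 3), []⟩,
  ⟨[(nat_lit 37), (nat_lit 13), (nat_lit 48), (nat_lit 43), (nat_lit 27), (nat_lit 15), (nat_lit 39), (nat_lit 15), (nat_lit 7), (nat_lit 28), (nat_lit 39), (nat_lit 3), (nat_lit 43), (nat_lit 28), (nat_lit 35), (nat_lit 40), (nat_lit 33), (nat_lit 39), (nat_lit 47), (nat_lit 39)], (nat_lit 3), []⟩,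
  ⟨[(nat_lit 30), (nat_lit 27), (nat_lit 15), (nat_lit 17), (nat_lit 39), (nat_lit 15), (nat_lit 34), (nat_lit 19), (nat_lit 1), (nat_lit 34), (nat_lit 30), (nat_lit 40), (nat_lit 30), (nat_lit 43), (nat_lit 33), (nat_lit 45), (nat_lit 33), (nat_lit 45), (nat_lit 40), (nat_lit 49), (nat_lit 51)], (nat_lit 2), []⟩,
  ⟨[(nat_lit 19), (nat_lit 39), (nat_lit 7), (nat_lit 28), (nat_lit 1), (nat_lit 27), (nat_lit 34), (nat_lit 39), (nat_lit 27), (nat_lit 27), (nat_lit 33), (nat_lit 45), (nat_lit 49), (nat_lit 39), (nat_lit 49), (nat_lit 23)], (nat_lit 3), []⟩,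
  ⟨[(nat_lit 31), (nat_lit 15), (nat_lit 9), (nat_lit 30), (nat_lit 39), (nat_lit 9), (nat_lit 39), (nat_lit 15), (nat_lit 43), (nat_lit 29), (nat_lit 3), (nat_lit 27), (nat_lit 27), (nat_lit 44), (nat_lit 27), (nat_lit 43), (nat_lit 41), (nat_lit 33), (nat_lit 45), (nat_lit 43), (nat_lit 39), (nat_lit 39)], (nat_lit 3), []⟩,
  ⟨[(nat_lit 5), (nat_lit 9), (nat_lit 45), (nat_lit 28), (nat_lit 15), (nat_lit 44), (nat_lit 15), (nat_lit 51), (nat_lit 28), (nat_lit 3), (nat_lit 28), (nat_lit 1), (nat_lit 29), (nat_lit 28), (nat_lit 40), (nat_lit 27), (nat_lit 45), (nat_lit 40), (nat_lit 35), (nat_lit 33), (nat_lit 41), (nat_lit 47)], (nat_lit 3), []⟩,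
  ⟨[(nat_lit 30), (nat_lit 39), (nat_lit 41), (nat_lit 34), (nat_lit 15), (nat_lit 39), (nat_lit 15), (nat_lit 11), (nat_lit 3), (nat_lit 34), (nat_lit 1), (nat_lit 30), (nat_lit 48), (nat_lit 28), (nat_lit 33), (nat_lit 35), (nat_lit 33), (nat_lit 48), (nat_lit 39), (nat_lit 45), (nat_lit 49), (nat_lit 23)], (nat_lit 2), []⟩,
  ⟨[(nat_lit 29), (nat_lit 39), (nat_lit 15), (nat_lit 13), (nat_lit 27), (nat_lit 35), (nat_lit 15), (nat_lit 47), (nat_lit 29), (nat_lit 28), (nat_lit 1), (nat_lit 40), (nat_lit 43), (nat_lit 28), (nat_lit 29), (nat_lit 39), (nat_lit 43), (nat_lit 33), (nat_lit 41), (nat_lit 39), (nat_lit 39), (nat_lit 23)], (nat_lit 3), []⟩,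
  ⟨[(nat_lit 7), (nat_lit 19), (nat_lit 27), (nat_lit 43), (nat_lit 1), (nat_lit 27), (nat_lit 41), (nat_lit 45), (nat_lit 29), (nat_lit 49), (nat_lit 43), (nat_lit 37), (nat_lit 33), (nat_lit 39), (nat_lit 41), (nat_lit 39), (nat_lit 39), (nat_lit 51)], (nat_lit 3), []⟩,
  ⟨[(nat_lit 17), (nat_lit 34), (nat_lit 28), (nat_lit 34), (nat_lit 15), (nat_lit 49), (nat_lit 37), (nat_lit 15), (nat_lit 1), (nat_lit 33), (nat_lit 41), (nat_lit 1), (nat_lit 31), (nat_lit 34), (nat_lit 30), (nat_lit 43), (nat_lit 33), (nat_lit 47), (nat_lit 33), (nat_lit 41), (nat_lit 45), (nat_lit 43)], (nat_lit 3), []⟩,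
  ⟨[(nat_lit 7), (nat_lit 30), (nat_lit 35), (nat_lit 15), (nat_lit 17), (nat_lit 40), (nat_lit 15), (nat_lit 27), (nat_lit 44), (nat_lit 34), (nat_lit 19), (nat_lit 39), (nat_lit 33), (nat_lit 29), (nat_lit 34), (nat_lit 44), (nat_lit 39), (nat_lit 33), (nat_lit 47), (nat_lit 39), (nat_lit 39), (nat_lit 23)], (nat_lit 3), []⟩,
  ⟨[(nat_lit 33), (nat_lit 44), (nat_lit 34), (nat_lit 29), (nat_lit 15), (nat_lit 43), (nat_lit 15), (nat_lit 1), (nat_lit 40), (nat_lit 30), (nat_lit 1), (nat_lit 41), (nat_lit 39), (nat_lit 39), (nat_lit 28), (nat_lit 51), (nat_lit 40), (nat_lit 33), (nat_lit 51), (nat_lit 40), (nat_lit 40), (nat_lit 47), (nat_lit 51)], (nat_lit 3), []⟩,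
  ⟨[(nat_lit 5), (nat_lit 15), (nat_lit 49), (nat_lit 28), (nat_lit 28), (nat_lit 37), (nat_lit 15), (nat_lit 13), (nat_lit 9), (nat_lit 39), (nat_lit 3), (nat_lit 39), (nat_lit 29), (nat_lit 45), (nat_lit 28), (nat_lit 34), (nat_lit 39), (nat_lit 37), (nat_lit 33), (nat_lit 39), (nat_lit 47), (nat_lit 40)], (nat_lit 2), []⟩,
  ⟨[(nat_lit 7), (nat_lit 15), (nat_lit 35), (nat_lit 39), (nat_lit 28), (nat_lit 37), (nat_lit 15), (nat_lit 41), (nat_lit 1), (nat_lit 28), (nat_lit 3), (nat_lit 30), (nat_lit 44), (nat_lit 29), (nat_lit 40), (nat_lit 48), (nat_lit 39), (nat_lit 33), (nat_lit 45), (nat_lit 47), (nat_lit 39), (nat_lit 44), (nat_lit 49)], (nat_lit 3), []⟩,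
  ⟨[(nat_lit 45), (nat_lit 15), (nat_lit 40), (nat_lit 9), (nat_lit 40), (nat_lit 15), (nat_lit 34), (nat_lit 27), (nat_lit 7), (nat_lit 5), (nat_lit 1), (nat_lit 47), (nat_lit 45), (nat_lit 40), (nat_lit 28), (nat_lit 40), (nat_lit 43), (nat_lit 37), (nat_lit 33), (nat_lit 41), (nat_lit 39), (nat_lit 44), (nat_lit 48)], (nat_lit 3), []⟩,
  ⟨[(nat_lit 34), (nat_lit 35), (nat_lit 33), (nat_lit 29), (nat_lit 3), (nat_lit 47), (nat_lit 29), (nat_lit 39), (nat_lit 29), (nat_lit 37), (nat_lit 43), (nat_lit 39), (nat_lit 33), (nat_lit 40), (nat_lit 41), (nat_lit 43)], (nat_lit 3), []⟩,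
  ⟨[(nat_lit 48), (nat_lit 27), (nat_lit 3), (nat_lit 15), (nat_lit 40), (nat_lit 15), (nat_lit 9), (nat_lit 29), (nat_lit 19), (nat_lit 5), (nat_lit 1), (nat_lit 29), (nat_lit 43), (nat_lit 39), (nat_lit 27), (nat_lit 41), (nat_lit 40), (nat_lit 40), (nat_lit 45), (nat_lit 51)], (nat_lit 3), []⟩,
  ⟨[(nat_lit 15), (nat_lit 29), (nat_lit 1), (nat_lit 27), (nat_lit 39), (nat_lit 15), (nat_lit 30), (nat_lit 34), (nat_lit 19), (nat_lit 1), (nat_lit 39), (nat_lit 39), (nat_lit 30), (nat_lit 47), (nat_lit 47), (nat_lit 37), (nat_lit 33), (nat_lit 40), (nat_lit 45), (nat_lit 43), (nat_lit 49), (nat_lit 23)], (nat_lit 3), []⟩,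
  ⟨[(nat_lit 15), (nat_lit 29), (nat_lit 1), (nat_lit 27), (nat_lit 43), (nat_lit 15), (nat_lit 3), (nat_lit 39), (nat_lit 39), (nat_lit 3), (nat_lit 41), (nat_lit 29), (nat_lit 45), (nat_lit 28), (nat_lit 33), (nat_lit 40), (nat_lit 33), (nat_lit 43), (nat_lit 41), (nat_lit 39), (nat_lit 49), (nat_lit 23)], (nat_lit 3), []⟩,
  ⟨[(nat_lit 33), (nat_lit 45), (nat_lit 11), (nat_lit 27), (nat_lit 15), (nat_lit 39), (nat_lit 15), (nat_lit 37), (nat_lit 1), (nat_lit 27), (nat_lit 1), (nat_lit 41), (nat_lit 27), (nat_lit 33), (nat_lit 30), (nat_lit 40), (nat_lit 51), (nat_lit 41), (nat_lit 33), (nat_lit 45), (nat_lit 41), (nat_lit 44)], (nat_lit 2), []⟩,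
  ⟨[(nat_lit 7), (nat_lit 48), (nat_lit 27), (nat_lit 51), (nat_lit 28), (nat_lit 1), (nat_lit 41), (nat_lit 28), (nat_lit 37), (nat_lit 27), (nat_lit 39), (nat_lit 45), (nat_lit 37), (nat_lit 33), (nat_lit 44), (nat_lit 39), (nat_lit 51), (nat_lit 23)], (nat_lit 3), []⟩,
  ⟨[(nat_lit 51), (nat_lit 27), (nat_lit 33), (nat_lit 30), (nat_lit 15), (nat_lit 40), (nat_lit 15), (nat_lit 40), (nat_lit 9), (nat_lit 33), (nat_lit 3), (nat_lit 34), (nat_lit 48), (nat_lit 33), (nat_lit 30), (nat_lit 48), (nat_lit 33), (nat_lit 40), (nat_lit 48), (nat_lit 40), (nat_lit 49), (nat_lit 48), (nat_lit 23)], (nat_lit 3), []⟩,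
  ⟨[(nat_lit 7), (nat_lit 28), (nat_lit 34), (nat_lit 15), (nat_lit 40), (nat_lit 15), (nat_lit 45), (nat_lit 30), (nat_lit 33), (nat_lit 1), (nat_lit 48), (nat_lit 28), (nat_lit 29), (nat_lit 47), (nat_lit 43), (nat_lit 37), (nat_lit 33), (nat_lit 47), (nat_lit 40), (nat_lit 40), (nat_lit 48)], (nat_lit 3), []⟩,
  ⟨[(nat_lit 37), (nat_lit 28), (nat_lit 17), (nat_lit 29), (nat_lit 15), (nat_lit 39), (nat_lit 15), (nat_lit 28), (nat_lit 43), (nat_lit 1), (nat_lit 40), (nat_lit 28), (nat_lit 48), (nat_lit 28), (nat_lit 34), (nat_lit 43), (nat_lit 33), (nat_lit 41), (nat_lit 47), (nat_lit 39), (nat_lit 49), (nat_lit 48), (nat_lit 51)], (nat_lit 3), []⟩,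
  ⟨[(nat_lit 1), (nat_lit 35), (nat_lit 15), (nat_lit 17), (nat_lit 41), (nat_lit 15), (nat_lit 35), (nat_lit 28), (nat_lit 19), (nat_lit 45), (nat_lit 30), (nat_lit 43), (nat_lit 28), (nat_lit 51), (nat_lit 34), (nat_lit 35), (nat_lit 33), (nat_lit 48), (nat_lit 40), (nat_lit 40), (nat_lit 51)], (nat_lit 1), []⟩,
  ⟨[(nat_lit 9), (nat_lit 28), (nat_lit 33), (nat_lit 15), (nat_lit 43), (nat_lit 15), (nat_lit 19), (nat_lit 44), (nat_lit 33), (nat_lit 1), (nat_lit 48), (nat_lit 28), (nat_lit 49), (nat_lit 47), (nat_lit 39), (nat_lit 33), (nat_lit 47), (nat_lit 39), (nat_lit 39), (nat_lit 43), (nat_lit 48), (nat_lit 51)], (nat_lit 3), []⟩,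
  ⟨[(nat_lit 9), (nat_lit 51), (nat_lit 30), (nat_lit 47), (nat_lit 15), (nat_lit 41), (nat_lit 15), (nat_lit 27), (nat_lit 41), (nat_lit 11), (nat_lit 28), (nat_lit 1), (nat_lit 27), (nat_lit 40), (nat_lit 45), (nat_lit 33), (nat_lit 44), (nat_lit 47), (nat_lit 39), (nat_lit 45), (nat_lit 49), (nat_lit 51)], (nat_lit 3), []⟩,
  ⟨[(nat_lit 9), (nat_lit 47), (nat_lit 30), (nat_lit 34), (nat_lit 15), (nat_lit 39), (nat_lit 15), (nat_lit 27), (nat_lit 1), (nat_lit 28), (nat_lit 19), (nat_lit 1), (nat_lit 37), (nat_lit 43), (nat_lit 27), (nat_lit 40), (nat_lit 43), (nat_lit 33), (nat_lit 45), (nat_lit 39), (nat_lit 48), (nat_lit 44), (nat_lit 48)], (nat_lit 3), []⟩,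
  ⟨[(nat_lit 9), (nat_lit 15), (nat_lit 40), (nat_lit 45), (nat_lit 28), (nat_lit 37), (nat_lit 15), (nat_lit 28), (nat_lit 17), (nat_lit 39), (nat_lit 3), (nat_lit 28), (nat_lit 39), (nat_lit 41), (nat_lit 27), (nat_lit 27), (nat_lit 35), (nat_lit 39), (nat_lit 37), (nat_lit 33), (nat_lit 48), (nat_lit 51)], (nat_lit 3), []⟩,
  ⟨[(nat_lit 27), (nat_lit 1), (nat_lit 33), (nat_lit 1), (nat_lit 29), (nat_lit 35), (nat_lit 39), (nat_lit 28), (nat_lit 44), (nat_lit 39), (nat_lit 37), (nat_lit 33), (nat_lit 43), (nat_lit 39), (nat_lit 48), (nat_lit 48), (nat_lit 23)], (nat_lit 2), []⟩,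
  ⟨[(nat_lit 30), (nat_lit 23), (nat_lit 27), (nat_lit 15), (nat_lit 43), (nat_lit 15), (nat_lit 41), (nat_lit 27), (nat_lit 5), (nat_lit 1), (nat_lit 31), (nat_lit 33), (nat_lit 37), (nat_lit 27), (nat_lit 27), (nat_lit 37), (nat_lit 44), (nat_lit 33), (nat_lit 44), (nat_lit 45), (nat_lit 39), (nat_lit 44), (nat_lit 23)], (nat_lit 3), []⟩,
  ⟨[(nat_lit 43), (nat_lit 27), (nat_lit 15), (nat_lit 43), (nat_lit 37), (nat_lit 15), (nat_lit 33), (nat_lit 27), (nat_lit 34), (nat_lit 1), (nat_lit 34), (nat_lit 35), (nat_lit 30), (nat_lit 43), (nat_lit 41), (nat_lit 33), (nat_lit 44), (nat_lit 47), (nat_lit 39), (nat_lit 39), (nat_lit 49), (nat_lit 51)], (nat_lit 3), []⟩,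
  ⟨[(nat_lit 3), (nat_lit 13), (nat_lit 15), (nat_lit 44), (nat_lit 27), (nat_lit 40), (nat_lit 15), (nat_lit 27), (nat_lit 45), (nat_lit 3), (nat_lit 28), (nat_lit 45), (nat_lit 48), (nat_lit 28), (nat_lit 37), (nat_lit 35), (nat_lit 33), (nat_lit 40), (nat_lit 48), (nat_lit 39), (nat_lit 39), (nat_lit 49)], (nat_lit 3), []⟩,
  ⟨[(nat_lit 43), (nat_lit 19), (nat_lit 51), (nat_lit 7), (nat_lit 34), (nat_lit 1), (nat_lit 29), (nat_lit 51), (nat_lit 37), (nat_lit 27), (nat_lit 47), (nat_lit 37), (nat_lit 33), (nat_lit 43), (nat_lit 39), (nat_lit 47), (nat_lit 51)], (nat_lit 3), []⟩,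
  ⟨[(nat_lit 28), (nat_lit 30), (nat_lit 51), (nat_lit 15), (nat_lit 39), (nat_lit 15), (nat_lit 47), (nat_lit 33), (nat_lit 3), (nat_lit 47), (nat_lit 37), (nat_lit 33), (nat_lit 29), (nat_lit 45), (nat_lit 37), (nat_lit 39), (nat_lit 33), (nat_lit 39), (nat_lit 49), (nat_lit 39), (nat_lit 43), (nat_lit 23)], (nat_lit 2), []⟩,
  ⟨[(nat_lit 7), (nat_lit 43), (nat_lit 27), (nat_lit 15), (nat_lit 43), (nat_lit 15), (nat_lit 34), (nat_lit 48), (nat_lit 1), (nat_lit 28), (nat_lit 1), (nat_lit 47), (nat_lit 28), (nat_lit 30), (nat_lit 40), (nat_lit 34), (nat_lit 35), (nat_lit 40), (nat_lit 33), (nat_lit 40), (nat_lit 48), (nat_lit 39), (nat_lit 45)], (nat_lit 3), []⟩,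
  ⟨[(nat_lit 15), (nat_lit 48), (nat_lit 34), (nat_lit 13), (nat_lit 15), (nat_lit 45), (nat_lit 44), (nat_lit 29), (nat_lit 1), (nat_lit 30), (nat_lit 48), (nat_lit 29), (nat_lit 35), (nat_lit 28), (nat_lit 34), (nat_lit 37), (nat_lit 33), (nat_lit 35), (nat_lit 33), (nat_lit 40), (nat_lit 48), (nat_lit 45), (nat_lit 48)], (nat_lit 3), []⟩,
  ⟨[(nat_lit 28), (nat_lit 30), (nat_lit 15), (nat_lit 39), (nat_lit 37), (nat_lit 15), (nat_lit 44), (nat_lit 33), (nat_lit 1), (nat_lit 45), (nat_lit 30), (nat_lit 40), (nat_lit 27), (nat_lit 44), (nat_lit 39), (nat_lit 39), (nat_lit 33), (nat_lit 39), (nat_lit 44), (nat_lit 48), (nat_lit 48), (nat_lit 51)], (nat_lit 3), []⟩,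
  ⟨[(nat_lit 34), (nat_lit 40), (nat_lit 35), (nat_lit 1), (nat_lit 3), (nat_lit 13), (nat_lit 15), (nat_lit 39), (nat_lit 15), (nat_lit 28), (nat_lit 33), (nat_lit 19), (nat_lit 1), (nat_lit 44), (nat_lit 41), (nat_lit 39), (nat_lit 27), (nat_lit 47), (nat_lit 40), (nat_lit 33), (nat_lit 40), (nat_lit 47), (nat_lit 39), (nat_lit 39)], (nat_lit 3), []⟩,
  ⟨[(nat_lit 30), (nat_lit 9), (nat_lit 43), (nat_lit 33), (nat_lit 15), (nat_lit 43), (nat_lit 15), (nat_lit 40), (nat_lit 44), (nat_lit 1), (nat_lit 28), (nat_lit 1), (nat_lit 39), (nat_lit 35), (nat_lit 30), (nat_lit 44), (nat_lit 41), (nat_lit 48), (nat_lit 45), (nat_lit 48), (nat_lit 48), (nat_lit 51)], (nat_lit 3), []⟩,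
  ⟨[(nat_lit 45), (nat_lit 51), (nat_lit 29), (nat_lit 41), (nat_lit 15), (nat_lit 39), (nat_lit 15), (nat_lit 44), (nat_lit 3), (nat_lit 47), (nat_lit 29), (nat_lit 39), (nat_lit 30), (nat_lit 45), (nat_lit 33), (nat_lit 47), (nat_lit 33), (nat_lit 45), (nat_lit 49), (nat_lit 39), (nat_lit 45), (nat_lit 51)], (nat_lit 3), []⟩,
  ⟨[(nat_lit 15), (nat_lit 13), (nat_lit 27), (nat_lit 35), (nat_lit 15), (nat_lit 27), (nat_lit 30), (nat_lit 48), (nat_lit 28), (nat_lit 1), (nat_lit 27), (nat_lit 40), (nat_lit 30), (nat_lit 27), (nat_lit 41), (nat_lit 43), (nat_lit 37), (nat_lit 33), (nat_lit 40), (nat_lit 44), (nat_lit 39), (nat_lit 51), (nat_lit 43), (nat_lit 47)], (nat_lit 2), []⟩,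
  ⟨[(nat_lit 30), (nat_lit 34), (nat_lit 15), (nat_lit 49), (nat_lit 37), (nat_lit 15), (nat_lit 1), (nat_lit 27), (nat_lit 3), (nat_lit 43), (nat_lit 33), (nat_lit 28), (nat_lit 45), (nat_lit 44), (nat_lit 37), (nat_lit 33), (nat_lit 45), (nat_lit 40), (nat_lit 41), (nat_lit 43), (nat_lit 47)], (nat_lit 3), []⟩,
  ⟨[(nat_lit 30), (nat_lit 23), (nat_lit 34), (nat_lit 15), (nat_lit 49), (nat_lit 37), (nat_lit 15), (nat_lit 39), (nat_lit 41), (nat_lit 29), (nat_lit 19), (nat_lit 1), (nat_lit 34), (nat_lit 29), (nat_lit 39), (nat_lit 48), (nat_lit 28), (nat_lit 33), (nat_lit 45), (nat_lit 33), (nat_lit 39), (nat_lit 48), (nat_lit 45)], (nat_lit 3), []⟩,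
  ⟨[(nat_lit 51), (nat_lit 15), (nat_lit 13), (nat_lit 27), (nat_lit 35), (nat_lit 15), (nat_lit 35), (nat_lit 28), (nat_lit 5), (nat_lit 28), (nat_lit 41), (nat_lit 43), (nat_lit 28), (nat_lit 45), (nat_lit 43), (nat_lit 40), (nat_lit 33), (nat_lit 45), (nat_lit 47), (nat_lit 39), (nat_lit 45), (nat_lit 23)], (nat_lit 2), []⟩,
  ⟨[(nat_lit 39), (nat_lit 51), (nat_lit 1), (nat_lit 3), (nat_lit 15), (nat_lit 39), (nat_lit 15), (nat_lit 5), (nat_lit 28), (nat_lit 19), (nat_lit 41), (nat_lit 1), (nat_lit 39), (nat_lit 27), (nat_lit 27), (nat_lit 30), (nat_lit 48), (nat_lit 33), (nat_lit 45), (nat_lit 47), (nat_lit 39), (nat_lit 45)], (nat_lit 3), []⟩,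
  ⟨[(nat_lit 9), (nat_lit 30), (nat_lit 44), (nat_lit 15), (nat_lit 39), (nat_lit 15), (nat_lit 34), (nat_lit 28), (nat_lit 39), (nat_lit 1), (nat_lit 45), (nat_lit 29), (nat_lit 34), (nat_lit 29), (nat_lit 39), (nat_lit 51), (nat_lit 33), (nat_lit 37), (nat_lit 33), (nat_lit 43), (nat_lit 23)], (nat_lit 3), []⟩,
  ⟨[(nat_lit 23), (nat_lit 27), (nat_lit 15), (nat_lit 37), (nat_lit 35), (nat_lit 15), (nat_lit 43), (nat_lit 33), (nat_lit 3), (nat_lit 31), (nat_lit 27), (nat_lit 48), (nat_lit 30), (nat_lit 40), (nat_lit 33), (nat_lit 45), (nat_lit 33), (nat_lit 49), (nat_lit 47), (nat_lit 39), (nat_lit 48), (nat_lit 43)], (nat_lit 2), []⟩,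
  ⟨[(nat_lit 30), (nat_lit 44), (nat_lit 15), (nat_lit 39), (nat_lit 15), (nat_lit 19), (nat_lit 30), (nat_lit 43), (nat_lit 1), (nat_lit 40), (nat_lit 30), (nat_lit 44), (nat_lit 28), (nat_lit 49), (nat_lit 33), (nat_lit 47), (nat_lit 37), (nat_lit 33), (nat_lit 44), (nat_lit 41), (nat_lit 49), (nat_lit 51)], (nat_lit 3), []⟩,
  ⟨[(nat_lit 44), (nat_lit 15), (nat_lit 44), (nat_lit 27), (nat_lit 27), (nat_lit 40), (nat_lit 15), (nat_lit 17), (nat_lit 41), (nat_lit 33), (nat_lit 1), (nat_lit 29), (nat_lit 33), (nat_lit 47), (nat_lit 29), (nat_lit 41), (nat_lit 37), (nat_lit 39), (nat_lit 33), (nat_lit 48), (nat_lit 40), (nat_lit 51), (nat_lit 43)], (nat_lit 3), []⟩,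
  ⟨[(nat_lit 45), (nat_lit 31), (nat_lit 3), (nat_lit 41), (nat_lit 3), (nat_lit 15), (nat_lit 39), (nat_lit 15), (nat_lit 13), (nat_lit 39), (nat_lit 3), (nat_lit 27), (nat_lit 43), (nat_lit 28), (nat_lit 39), (nat_lit 47), (nat_lit 33), (nat_lit 39), (nat_lit 41), (nat_lit 45), (nat_lit 47), (nat_lit 23)], (nat_lit 3), []⟩,
  ⟨[(nat_lit 1), (nat_lit 40), (nat_lit 49), (nat_lit 19), (nat_lit 27), (nat_lit 48), (nat_lit 15), (nat_lit 39), (nat_lit 15), (nat_lit 35), (nat_lit 28), (nat_lit 19), (nat_lit 28), (nat_lit 41), (nat_lit 28), (nat_lit 45), (nat_lit 37), (nat_lit 33), (nat_lit 40), (nat_lit 40), (nat_lit 44), (nat_lit 49)], (nat_lit 3), []⟩,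
  ⟨[(nat_lit 9), (nat_lit 37), (nat_lit 30), (nat_lit 44), (nat_lit 15), (nat_lit 39), (nat_lit 15), (nat_lit 9), (nat_lit 39), (nat_lit 19), (nat_lit 39), (nat_lit 51), (nat_lit 37), (nat_lit 27), (nat_lit 48), (nat_lit 39), (nat_lit 33), (nat_lit 40), (nat_lit 40), (nat_lit 48), (nat_lit 43)], (nat_lit 3), []⟩,
  ⟨[(nat_lit 48), (nat_lit 45), (nat_lit 28), (nat_lit 37), (nat_lit 15), (nat_lit 41), (nat_lit 15), (nat_lit 40), (nat_lit 37), (nat_lit 34), (nat_lit 1), (nat_lit 48), (nat_lit 39), (nat_lit 41), (nat_lit 28), (nat_lit 43), (nat_lit 37), (nat_lit 33), (nat_lit 43), (nat_lit 48), (nat_lit 48)], (nat_lit 2), []⟩,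
  ⟨[(nat_lit 30), (nat_lit 34), (nat_lit 15), (nat_lit 49), (nat_lit 37), (nat_lit 15), (nat_lit 1), (nat_lit 33), (nat_lit 35), (nat_lit 1), (nat_lit 31), (nat_lit 40), (nat_lit 28), (nat_lit 29), (nat_lit 47), (nat_lit 39), (nat_lit 33), (nat_lit 45), (nat_lit 44), (nat_lit 39), (nat_lit 47), (nat_lit 51)], (nat_lit 3), []⟩,
  ⟨[(nat_lit 11), (nat_lit 48), (nat_lit 15), (nat_lit 48), (nat_lit 34), (nat_lit 28), (nat_lit 37), (nat_lit 15), (nat_lit 9), (nat_lit 28), (nat_lit 44), (nat_lit 3), (nat_lit 28), (nat_lit 30), (nat_lit 27), (nat_lit 47), (nat_lit 40), (nat_lit 33), (nat_lit 51), (nat_lit 39), (nat_lit 48), (nat_lit 45), (nat_lit 49), (nat_lit 48)], (nat_lit 3), []⟩,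
  ⟨[(nat_lit 47), (nat_lit 11), (nat_lit 15), (nat_lit 47), (nat_lit 3), (nat_lit 43), (nat_lit 39), (nat_lit 15), (nat_lit 5), (nat_lit 30), (nat_lit 34), (nat_lit 40), (nat_lit 29), (nat_lit 37), (nat_lit 47), (nat_lit 37), (nat_lit 33), (nat_lit 43), (nat_lit 41), (nat_lit 39), (nat_lit 43), (nat_lit 51), (nat_lit 23)], (nat_lit 3), []⟩,
  ⟨[(nat_lit 35), (nat_lit 30), (nat_lit 34), (nat_lit 15), (nat_lit 49), (nat_lit 37), (nat_lit 15), (nat_lit 30), (nat_lit 44), (nat_lit 41), (nat_lit 3), (nat_lit 39), (nat_lit 51), (nat_lit 28), (nat_lit 30), (nat_lit 45), (nat_lit 35), (nat_lit 33), (nat_lit 39), (nat_lit 33), (nat_lit 39), (nat_lit 43)], (nat_lit 3), []⟩,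
  ⟨[(nat_lit 11), (nat_lit 13), (nat_lit 48), (nat_lit 5), (nat_lit 28), (nat_lit 15), (nat_lit 43), (nat_lit 15), (nat_lit 29), (nat_lit 43), (nat_lit 1), (nat_lit 41), (nat_lit 27), (nat_lit 39), (nat_lit 30), (nat_lit 27), (nat_lit 44), (nat_lit 39), (nat_lit 45), (nat_lit 47), (nat_lit 51)], (nat_lit 3), []⟩,
  ⟨[(nat_lit 17), (nat_lit 40), (nat_lit 29), (nat_lit 15), (nat_lit 40), (nat_lit 15), (nat_lit 27), (nat_lit 45), (nat_lit 3), (nat_lit 41), (nat_lit 29), (nat_lit 37), (nat_lit 35), (nat_lit 33), (nat_lit 49), (nat_lit 39), (nat_lit 48), (nat_lit 44), (nat_lit 48)], (nat_lit 3), []⟩,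
  ⟨[(nat_lit 30), (nat_lit 44), (nat_lit 15), (nat_lit 39), (nat_lit 15), (nat_lit 45), (nat_lit 33), (nat_lit 30), (nat_lit 1), (nat_lit 44), (nat_lit 27), (nat_lit 44), (nat_lit 28), (nat_lit 40), (nat_lit 48), (nat_lit 39), (nat_lit 33), (nat_lit 47), (nat_lit 43), (nat_lit 39), (nat_lit 45), (nat_lit 48)], (nat_lit 3), []⟩,
  ⟨[(nat_lit 34), (nat_lit 15), (nat_lit 45), (nat_lit 28), (nat_lit 33), (nat_lit 35), (nat_lit 15), (nat_lit 44), (nat_lit 34), (nat_lit 19), (nat_lit 27), (nat_lit 29), (nat_lit 40), (nat_lit 34), (nat_lit 44), (nat_lit 33), (nat_lit 48), (nat_lit 39), (nat_lit 39), (nat_lit 44), (nat_lit 49), (nat_lit 48), (nat_lit 23)], (nat_lit 3), []⟩,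
  ⟨[(nat_lit 45), (nat_lit 15), (nat_lit 41), (nat_lit 9), (nat_lit 27), (nat_lit 35), (nat_lit 15), (nat_lit 34), (nat_lit 30), (nat_lit 5), (nat_lit 1), (nat_lit 30), (nat_lit 27), (nat_lit 27), (nat_lit 27), (nat_lit 37), (nat_lit 34), (nat_lit 49), (nat_lit 37), (nat_lit 33), (nat_lit 49), (nat_lit 51)], (nat_lit 3), []⟩,
  ⟨[(nat_lit 15), (nat_lit 13), (nat_lit 27), (nat_lit 35), (nat_lit 15), (nat_lit 48), (nat_lit 27), (nat_lit 35), (nat_lit 1), (nat_lit 29), (nat_lit 48), (nat_lit 28), (nat_lit 34), (nat_lit 51), (nat_lit 39), (nat_lit 33), (nat_lit 47), (nat_lit 40), (nat_lit 40), (nat_lit 43), (nat_lit 49), (nat_lit 51)], (nat_lit 2), []⟩,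
  ⟨[(nat_lit 35), (nat_lit 30), (nat_lit 34), (nat_lit 15), (nat_lit 49), (nat_lit 37), (nat_lit 15), (nat_lit 34), (nat_lit 43), (nat_lit 27), (nat_lit 1), (nat_lit 41), (nat_lit 43), (nat_lit 29), (nat_lit 44), (nat_lit 37), (nat_lit 39), (nat_lit 33), (nat_lit 43), (nat_lit 39), (nat_lit 45), (nat_lit 48)], (nat_lit 3), []⟩,
  ⟨[(nat_lit 31), (nat_lit 30), (nat_lit 34), (nat_lit 15), (nat_lit 49), (nat_lit 37), (nat_lit 15), (nat_lit 51), (nat_lit 19), (nat_lit 33), (nat_lit 3), (nat_lit 43), (nat_lit 33), (nat_lit 35), (nat_lit 28), (nat_lit 43), (nat_lit 37), (nat_lit 35), (nat_lit 33), (nat_lit 39), (nat_lit 43), (nat_lit 39), (nat_lit 48), (nat_lit 43)], (nat_lit 3), []⟩,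
  ⟨[(nat_lit 41), (nat_lit 15), (nat_lit 35), (nat_lit 41), (nat_lit 37), (nat_lit 15), (nat_lit 48), (nat_lit 1), (nat_lit 39), (nat_lit 51), (nat_lit 37), (nat_lit 27), (nat_lit 51), (nat_lit 37), (nat_lit 33), (nat_lit 48), (nat_lit 43), (nat_lit 41), (nat_lit 45), (nat_lit 48), (nat_lit 48), (nat_lit 23)], (nat_lit 3), []⟩,
  ⟨[(nat_lit 30), (nat_lit 34), (nat_lit 15), (nat_lit 49), (nat_lit 37), (nat_lit 15), (nat_lit 30), (nat_lit 47), (nat_lit 39), (nat_lit 1), (nat_lit 37), (nat_lit 43), (nat_lit 29), (nat_lit 33), (nat_lit 39), (nat_lit 33), (nat_lit 41), (nat_lit 39), (nat_lit 47), (nat_lit 45), (nat_lit 48), (nat_lit 48)], (nat_lit 3), []⟩,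
  ⟨[(nat_lit 17), (nat_lit 45), (nat_lit 29), (nat_lit 15), (nat_lit 45), (nat_lit 15), (nat_lit 48), (nat_lit 28), (nat_lit 3), (nat_lit 28), (nat_lit 34), (nat_lit 43), (nat_lit 33), (nat_lit 47), (nat_lit 39), (nat_lit 47), (nat_lit 45), (nat_lit 47)], (nat_lit 2), []⟩,
  ⟨[(nat_lit 30), (nat_lit 34), (nat_lit 15), (nat_lit 49), (nat_lit 37), (nat_lit 15), (nat_lit 17), (nat_lit 47), (nat_lit 29), (nat_lit 3), (nat_lit 44), (nat_lit 29), (nat_lit 43), (nat_lit 27), (nat_lit 37), (nat_lit 47), (nat_lit 33), (nat_lit 41), (nat_lit 47), (nat_lit 39), (nat_lit 45), (nat_lit 48), (nat_lit 48)], (nat_lit 3), []⟩,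
  ⟨[(nat_lit 13), (nat_lit 15), (nat_lit 13), (nat_lit 27), (nat_lit 35), (nat_lit 15), (nat_lit 33), (nat_lit 43), (nat_lit 28), (nat_lit 19), (nat_lit 29), (nat_lit 34), (nat_lit 28), (nat_lit 30), (nat_lit 40), (nat_lit 33), (nat_lit 41), (nat_lit 40), (nat_lit 40), (nat_lit 48), (nat_lit 44), (nat_lit 51), (nat_lit 23)], (nat_lit 2), []⟩,
  ⟨[(nat_lit 5), (nat_lit 11), (nat_lit 30), (nat_lit 44), (nat_lit 15), (nat_lit 39), (nat_lit 15), (nat_lit 19), (nat_lit 33), (nat_lit 30), (nat_lit 1), (nat_lit 27), (nat_lit 43), (nat_lit 33), (nat_lit 30), (nat_lit 33), (nat_lit 39), (nat_lit 43), (nat_lit 33), (nat_lit 39), (nat_lit 39), (nat_lit 48), (nat_lit 51)], (nat_lit 3), []⟩,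
  ⟨[(nat_lit 11), (nat_lit 30), (nat_lit 15), (nat_lit 39), (nat_lit 9), (nat_lit 39), (nat_lit 15), (nat_lit 34), (nat_lit 43), (nat_lit 27), (nat_lit 1), (nat_lit 34), (nat_lit 51), (nat_lit 40), (nat_lit 29), (nat_lit 49), (nat_lit 33), (nat_lit 39), (nat_lit 33), (nat_lit 49), (nat_lit 39), (nat_lit 49)], (nat_lit 3), []⟩,
  ⟨[(nat_lit 30), (nat_lit 34), (nat_lit 15), (nat_lit 49), (nat_lit 37), (nat_lit 15), (nat_lit 29), (nat_lit 43), (nat_lit 29), (nat_lit 1), (nat_lit 29), (nat_lit 34), (nat_lit 29), (nat_lit 40), (nat_lit 33), (nat_lit 40), (nat_lit 33), (nat_lit 41), (nat_lit 39), (nat_lit 48), (nat_lit 45)], (nat_lit 3), []⟩]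

theorem a_cen_0 : allFrom (cenAt (eqLq eq0) 2 a_gs a_pc) 0 18 = true := by decide +kernel
theorem a_tor : lall2 (torOK (eqLq eq0) a_gs) a_zs a_zu = true := by decide +kernel
theorem a_u_inc : incOK a_u_pi 31671 932 = true := by decide +kernel
theorem a_u_wf : wfAll a_u_N 932 = true := by decide +kernel
theorem a_u_tab_0 : allFrom (tabOK a_u_N 932 10 10 10 a_u_TT) 0 13 = true := by decide +kernel
theorem a_u_tabs : Tabs a_u_N 932 10 10 a_u_TT 12 :=
  tabs_of (k := 10) (wf_of_wfAll a_u_wf) (by decide) (by decide) (by decide) (lt_add_all lt_zero_all 13 a_u_tab_0)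
theorem a_u_s_0 : allFrom (subT (evT TT (nat_lit 56) (nat_lit 10) (nat_lit 1023) (nat_lit 15) (nat_lit 32767)) (recT a_u_TT (nat_lit 10) (nat_lit 1023) (nat_lit 10) (nat_lit 1023)) a_u_pi a_hs (nat_lit 932)) 0 3 = true := by decide +kernel
theorem a_u_s_3 : allFrom (subT (evT TT (nat_lit 56) (nat_lit 10) (nat_lit 1023) (nat_lit 15) (nat_lit 32767)) (recT a_u_TT (nat_lit 10) (nat_lit 1023) (nat_lit 10) (nat_lit 1023)) a_u_pi a_hs (nat_lit 932)) 3 3 = true := by decide +kernel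
theorem a_ge : geOK a_u_N 932 (gensW 6) a_c 262144 = true := by decide +kernel
theorem a_mem : memOK (eqLq eq0) a_gs a_hs [[(nat_lit 1)],  [(nat_lit 3)],  [(nat_lit 5)],  [(nat_lit 7)],  [(nat_lit 9)],  [(nat_lit 11)]] = true := by decide +kernel
theorem a_e0_0 : allFrom (entAt (eqLq eq0) 2 a_gs (lapp a_gs (lapp a_zs [])) 0 a_X0 a_X1 a_E0) 0 1 = true := by decide +kernel
theorem a_e1_0 : allFrom (entAt (eqLq eq0) 2 a_gs (lapp a_gs (lapp a_zs [])) 1 a_X1 a_X2 a_E1) 0 2 = true := by decide +kernel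
theorem a_e2_0 : allFrom (entAt (eqLq eq0) 2 a_gs (lapp a_gs (lapp a_zs [])) 2 a_X2 a_X3 a_E2) 0 4 = true := by decide +kernel
theorem a_e3_0 : allFrom (entAt (eqLq eq0) 2 a_gs (lapp a_gs (lapp a_zs [])) 3 a_X3 a_X4 a_E3) 0 8 = true := by decide +kernel
theorem a_e4_0 : allFrom (entAt (eqLq eq0) 2 a_gs (lapp a_gs (lapp a_zs [])) 4 a_X4 a_X5 a_E4) 0 8 = true := by decide +kernel
theorem a_e5_0 : allFrom (entAt (eqLq eq0) 2 a_gs (lapp a_gs (lapp a_zs [])) 5 a_X5 a_X6 a_E5) 0 11 = true := by decide +kernel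
theorem a_e6_0 : allFrom (entAt (eqLq eq0) 2 a_gs (lapp a_gs (lapp a_zs [])) 6 a_X6 a_X7 a_E6) 0 10 = true := by decide +kernel
theorem a_e7_0 : allFrom (entAt (eqLq eq0) 2 a_gs (lapp a_gs (lapp a_zs [])) 7 a_X7 a_X8 a_E7) 0 8 = true := by decide +kernel
theorem a_e8_0 : allFrom (entAt (eqLq eq0) 2 a_gs (lapp a_gs (lapp a_zs [])) 8 a_X8 a_X9 a_E8) 0 16 = true := by decide +kernel
theorem a_e9_0 : allFrom (entAt (eqLq eq0) 2 a_gs (lapp a_gs (lapp a_zs [])) 9 a_X9 a_X10 a_E9) 0 25 = true := by decide +kernel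
theorem a_e10_0 : allFrom (entAt (eqLq eq0) 2 a_gs (lapp a_gs (lapp a_zs [])) 10 a_X10 a_X11 a_E10) 0 33 = true := by decide +kernel
theorem a_e11_0 : allFrom (entAt (eqLq eq0) 2 a_gs (lapp a_gs (lapp a_zs [])) 11 a_X11 a_X12 a_E11) 0 34 = true := by decide +kernel
theorem a_e12_0 : allFrom (entAt (eqLq eq0) 2 a_gs (lapp a_gs (lapp a_zs [])) 12 a_X12 a_X13 a_E12) 0 47 = true := by decide +kernel
theorem a_e13_0 : allFrom (entAt (eqLq eq0) 2 a_gs (lapp a_gs (lapp a_zs [])) 13 a_X13 a_X14 a_E13) 0 41 = true := by decide +kernel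
theorem a_e14_0 : allFrom (entAt (eqLq eq0) 2 a_gs (lapp a_gs (lapp a_zs [])) 14 a_X14 a_X15 a_E14) 0 47 = true := by decide +kernel
theorem a_e15_0 : allFrom (entAt (eqLq eq0) 2 a_gs (lapp a_gs (lapp a_zs [])) 15 a_X15 a_X16 a_E15) 0 49 = true := by decide +kernel
theorem a_e16_0 : allFrom (entAt (eqLq eq0) 2 a_gs (lapp a_gs (lapp a_zs [])) 16 a_X16 a_X17 a_E16) 0 65 = true := by decide +kernel
theorem a_e17_0 : allFrom (entAt (eqLq eq0) 2 a_gs (lapp a_gs (lapp a_zs [])) 17 a_X17 a_X18 a_E17) 0 83 = true := by decide +kernel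
theorem a_f_0 : allFrom (finAt (eqLq eq0) a_gs a_X18 [[], j1, j2, j3] a_F) 0 97 = true := by decide +kernel

variable {G : Type*} [Group G] {D : Set G} {E : Dom (Cj G) 31671} {f : ℕ → G} {NN : List Net}

theorem a_u_reps (M : M23 D E f) : Reps (Dom.lst E a_u_pi a_u_inc) a_u_N (evs f a_hs) :=
  Reps.subT M.reps tabs (by decide) (wf_of_wfAll a_u_wf) a_u_tabs (l := 6) (by decide) rfl rfl a_u_inc
    (by decide) (by decide) (by decide) (by decide) (lt_add_all (lt_add_all lt_zero_all 3 a_u_s_0) 3 a_u_s_3)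
theorem a_cens (M : M23 D E f) : CenS f 2 a_gs :=
  have := M.finite
  ⟨M.sm0.eqLq.cenR (l := 18) rfl (lt_add_all lt_zero_all 18 a_cen_0), by norm_num,
    (Reps.card_geT (a_u_reps M) (by decide) rfl a_ge).trans (card_le_of_le (M.sm0.eqLq.le a_mem))⟩
theorem a_cl0 (M : M23 D E f) : Cl f 2 a_gs ⊤ 0 a_X0 := Cl.zero _
theorem a_cl1 (M : M23 D E f) : Cl f 2 a_gs ⊤ 1 a_X1 :=
  have := M.finite
  (a_cl0 M).step' M.sm0.eqLq (a_cens M) a_tor (l := 1) (by decide +kernel) (lt_add_all lt_zero_all 1 a_e0_0)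
theorem a_cl2 (M : M23 D E f) : Cl f 2 a_gs ⊤ 2 a_X2 :=
  have := M.finite
  (a_cl1 M).step' M.sm0.eqLq (a_cens M) a_tor (l := 2) (by decide +kernel) (lt_add_all lt_zero_all 2 a_e1_0)
theorem a_cl3 (M : M23 D E f) : Cl f 2 a_gs ⊤ 3 a_X3 :=
  have := M.finite
  (a_cl2 M).step' M.sm0.eqLq (a_cens M) a_tor (l := 4) (by decide +kernel) (lt_add_all lt_zero_all 4 a_e2_0)
theorem a_cl4 (M : M23 D E f) : Cl f 2 a_gs ⊤ 4 a_X4 :=
  have := M.finite
  (a_cl3 M).step' M.sm0.eqLq (a_cens M) a_tor (l := 8) (by decide +kernel) (lt_add_all lt_zero_all 8 a_e3_0)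
theorem a_cl5 (M : M23 D E f) : Cl f 2 a_gs ⊤ 5 a_X5 :=
  have := M.finite
  (a_cl4 M).step' M.sm0.eqLq (a_cens M) a_tor (l := 8) (by decide +kernel) (lt_add_all lt_zero_all 8 a_e4_0)
theorem a_cl6 (M : M23 D E f) : Cl f 2 a_gs ⊤ 6 a_X6 :=
  have := M.finite
  (a_cl5 M).step' M.sm0.eqLq (a_cens M) a_tor (l := 11) (by decide +kernel) (lt_add_all lt_zero_all 11 a_e5_0)
theorem a_cl7 (M : M23 D E f) : Cl f 2 a_gs ⊤ 7 a_X7 :=
  have := M.finite
  (a_cl6 M).step' M.sm0.eqLq (a_cens M) a_tor (l := 10) (by decide +kernel) (lt_add_all lt_zero_all 10 a_e6_0)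
theorem a_cl8 (M : M23 D E f) : Cl f 2 a_gs ⊤ 8 a_X8 :=
  have := M.finite
  (a_cl7 M).step' M.sm0.eqLq (a_cens M) a_tor (l := 8) (by decide +kernel) (lt_add_all lt_zero_all 8 a_e7_0)
theorem a_cl9 (M : M23 D E f) : Cl f 2 a_gs ⊤ 9 a_X9 :=
  have := M.finite
  (a_cl8 M).step' M.sm0.eqLq (a_cens M) a_tor (l := 16) (by decide +kernel) (lt_add_all lt_zero_all 16 a_e8_0)
theorem a_cl10 (M : M23 D E f) : Cl f 2 a_gs ⊤ 10 a_X10 :=
  have := M.finite
  (a_cl9 M).step' M.sm0.eqLq (a_cens M) a_tor (l := 25) (by decide +kernel) (lt_add_all lt_zero_all 25 a_e9_0)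
theorem a_cl11 (M : M23 D E f) : Cl f 2 a_gs ⊤ 11 a_X11 :=
  have := M.finite
  (a_cl10 M).step' M.sm0.eqLq (a_cens M) a_tor (l := 33) (by decide +kernel) (lt_add_all lt_zero_all 33 a_e10_0)
theorem a_cl12 (M : M23 D E f) : Cl f 2 a_gs ⊤ 12 a_X12 :=
  have := M.finite
  (a_cl11 M).step' M.sm0.eqLq (a_cens M) a_tor (l := 34) (by decide +kernel) (lt_add_all lt_zero_all 34 a_e11_0)
theorem a_cl13 (M : M23 D E f) : Cl f 2 a_gs ⊤ 13 a_X13 :=
  have := M.finite
  (a_cl12 M).step' M.sm0.eqLq (a_cens M) a_tor (l := 47) (by decide +kernel) (lt_add_all lt_zero_all 47 a_e12_0)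
theorem a_cl14 (M : M23 D E f) : Cl f 2 a_gs ⊤ 14 a_X14 :=
  have := M.finite
  (a_cl13 M).step' M.sm0.eqLq (a_cens M) a_tor (l := 41) (by decide +kernel) (lt_add_all lt_zero_all 41 a_e13_0)
theorem a_cl15 (M : M23 D E f) : Cl f 2 a_gs ⊤ 15 a_X15 :=
  have := M.finite
  (a_cl14 M).step' M.sm0.eqLq (a_cens M) a_tor (l := 47) (by decide +kernel) (lt_add_all lt_zero_all 47 a_e14_0)
theorem a_cl16 (M : M23 D E f) : Cl f 2 a_gs ⊤ 16 a_X16 :=
  have := M.finite
  (a_cl15 M).step' M.sm0.eqLq (a_cens M) a_tor (l := 49) (by decide +kernel) (lt_add_all lt_zero_all 49 a_e15_0)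
theorem a_cl17 (M : M23 D E f) : Cl f 2 a_gs ⊤ 17 a_X17 :=
  have := M.finite
  (a_cl16 M).step' M.sm0.eqLq (a_cens M) a_tor (l := 65) (by decide +kernel) (lt_add_all lt_zero_all 65 a_e16_0)
theorem a_cl18 (M : M23 D E f) : Cl f 2 a_gs ⊤ 18 a_X18 :=
  have := M.finite
  (a_cl17 M).step' M.sm0.eqLq (a_cens M) a_tor (l := 83) (by decide +kernel) (lt_add_all lt_zero_all 83 a_e17_0)
theorem a_all (M : M23 D E f) : ∀ y : G, y ^ 2 = 1 → ∃ r ∈ [[], j1, j2, j3], IsConj y (ev f r) :=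
  have := M.finite
  (a_cl18 M).all M.sm0.eqLq (a_cens M) (l := 97) (m := 15600091832325) (by decide +kernel) (lt_add_all lt_zero_all 97 a_f_0)
    (by rw [M.card]; norm_num) (by decide)

theorem invs (M : M23 D E f) (y : G) (hy : orderOf y = 2) : ∃ m, 1 ≤ m ∧ m ≤ 3 ∧ IsConj y (xs f m) := by
  obtain ⟨r, hr, h⟩ := a_all M y (hy ▸ pow_orderOf_eq_one y)
  simp only [List.mem_cons, List.not_mem_nil, or_false] at hr
  rcases hr with rfl | rfl | rfl | rfl
  · rw [ev_nil, isConj_one_left] at h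
    rw [h, orderOf_one] at hy
    cases hy
  · exact ⟨1, by decide, by decide, h⟩
  · exact ⟨2, by decide, by decide, h⟩
  · exact ⟨3, by decide, by decide, h⟩

end CF.Fisch.F23.L2
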