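import Cfsg.Agent.Fisch.F23.Tb
import Cfsg.Agent.Fisch.F23.N3
import Cfsg.Agent.Fisch.St.Pair

set_option autoImplicit false
set_option maxRecDepth 1000000
set_option maxHeartbeats 0
set_option Elab.async false

namespace CF.Fisch.F23.P0

open CF.Comp CF.Fisch CF.Fisch.F23 Subgroup
open scoped Pointwise

noncomputable def pa : List Nat := [(nat_lit 25), (nat_lit 53)]
noncomputable def pd : List Nat := [(nat_lit 30), (nat_lit 25), (nat_lit 53)]
noncomputable def k_p : List Nat := [(nat_lit 15)]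
noncomputable def k_ps : List (List Nat) := [[(nat_lit 25)],
  [(nat_lit 54), (nat_lit 15)],
  [(nat_lit 22), (nat_lit 54)],
  [(nat_lit 22), (nat_lit 53)],
  [(nat_lit 27), (nat_lit 54)],
  [(nat_lit 39), (nat_lit 53)]]
noncomputable def k_hs : List (List Nat) := [[(nat_lit 15), (nat_lit 23), (nat_lit 15)],
  [(nat_lit 25), (nat_lit 23), (nat_lit 26)],
  [(nat_lit 54), (nat_lit 15), (nat_lit 23), (nat_lit 15), (nat_lit 53)],
  [(nat_lit 22), (nat_lit 54), (nat_lit 23), (nat_lit 53), (nat_lit 21)],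
  [(nat_lit 22), (nat_lit 1), (nat_lit 21)],
  [(nat_lit 27), (nat_lit 54), (nat_lit 23), (nat_lit 53), (nat_lit 28)],
  [(nat_lit 39), (nat_lit 1), (nat_lit 40)]]
noncomputable def k_u_N_0 : Net := (Net.cons (nat_lit 1) (nat_lit 0x40140144055401454404040405415000044540000440104151545100440040140000404000500004001000) (Net.cons (nat_lit 2) (nat_lit 0x1121320113002100203010120201020211010101321122112322111210020000000010101002000000020100) (Net.cons (nat_lit 4) (nat_lit 0xe070a010a060c0200030604040802090a0d04000502070f06010a03080800000004000602000102080400) (Net.cons (nat_lit 8) (nat_lit 0x100300088000f00500009000000b6009000540056005000f3007000820098000000040000005100200000) (Net.cons (nat_lit 16) (nat_lit 0x6490000c0020000000400001ac0000010000000c0b10000499c00008884000080000000601000000000) (Net.cons (nat_lit 32) (nat_lit 0x3e61c32c000000001700d648000000001485020900000000000080400000000000000001) (Net.cons (nat_lit 64) (nat_lit 0x80400000000000000000000e0e28541000000000000000000000000f7634b2c00000000)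 (Net.cons (nat_lit 128) (nat_lit 0x40000008020000000000000) (Net.cons (nat_lit 256) (nat_lit 0xc040000f7634b2d00000000) (Net.cons (nat_lit 128) (nat_lit 0xf8ea73019613855c8034a442fcfbf7fe) (Net.cons (nat_lit 64) (nat_lit 0x1a4ec06f0000000000000000e1e28541000000000000000000000000f7634b2c00000000) (Net.cons (nat_lit 32) (nat_lit 0x3e61c32c000000001780d648000000007495020900000000000080400000000040102001) (Net.cons (nat_lit 16) (nat_lit 0xedb0000e6a20000020600005ac0000010000000e0b10000699e00008a84000080000000401000002002) (Net.cons (nat_lit 8) (nat_lit 0x1007100e8002f00500009000200b6009000540056005000f3007800820098000000040000005100280044) (Net.cons (nat_lit 4) (nat_lit 0x60e050a030a060e0200030604040802090a0d04000502070f02050a03080800000004000602000102080004) (Net.cons (nat_lit 2) (nat_lit 0x1121320133002102203010120201020211010101321122112322111210020000000010101002000000020100) (Net.cons (nat_lit 1) (nat_lit 0x1140140144055401454404040405415000044540000440504151545100440040140000404000500004011000)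 Net.nil)))))))))))))))))
noncomputable def k_u_N_1 : Net := (Net.cons (nat_lit 1) (nat_lit 0x440155001501044101014000044404004011015540005111414015104015000000000001501050000001000) (Net.cons (nat_lit 2) (nat_lit 0x221210002233011202220101303303201022020013002001121320011100100202010000002200100010100) (Net.cons (nat_lit 4) (nat_lit 0x70c00040f030c0c0d030102010c0c000f06000100010806040d01040000020001000c020509000800010000) (Net.cons (nat_lit 8) (nat_lit 0x4009a00360041004400210068005d009b009a0040008b00c1006400080001000000210000000000000000) (Net.cons (nat_lit 16) (nat_lit 0x21a40000c7290000d0510000783000007908000027400000648500000201000010000000029400000000) (Net.cons (nat_lit 32) (nat_lit 0x83808ec0000000024486b3d0000000040eb20430000000000c847000000000000000000) (Net.cons (nat_lit 64) (nat_lit 0x4084c00000000000000000041054c601800204000000000000000007d06a06000000000) (Net.cons (nat_lit 128) (nat_lit 0x4008300000004000000000) (Net.cons (nat_lit 256)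 (nat_lit 0x4cc4e307d06a06000000001) (Net.cons (nat_lit 128) (nat_lit 0x477d37a02270f87d02884b9939775fbe) (Net.cons (nat_lit 64) (nat_lit 0x5b06c8c000000000000000061054d601800204000000000000000007d06a16000000000) (Net.cons (nat_lit 32) (nat_lit 0x2f198fc0000000026486b3d0000000040ef225b0000000000c857000000000000040218) (Net.cons (nat_lit 16) (nat_lit 0x252c0000e7a10000d051000038b200007988000027400000658d0000aa01000010000000029c00000100) (Net.cons (nat_lit 8) (nat_lit 0x7009a00370041002400210068001d009b009a0040008b00c1006400800041000000210000000000000000) (Net.cons (nat_lit 4) (nat_lit 0x7040804070b0c04050b0102010c0c000f06000100010806040d010408080a0001000c020509000800010000) (Net.cons (nat_lit 2) (nat_lit 0x221210102233011202220101303303201022020013002001121320011100100202010000002200100010100) (Net.cons (nat_lit 1) (nat_lit 0x440155001501044101014000445505005111015544005111414015104014040010000041501450000101000) Net.nil)))))))))))))))))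
noncomputable def k_u_N_2 : Net := (Net.cons (nat_lit 1) (nat_lit 0x1400055405540014100040550150000454000001000001000100000040104050141404400504010040000000) (Net.cons (nat_lit 2) (nat_lit 0x10001231232232012220011131010003203212110101200000001001000232031022301000201002300000) (Net.cons (nat_lit 4) (nat_lit 0x30109000c0200070a0004000104060502080a06040b0200060000000d010f070d0902020406010008000400) (Net.cons (nat_lit 8) (nat_lit 0x7200420002004500140094002b00da00b100040010000100000000004a0046009500e100c8000000000000) (Net.cons (nat_lit 16) (nat_lit 0x28900000280800001083000007ad0000a2020000008200000000000000440000219600008d4400000000) (Net.cons (nat_lit 32) (nat_lit 0x14080580000000008b2b5490000000000600021000000000820021080000000000000000) (Net.cons (nat_lit 64) (nat_lit 0x10d020000000000000000058808820000000000000000000000000000000000000000) (Net.cons (nat_lit 128) (nat_lit 0x5203f51219880a82040008c0) (Net.cons (nat_lit 256) (nat_lit 0x5203f51219880a82040008c0)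 (Net.cons (nat_lit 128) (nat_lit 0x40000005203f51219880a82040008c0) (Net.cons (nat_lit 64) (nat_lit 0x810f06000000000000000027ab2c76a998008000000000000000008202712408c0403c) (Net.cons (nat_lit 32) (nat_lit 0xb60e450800000000ab2b5411000000002600029300000000f30da1ca0000000001208c40) (Net.cons (nat_lit 16) (nat_lit 0x28900000283800001c93000007ad0000a2020000429200000000000002440000219600008d4400000000) (Net.cons (nat_lit 8) (nat_lit 0x72004200020045001500b4006b00da00b1004c0010000100000000004a0047009500e300c8000000020000) (Net.cons (nat_lit 4) (nat_lit 0x30109000c0200070a0004000104060502080a06040b0200060000000d010f070d0902020406010108000400) (Net.cons (nat_lit 2) (nat_lit 0x10001231232232012220011131010003203212110101200000001001000232031022301000201002300000) (Net.cons (nat_lit 1) (nat_lit 0x1400055405540014100040550150000454000001000001000100000050104050141404410504010040000100) Net.nil)))))))))))))))))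
noncomputable def k_u_N_3 : Net := (Net.cons (nat_lit 1) (nat_lit 0x1100551014404040441411445145440110114100440440040000100051041505404151014044405040000000) (Net.cons (nat_lit 2) (nat_lit 0x1103310002030202110213232312201113102000000021020020000022313001320230030003022003000000) (Net.cons (nat_lit 4) (nat_lit 0x50c010a020001080e0b0b0809040c000406000402090000000200010d0d020c0c02030001000201000000) (Net.cons (nat_lit 8) (nat_lit 0x30004006200940019005d005e0024000800da00c00020004400000096004100c000c50015000200110000) (Net.cons (nat_lit 16) (nat_lit 0x5324000086050000ce030000e0740000600000004000000000000000928400000ca00000600700000000) (Net.cons (nat_lit 32) (nat_lit 0x1e50410c0000000010440102000000001068400000000000492608a10000000000000000) (Net.cons (nat_lit 64) (nat_lit 0x42a00d30000000000000000025143080000000000000000000000000000000000000000) (Net.cons (nat_lit 128) (nat_lit 0x68601d3365143c8c8280800) (Net.cons (nat_lit 256) (nat_lit 0x68601d3365143c8c8280800)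 (Net.cons (nat_lit 128) (nat_lit 0x68601d3365143c8c8280800) (Net.cons (nat_lit 64) (nat_lit 0x146a40d700000000000000004a75470a10407400000000000000000066a089c52d870160) (Net.cons (nat_lit 32) (nat_lit 0x16f0d90c00000000b04c09060000000010e84020000000004d2e39e10000000094004342) (Net.cons (nat_lit 16) (nat_lit 0x772600008e0d0000c6030000e0740000600000004000000008440000928500000ca20000600700000010) (Net.cons (nat_lit 8) (nat_lit 0x30085006200940019005d005e0024000800da00c00029004400030096004900c400c50015000200110000) (Net.cons (nat_lit 4) (nat_lit 0x50c010a020003080e0b0b0a09040c000406000402090004000204010f0d020c0c02030001000301000000) (Net.cons (nat_lit 2) (nat_lit 0x1103310002030202110213232312201113102000000021020020000022313001320230030013022003000000) (Net.cons (nat_lit 1) (nat_lit 0x1100551014404040441411445145440110114100440450050000100051041505404151014044405040000000) Net.nil)))))))))))))))))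
noncomputable def k_u_N_4 : Net := (Net.cons (nat_lit 1) (nat_lit 0x404105011051504410551010401401400111104000100500010000015011450140100450041015511000000) (Net.cons (nat_lit 2) (nat_lit 0x1330313201030001001210231202012012221000000300200000000003321310330111021032000021000000) (Net.cons (nat_lit 4) (nat_lit 0x70002000103030e040d0d08080805010205000c04020600080000080104030c0305020d0508020000000000) (Net.cons (nat_lit 8) (nat_lit 0x21009300050064001f0043008400400020000a00c400800080000000fa007e0000000e000000a200120000) (Net.cons (nat_lit 16) (nat_lit 0x1628000050300000468a0000182700000185000024080000008000007200000008000000020000000000) (Net.cons (nat_lit 32) (nat_lit 0x18aa4a650000000000040111000000001484000100000000106186020000000000000000) (Net.cons (nat_lit 64) (nat_lit 0x1420006400000000000000001ccb40910000000000000000000000000000000000000000) (Net.cons (nat_lit 128) (nat_lit 0x20c80f75ecb5a9316200001) (Net.cons (nat_lit 256) (nat_lit 0x20c80f75ecb5a9316200001)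 (Net.cons (nat_lit 128) (nat_lit 0x800000020c80f75ecb5a9316200001) (Net.cons (nat_lit 64) (nat_lit 0x5641144400000000000000009cef419582a0002000000000000000006415845279601280) (Net.cons (nat_lit 32) (nat_lit 0x19ae68670000000000441951000000001c86e499000000003461820b0000000022400068) (Net.cons (nat_lit 16) (nat_lit 0x1608000050500000468a00001867000001e500002448000000a00000fe5200000e14000007d000000052) (Net.cons (nat_lit 8) (nat_lit 0x21009300050076001d0047008400400030000a00c400820080000000fa007e0000000e000000a200120000) (Net.cons (nat_lit 4) (nat_lit 0x70802000103030e040d0d08080805010205040c04020600080000080104030c0307020d050a020000000000) (Net.cons (nat_lit 2) (nat_lit 0x1330313201030001001210231202212012221000000300200000000003321310330111021032000021000000) (Net.cons (nat_lit 1) (nat_lit 0x404105011051504410551010401401400111104000100500010000015011450140100450041015511000000) Net.nil)))))))))))))))))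
noncomputable def k_u_N_5 : Net := (Net.cons (nat_lit 1) (nat_lit 0x51410011450044114444114014041544101400100001050000400014500104104404044041110041400010) (Net.cons (nat_lit 2) (nat_lit 0x1223002003222023101000203033100100000020010000030010020120202021021202000031100000020) (Net.cons (nat_lit 4) (nat_lit 0x20f0d04000107010b06000004080b080103080000020302030400040601020602080100010a00010b0000) (Net.cons (nat_lit 8) (nat_lit 0x45000800820007004a00c100c9001d00170000000000120004000000d400f0007f00d10002000000000000) (Net.cons (nat_lit 16) (nat_lit 0x854000071de0000b81c0000b0100000a471000041000000800000000848000038420000e98000000000) (Net.cons (nat_lit 32) (nat_lit 0x8118083800000000e48ba902000000000830161000000000480211100000000000000000) (Net.cons (nat_lit 64) (nat_lit 0x1e41c004000000000000000040022a100000000000000000000000000000000000000000) (Net.cons (nat_lit 128) (nat_lit 0x42281850e2123f1a3d49d054) (Net.cons (nat_lit 256) (nat_lit 0x42281850e2123f1a3d49d054)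 (Net.cons (nat_lit 128) (nat_lit 0x2000000042281850e2123f1a3d49d054) (Net.cons (nat_lit 64) (nat_lit 0x1e55d72600000000000000004723ea1482863303000000000000000000acf90069aa2852) (Net.cons (nat_lit 32) (nat_lit 0xa35808bd00000000f68ba92a000000002b30171000000000584a31900000000091192100) (Net.cons (nat_lit 16) (nat_lit 0x8540000f0de0000b81c0000b1100000a471000040000000810000000848000039570000eac000000100) (Net.cons (nat_lit 8) (nat_lit 0x45000800c20007004b00c100cb001d00170000000000120006000000d400f8007f00d10012000000180000) (Net.cons (nat_lit 4) (nat_lit 0x20f0d04000107010b06000004080b080103080000020302030400040601020702090900010a03010b0008) (Net.cons (nat_lit 2) (nat_lit 0x1223002003222023101000203033100100000020010000030010020120202021021202000031100000020) (Net.cons (nat_lit 1) (nat_lit 0x51410011450044114444114014041544101400100001050000400014500104104404044041110041400010) Net.nil)))))))))))))))))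
noncomputable def k_u_N_6 : Net := (Net.cons (nat_lit 1) (nat_lit 0x145504104010145515010400504101400400000040014154041000055111444004401450401100040001004) (Net.cons (nat_lit 2) (nat_lit 0x1001011022131123201111011102310101002202020013030000010032212210110110120100010020202100) (Net.cons (nat_lit 4) (nat_lit 0x50808060600000000070102040405000407040000010d0904060000030103010e00040a0400000406000c00) (Net.cons (nat_lit 8) (nat_lit 0x480062000000d70000001400b100180063000a001400b5000000c1002200c2007c0000000000240000) (Net.cons (nat_lit 16) (nat_lit 0x182e0000028200000141000005b400002002000018880000000000003011000005620000500000000000) (Net.cons (nat_lit 32) (nat_lit 0x25301a5000000004947515b00000000400000000000000001210e540000000000000000) (Net.cons (nat_lit 64) (nat_lit 0x400010c00000000000000000002303020000000000000000000000000000000000000000) (Net.cons (nat_lit 128) (nat_lit 0x486d51d06237134308024000) (Net.cons (nat_lit 256) (nat_lit 0x486d51d06237134308024000)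 (Net.cons (nat_lit 128) (nat_lit 0x486d51d06237134308024000) (Net.cons (nat_lit 64) (nat_lit 0x114010ee0000000000000000402b034261000269000000000000000008422f4401232110) (Net.cons (nat_lit 32) (nat_lit 0x425301e50000000019d7551b00000000108089540000000083233f760000000050022100) (Net.cons (nat_lit 16) (nat_lit 0x1c2e0000078a000045c1000005b4000020060000188a0000440000003011000045e30000500000002206) (Net.cons (nat_lit 8) (nat_lit 0x5000480022000000d70000005400b100180063000a001400b5000000e5002600c2007c000500000006004a) (Net.cons (nat_lit 4) (nat_lit 0x50808060600000000070102040405000407050000010d0904060000030303010e00040a04000004060a0e00) (Net.cons (nat_lit 2) (nat_lit 0x1001011022131123201113011102310101002202022013031000010032212210110110120100010020202100) (Net.cons (nat_lit 1) (nat_lit 0x145504104010145515010400504101400400000040014154045000055111454004405451401100040001004) Net.nil)))))))))))))))))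
noncomputable def k_u_N : List Net := [k_u_N_0, k_u_N_1, k_u_N_2, k_u_N_3, k_u_N_4, k_u_N_5, k_u_N_6]
noncomputable def k_u_pt : BT Nat := (BT.leaf (nat_lit 0xf76f162e156428f7afced31d323a456b2ece419b733666692caa9946ae9c5d0eb5816782c7758cab1195f529e6520ca2a544ca889501e9f553e0a7a64d629a8d344a6664c7a95d924ea40247ce8f091d1239647168d9919a2310460a8bd9170a2cb457e8acd0f821d5437e86910cea184425a838d01b9fd93f727e8cfc41f713e907c8cf831efd3de47b30f599e9f3b6076a4ece1d4d3a227254e221c2d38146f74dd61b8936aa6d38d581a6534b66874cc9994b311e61d4bf797ab2f325e34b8a96982d0a58ecb1c96222b5e55acab0955b29fe538ca6194b1289e5134a22141f27a64e749ca138d26964cbc98e931326164bcc95c12b325244a28936125c24a2493c91011f223d8479c8ec11d0235645e08b7915622a0451089b90d821a2432086110a7210841d8834106320bc410880b9010201c3fec7fa0fe51f9e3f1c7df0fbc1f5e3de47ba8f711eb43d5c7a28f3a1e6a3cb47960f201df43bdc7798eee1dc63b3c7668eca1d8a3b047600ebc1d363a5473e0e761ce639bc7290e421c7c38e07118e1b1c24380c6ff0df61be437a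46f38de31bae37486e70dcd1b8a36fc6dc8db81b6e26c44cc8930116c2258445888310d821444260836103a20203d4878a0ee61d4039b072c0e461c8037a06d80d1819f833306270c0617f82fe85fc0bf417e02f805ba0b7216c02ae054a0a0813b827384a609361220226841408000ff81fe83ee07d00f7c1ed03cc073a0e441c58387067e0cdc196832406020bfc17a02f005d60b9015802a2053c098412c82570452089010d821203ee07c80f381e503be06ec0dc01ae034806000be016e029804e009401240238041007c80f401dc038006900ce017e02e005680ab014402840438086010401d4032806400c00138020003e007a00e40108019001800280010000))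
noncomputable def k_u_pi : Nat → Nat := BT.record k_u_pt (nat_lit 10) (nat_lit 1023) (nat_lit 15) (nat_lit 32767)
noncomputable def k_u_t0 : BT Nat := (BT.leaf (nat_lit 0x57abb5cadd6ab358abd5aab54a9d4aa350a7d3a9b4ca5d2a9348a3d1a8b44a1d0a83409fcfa7b3c9dcea73389bcda6b3499cca633097cba5b2c95caa532893c9a4b2491c8a43208fc7a3b1c8dc6a33188bc5a2b1489c4a231087c3a1b0c85c2a130883c1a0b0481c0a03007fbf9fafc7dbe9f2f87bbd9eaf479bc9e2f077bb9daec75ba9d2e873b99cae471b89c2e06fb79badc6db69b2d86bb59aad469b49a2d067b399acc65b2992c863b198ac461b0982c05faf97abc5dae972b85bad96ab459ac962b057ab95aac55aa952a853a994aa451a8942a04fa793a9c4da6932984ba592a9449a49229047a391a8c45a29128843a190a8441a0902803f9f8fa7c3d9e8f2783b9d8ea74399c8e270379b8da6c359a8d26833998ca6431988c2602f978ba5c2d968b2582b958aa5429948a250279389a4c259289248239188a442190882401f8f87a3c1d8e872381b8d86a34198c86230178b85a2c158a85228138984a241188842200f8783a1c0d86832180b8582a14098482210078381a0c058281208038180a04018080200))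
noncomputable def k_u_t1 : BT Nat := (BT.leaf (nat_lit 0x4eeb159a4c3ab95dabc165548a1d4aa30392d09fd329b4eab754894f22344a9d3a5f403f4824746af52a73262d52e6b3499d326329a09f65aff00556607c3dce29f249ec8a433e3b9a63b1c3d46a32793c3d62b1439d1e8a7087d68e46e859be130883c1aac52a8196026896535fafc77bc1f2f87bbda2cf4799d8cefa7d98ddaec75ba9d2db739c4ba593690886e06fae1badc74151b2d86bb58a2642813da2d0263399a48238b85e29153198a3f61b09823a1caf97a361aae972de5bad96a1b0e2c962b0578247c140aaa95224080454a2101a88661e4f8053a9c0c8102c07042592a1f0600814904783c1c051685d1206068684c13160c8c06b3fcfe5d2893c6e31178fbc8ea7489c35cd1085431c66c401aa3d007899a04d477188c2812f979ca5c2dcddc8582b958aada29c11aad3691389acf2592892cc659188a4470b888240622b47a3c1db017e381baf1763450a08623064b29168315b1d902813a144aa81188948204a2803ab35a21936184526556ac420494ca7472350e9305a455c974c221189a51a493d2b))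
noncomputable def k_u_t2 : BT Nat := (BT.leaf (nat_lit 0x4eeb159a4c3ab95dabc165548a1d4aa30392d09fd329b4eab754894f22344a9d3a5f403f4824746af52a73262d52e6b3499d326329a09f65aff00556607c3dce29f249ec8a433e3b9a63b1c3d46a32793c3d62b1439d1e8a7087d68e46e859be130883c1aac52a8196026896535fafc77bc1f2f87bbda2cf4799d8cefa7d98ddaec75ba9d2db739c4ba593690886e06fae1badc74151b2d86bb58a2642813da2d0263399a48238b85e29153198a3f61b09823a1caf97a361aae972de5bad96a1b0e2c962b0578247c140aaa95224080454a2101a88661e4f8053a9c0c8102c07042592a1f0600814904783c1c051685d1206068684c13160c8c06b3fcfe5d2893c6e31178fbc8ea7489c35cd1085431c66c401aa3d007899a04d477188c2812f979ca5c2dcddc8582b958aada29c11aad3691389acf2592892cc659188a4470b888240622b47a3c1db017e381baf1763450a08623064b29168315b1d902813a144aa81188948204a2803ab35a21936184526556ac420494ca7472350e9305a455c974c221189a51a493d2b))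
noncomputable def k_u_t3 : BT Nat := (BT.leaf (nat_lit 0x492a352adc06b358a4bf6293998d72bafca7d39e87a8ec8aaf482951a8b25a1d00f3428d9c8e1359dceaa873824da7911349faa7303ec60f0f695caa330d881de895e3dd2a427c89c7a966e9f9be532e8bba801558f96a692732c3a510c3442a130883c1a0b3781c0ab5007fbfaad5036965f2f87bcb1eb4d79b8dc8673b17c844375c59d248739d4ccf179389c2e06f8f9badc2a3305c2f6bb58b06c2b958522a56b399ada29b2992c863b198a4b6186c3849232f97a41202e8124c0a0556ab45984022b001ab99eac55805523053a980828518587a2503a78109c1126932984b808142709249220e028611a8c1c0801a0b4388c621d1b8ecd48035cca5f2091d32832d933bdcc749c4f8e33d8d471f6d43fa06670b783961e6431988c26077178ba5c2dc49f4d569b48aadb65d1ca250279389ab86212980e823afc8a44763b578bb1fb79423c410e8728b418d86a34198c90aa86c3645a2c15b41a2a44a09940244326c428a0f87908c161068328e0ba896cb709a4d62b207a41120c44255729d4f8191ea557a595515))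
noncomputable def k_u_t4 : BT Nat := (BT.leaf (nat_lit 0x492a352adc06b358a4bf6293998d72bafca7d39e87a8ec8aaf482951a8b25a1d00f3428d9c8e1359dceaa873824da7911349faa7303ec60f0f695caa330d881de895e3dd2a427c89c7a966e9f9be532e8bba801558f96a692732c3a510c3442a130883c1a0b3781c0ab5007fbfaad5036965f2f87bcb1eb4d79b8dc8673b17c844375c59d248739d4ccf179389c2e06f8f9badc2a3305c2f6bb58b06c2b958522a56b399ada29b2992c863b198a4b6186c3849232f97a41202e8124c0a0556ab45984022b001ab99eac55805523053a980828518587a2503a78109c1126932984b808142709249220e028611a8c1c0801a0b4388c621d1b8ecd48035cca5f2091d32832d933bdcc749c4f8e33d8d471f6d43fa06670b783961e6431988c26077178ba5c2dc49f4d569b48aadb65d1ca250279389ab86212980e823afc8a44763b578bb1fb79423c410e8728b418d86a34198c90aa86c3645a2c15b41a2a44a09940244326c428a0f87908c161068328e0ba896cb709a4d62b207a41120c44255729d4f8191ea557a595515))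
noncomputable def k_u_t5 : BT Nat := (BT.leaf (nat_lit 0x57abaf8ada2eb2ecabd59aedfa9d49c2d4a7d3a9b4ca5b4dc148a3c35c74487c2683409fcf9c4bc6846e73009bc7240ef99c8a05188ccba5b2c44ca9772876b21f2c7854ca433585c7a19369d4425f308bc590f1468c05ab1aa1c128d1d8fc8e850842419650e724c625384fb054ef07dbea4b5c7ba6144b34dbc9e2fc9a3ba4f5849a6550a673b99cb03a2cf6a349aa25d28dc5a2c5b2d8aab5a2350a534a273b4eb3980c25eb2993269221942a961b31fccd5fa91973c94ae95aae5bad902db7a415b4b057ae172ac55a0188e97eba14abe51bd58aa07f9fd9e9c79a69d4f66f2592add75a49229047a391a8cad22a56888ab190b0741a096aaa4f15c80413d9406a4e3b960ba74398d8cc70211b8a267359a88a29361c4ca59128b806600f008ea2f020e0c8763f0e42854298b4da7a231e02a4c2581492482393cd20a219bcf87d1f8f87a0e030e8ac5a079c8f2341982c2e302e188a418158a8d02813880c6241188842260f97c3a1c08868322c188589a550984836101b8f01a0c191101009038ec945b309780200))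
noncomputable def k_u_t6 : BT Nat := (BT.leaf (nat_lit 0x57abaf8ada2eb2ecabd59aedfa9d49c2d4a7d3a9b4ca5b4dc148a3c35c74487c2683409fcf9c4bc6846e73009bc7240ef99c8a05188ccba5b2c44ca9772876b21f2c7854ca433585c7a19369d4425f308bc590f1468c05ab1aa1c128d1d8fc8e850842419650e724c625384fb054ef07dbea4b5c7ba6144b34dbc9e2fc9a3ba4f5849a6550a673b99cb03a2cf6a349aa25d28dc5a2c5b2d8aab5a2350a534a273b4eb3980c25eb2993269221942a961b31fccd5fa91973c94ae95aae5bad902db7a415b4b057ae172ac55a0188e97eba14abe51bd58aa07f9fd9e9c79a69d4f66f2592add75a49229047a391a8cad22a56888ab190b0741a096aaa4f15c80413d9406a4e3b960ba74398d8cc70211b8a267359a88a29361c4ca59128b806600f008ea2f020e0c8763f0e42854298b4da7a231e02a4c2581492482393cd20a219bcf87d1f8f87a0e030e8ac5a079c8f2341982c2e302e188a418158a8d02813880c6241188842260f97c3a1c08868322c188589a550984836101b8f01a0c191101009038ec945b309780200))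
noncomputable def k_u_t7 : BT Nat := (BT.leaf (nat_lit 0x57a5f4eadd6a85416bcc2aae8a9d49653e9ed71df4ca2d1e92dba551a96b1a1d66b14045d429f3c9dc4a35389bc45d3345ecca4356aea9e5b2c95caa0b285349a46f792b6263037347a3af4604e633184dc5938e0694ea6d1073c3994f285b32129f4b34252c9904099abf7fbedfad97f3e984f8922e9eb1c79c3178f0a6a5dbeec57b0e6b5487c7d90a871b89771476b796c89a4369f922abb5966d469c4da3064528a030a65c3608e563b198a8d753e5831b8025666f170bd972b85bb756ab46ad4688b075a1540a155aa952e49749d4aa451b3958ad842093b158ba1932987741d7c9449a49229047a3988819fb3db88043a695c8441a7918883f8b4207c088e8f219389b8ac18278b8ee70241d8da62031a8d2391b198ca64041b024052f87452572d96848582e1d4aa54228bc3850399384e1725928706f23918a6281a9086040070787a3c1d9e8d0491a19c86370a0046241291c8fc2c158a8ba442682440591188842250f8f8bc510d810f074260582a3309984f67d078fc1a0c058284c63039acc01a018086400))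
noncomputable def k_u_t8 : BT Nat := (BT.leaf (nat_lit 0x57a5f4eadd6a85416bcc2aae8a9d49653e9ed71df4ca2d1e92dba551a96b1a1d66b14045d429f3c9dc4a35389bc45d3345ecca4356aea9e5b2c95caa0b285349a46f792b6263037347a3af4604e633184dc5938e0694ea6d1073c3994f285b32129f4b34252c9904099abf7fbedfad97f3e984f8922e9eb1c79c3178f0a6a5dbeec57b0e6b5487c7d90a871b89771476b796c89a4369f922abb5966d469c4da3064528a030a65c3608e563b198a8d753e5831b8025666f170bd972b85bb756ab46ad4688b075a1540a155aa952e49749d4aa451b3958ad842093b158ba1932987741d7c9449a49229047a3988819fb3db88043a695c8441a7918883f8b4207c088e8f219389b8ac18278b8ee70241d8da62031a8d2391b198ca64041b024052f87452572d96848582e1d4aa54228bc3850399384e1725928706f23918a6281a9086040070787a3c1d9e8d0491a19c86370a0046241291c8fc2c158a8ba442682440591188842250f8f8bc510d810f074260582a3309984f67d078fc1a0c058284c63039acc01a018086400))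
noncomputable def k_u_t9 : BT Nat := (BT.leaf (nat_lit 0x466bb1484ca2b306abd5aa51371d56a350643829ad4a5bc692ae5e3168acf4cd09a1409fcf9cb3c9dab23eb99bb0e6b1662251e53097bda5b186b4aa495a93c995b295039218b69cc7a3b1c8db9abd2c75cd22b5caa285d5106aaae032185c2ab6e183d61ef046ec0a1af963b39fafc513ea00f882cb9eaf479cc694b777bb5dcec8bc45d2d259c6a7b22a9b8a114e4bb4606dc42b69b2a86bcae1f4c69ba1bd41a23f994cc65b35934f7fa4a8d339b2fd82c0612f91b474fa9e70b87848122b473ac914874dd224b3a8723952d85d299088f51bee25235da793a9c57a6a86986fa592b3249b196a90522a97a8c45ac5128858219b6a53fa0902804189cfa15129b054783b9d8de32049c8e2663a9b82c7a1b9a896680a1c0b01f318e8c244210683c5c2d8f4b2652b920a03129904a255130305a4c3492892561e06c8a602197ca4071f8a4b4471d9887238358cc6a061b1d0a82f180b89a2c159e47c053f13cf6241180c421132174081c2317832010b9b4f867098484010078381a4e05828e608200d0501d110083000))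
noncomputable def k_u_t10 : BT Nat := (BT.leaf (nat_lit 0x466bb1484ca2b306abd5aa51371d56a350643829ad4a5bc692ae5e3168acf4cd09a1409fcf9cb3c9dab23eb99bb0e6b1662251e53097bda5b186b4aa495a93c995b295039218b69cc7a3b1c8db9abd2c75cd22b5caa285d5106aaae032185c2ab6e183d61ef046ec0a1af963b39fafc513ea00f882cb9eaf479cc694b777bb5dcec8bc45d2d259c6a7b22a9b8a114e4bb4606dc42b69b2a86bcae1f4c69ba1bd41a23f994cc65b35934f7fa4a8d339b2fd82c0612f91b474fa9e70b87848122b473ac914874dd224b3a8723952d85d299088f51bee25235da793a9c57a6a86986fa592b3249b196a90522a97a8c45ac5128858219b6a53fa0902804189cfa15129b054783b9d8de32049c8e2663a9b82c7a1b9a896680a1c0b01f318e8c244210683c5c2d8f4b2652b920a03129904a255130305a4c3492892561e06c8a602197ca4071f8a4b4471d9887238358cc6a061b1d0a82f180b89a2c159e47c053f13cf6241180c421132174081c2317832010b9b4f867098484010078381a4e05828e608200d0501d110083000))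
noncomputable def k_u_t11 : BT Nat := (BT.leaf (nat_lit 0x356ba9c7220ab29678559b9547cd4924c587c369b01a5a21429f915197302a1a520120874f918dd56cdd31389d4b66aae884ca62d14cc2e6cdf6ccaa532847baa4ab88f51d27408fc8e2f1c8dc6990a28eaed95147ac4a2333a7cfe9d0c9742978865fc19210481d1299417fa551afc4bbeaa6f87bbda269145275e35763af9daec75c991ca340aa5cb5b68389c2d49637a79554d2be56806bb5abce069b4a60e367b399aa55d454ff1977b1aa0c461b0982b083bb97b098b32e8b245bad96ab459ac962c06d4d276ac55aa9cca853a9998a47446292a0a4279e55c4db6e5f397dd61fd4290d45e90593ba5fb3d45bcd134a43c210a8441d69ced8648c8fa273d8ecf278201d8ea151a87ce27025138da6c359a80a161e8fcca643183436602f90c960108818664c1684caa542982c7c380e9b89a582e9bc924823918841c2f114827733144ce103d0e87250120d8e6142c9f8322c178b8ae3015820521e3e0884237118984a20390a09e443086862180b9a0e8342b048b63c07838c40c29028122a03968d20302008b800))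
noncomputable def k_u_t12 : BT Nat := (BT.leaf (nat_lit 0x356ba9c7220ab29678559b9547cd4924c587c369b01a5a21429f915197302a1a520120874f918dd56cdd31389d4b66aae884ca62d14cc2e6cdf6ccaa532847baa4ab88f51d27408fc8e2f1c8dc6990a28eaed95147ac4a2333a7cfe9d0c9742978865fc19210481d1299417fa551afc4bbeaa6f87bbda269145275e35763af9daec75c991ca340aa5cb5b68389c2d49637a79554d2be56806bb5abce069b4a60e367b399aa55d454ff1977b1aa0c461b0982b083bb97b098b32e8b245bad96ab459ac962c06d4d276ac55aa9cca853a9998a47446292a0a4279e55c4db6e5f397dd61fd4290d45e90593ba5fb3d45bcd134a43c210a8441d69ced8648c8fa273d8ecf278201d8ea151a87ce27025138da6c359a80a161e8fcca643183436602f90c960108818664c1684caa542982c7c380e9b89a582e9bc924823918841c2f114827733144ce103d0e87250120d8e6142c9f8322c178b8ae3015820521e3e0884237118984a20390a09e443086862180b9a0e8342b048b63c07838c40c29028122a03968d20302008b800))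
noncomputable def k_u_t13 : BT Nat := (BT.leaf (nat_lit 0x43abb48adceea9587cc0e4d597854a4305a7b6e254ca5bee935c7f51a8ae07d3a282d16aca67b3cad3be732a63cd97af374cc9652097af25b2c95ce27d28735564b2491a56a3305347961064dc694acb6045a10b189d36228e87d79350c84b96171583c72a104ab35203007fd1dfafca550eaef87bb39ead09a3c94f539d201dad675b72674273c9e14e448a0dc3446fb79baeaa7369b2be613b27f0269b4a80f442bd99ac88c21992cc9bb1920c444b5d83175fb626b2e5da8972b85aad96eb445cc6291d57a2904ac422a91ea878c7e32a44a2e9429e4e2813a9f8dc3532984425a44a34924dc6c554c411a8c59ab9869743b299eab712b502ee3f9446c7c388648e3a089d8305639810f60f2e9b8146c31954d26808198c86535988c2602f978de28200a8b222221d0d45420948fc50279389a262512c92293c8ac6057218b0a65b1f8c8783d189e072381b9f46a34198f8764517868384223168905c139304a24119604220018043a2d0d8b8f4750485826140a848ee67380381a02059b42e06038200a720f8303c00))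
noncomputable def k_u_t14 : BT Nat := (BT.leaf (nat_lit 0x43abb48adceea9587cc0e4d597854a4305a7b6e254ca5bee935c7f51a8ae07d3a282d16aca67b3cad3be732a63cd97af374cc9652097af25b2c95ce27d28735564b2491a56a3305347961064dc694acb6045a10b189d36228e87d79350c84b96171583c72a104ab35203007fd1dfafca550eaef87bb39ead09a3c94f539d201dad675b72674273c9e14e448a0dc3446fb79baeaa7369b2be613b27f0269b4a80f442bd99ac88c21992cc9bb1920c444b5d83175fb626b2e5da8972b85aad96eb445cc6291d57a2904ac422a91ea878c7e32a44a2e9429e4e2813a9f8dc3532984425a44a34924dc6c554c411a8c59ab9869743b299eab712b502ee3f9446c7c388648e3a089d8305639810f60f2e9b8146c31954d26808198c86535988c2602f978de28200a8b222221d0d45420948fc50279389a262512c92293c8ac6057218b0a65b1f8c8783d189e072381b9f46a34198f8764517868384223168905c139304a24119604220018043a2d0d8b8f4750485826140a848ee67380381a02059b42e06038200a720f8303c00))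
noncomputable def k_u_TT : BT (BT Nat) := (BT.node (nat_lit 7) (BT.node (nat_lit 3) (BT.node (nat_lit 1) (BT.leaf k_u_t0) (BT.node (nat_lit 2) (BT.leaf k_u_t1) (BT.leaf k_u_t2))) (BT.node (nat_lit 5) (BT.node (nat_lit 4) (BT.leaf k_u_t3) (BT.leaf k_u_t4)) (BT.node (nat_lit 6) (BT.leaf k_u_t5) (BT.leaf k_u_t6)))) (BT.node (nat_lit 11) (BT.node (nat_lit 9) (BT.node (nat_lit 8) (BT.leaf k_u_t7) (BT.leaf k_u_t8)) (BT.node (nat_lit 10) (BT.leaf k_u_t9) (BT.leaf k_u_t10))) (BT.node (nat_lit 13) (BT.node (nat_lit 12) (BT.leaf k_u_t11) (BT.leaf k_u_t12)) (BT.node (nat_lit 14) (BT.leaf k_u_t13) (BT.leaf k_u_t14)))))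
noncomputable def k_u_cg : List Lvl := [⟨(nat_lit 0), [[(nat_lit 9), (nat_lit 5), (nat_lit 13), (nat_lit 7), (nat_lit 3)],
  [(nat_lit 11), (nat_lit 1)]], (nat_lit 9)⟩,
  ⟨(nat_lit 2), [[(nat_lit 11), (nat_lit 7), (nat_lit 5), (nat_lit 13), (nat_lit 7), (nat_lit 9), (nat_lit 5)],
  [(nat_lit 3), (nat_lit 1), (nat_lit 3), (nat_lit 13)]], (nat_lit 7)⟩,
  ⟨(nat_lit 1), [[(nat_lit 9), (nat_lit 11), (nat_lit 7), (nat_lit 5), (nat_lit 1), (nat_lit 3), (nat_lit 1), (nat_lit 13), (nat_lit 5)],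
  [(nat_lit 9)]], (nat_lit 11)⟩,
  ⟨(nat_lit 3), [[(nat_lit 11), (nat_lit 3), (nat_lit 1), (nat_lit 3), (nat_lit 9), (nat_lit 11)],
  [(nat_lit 13), (nat_lit 5), (nat_lit 7), (nat_lit 11), (nat_lit 5), (nat_lit 13)]], (nat_lit 4)⟩,
  ⟨(nat_lit 4), [[(nat_lit 11), (nat_lit 3), (nat_lit 1), (nat_lit 3), (nat_lit 9), (nat_lit 13), (nat_lit 5), (nat_lit 11), (nat_lit 13), (nat_lit 9), (nat_lit 11), (nat_lit 9)],
  [(nat_lit 13), (nat_lit 5), (nat_lit 7), (nat_lit 5), (nat_lit 13)]], (nat_lit 3)⟩,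
  ⟨(nat_lit 5), [[(nat_lit 1), (nat_lit 7), (nat_lit 3), (nat_lit 1), (nat_lit 7), (nat_lit 9), (nat_lit 11), (nat_lit 5), (nat_lit 13), (nat_lit 5), (nat_lit 11), (nat_lit 9), (nat_lit 1), (nat_lit 3), (nat_lit 7), (nat_lit 1)]], (nat_lit 2)⟩,
  ⟨(nat_lit 6), [[(nat_lit 3), (nat_lit 1), (nat_lit 3)]], (nat_lit 1)⟩,
  ⟨(nat_lit 127), [[(nat_lit 9), (nat_lit 13), (nat_lit 5), (nat_lit 1), (nat_lit 5), (nat_lit 13), (nat_lit 9), (nat_lit 3), (nat_lit 13), (nat_lit 7), (nat_lit 5), (nat_lit 1), (nat_lit 11), (nat_lit 7), (nat_lit 5), (nat_lit 3), (nat_lit 13), (nat_lit 3), (nat_lit 5), (nat_lit 9), (nat_lit 5), (nat_lit 13), (nat_lit 3), (nat_lit 5), (nat_lit 7), (nat_lit 11), (nat_lit 1), (nat_lit 5), (nat_lit 7), (nat_lit 13), (nat_lit 3)]], (nat_lit 1)⟩]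
noncomputable def r_V : List (List Nat) := [[(nat_lit 0x4c006d42e191081468028d1a873433481090c558bcd6a0021759809b022d15281203495f248420c262b7406c), (nat_lit 0x33ff92bd1e6ef7eb97fd72e578cbccb7ef6f3aa743295ffde8a67f64fdd2ead7edfcb6a0db7bdf3d9d48bf93), (nat_lit 0)],
  [(nat_lit 0x20c3ab0f95a800812ca1d251b89120236554542c100a84a38096a0a9120ab2ea18420426e2a288b20a8a80bb), (nat_lit 0x5e3454c06255dc54c11e0d8e4764534c12a1a9d0aed562581f491652e4a50d10c70d49d9144c754de4356244), (nat_lit 0x10800300802232a12402020000a8c90880a020341201904602049040950400520b0b2000911020011401d00)],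
  [(nat_lit 0x420d03045248252874931700ce5e40016870986674d81832adb2044866aa094074c58a499f24a20020494847), (nat_lit 0x14a2ac0ba5a0c2428860e8143100bbbc908767080327a04d524190a1110074ab890204a6608149c757b63528), (nat_lit 0x295050f008171895030c00eb00a104420708009188004780000c6b168855821402387110005a143888008290)],
  [(nat_lit 0x86014985c421b9421e434869eb582d0c9d89105524844084a4acd004d7c522020645114e98c154d9740a01), (nat_lit 0x808fa962a389206b900901290148782610202622ac941ba0b51130c1a2808cd715982c8302238a8048111a8), (nat_lit 0x7771042050034c4004e12ca5060020509260748d80123a05700a4023e10032108ca0382681450603220ae456)],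
  [(nat_lit 0x2008e73142151d481a39580b11802b64153102ac2995309422e60c722240a8a206c5ca289c144aa4d32282b0), (nat_lit 0x5e530884852a0283a18487a4c828841a8888ac13126209434d0992048d870559900024c660a0005808490847), (nat_lit 0x1a4104a38c0e034444220502657508162465140c408c6289010618950385204693a1111034bb50324947508)],
  [(nat_lit 0xecc8974263138c406ac0c510402520229ad5ad2996b28453a89200076546a6068000614250a6b4229198ac8), (nat_lit 0x6130760011c60608d100e004b931ac8d8410a401469093b841520b7280a09102127c0108cae4009144c65403), (nat_lit 0x1003008bc808c133285313aa42cc01705242012c200444028424d48d090b049d8583f8e31011942c92202134)],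
  [(nat_lit 0x6e43443a306c147510048002726d094e50580782d0211cf519c9082352b156a86c808162553a013490c44016), (nat_lit 0x8003454d01e08869c1401c8c10d600ae02d8692a04e0008426e440a94e2811823a228d22444ac9450396c0), (nat_lit 0x113cb88082920b02863a3fe1018220b101a5201405da030a6210139c0400814611455c108881b4022a382929)]]
noncomputable def r_s : Net := (Net.cons (nat_lit 1) (nat_lit 0x155544554450150051455414511051450154115454100154010114140540511041010544405011150054401) (Net.cons (nat_lit 2) (nat_lit 0x1102213311012111203131312302123311030031200313213120312101232322031022303030100220100000) (Net.cons (nat_lit 4) (nat_lit 0x30f01080f0d080e0301050502080402010207000d0c060507000301040808010d0f04070c020605000000) (Net.cons (nat_lit 8) (nat_lit 0x3100ae009b00e0007e0035003e00c600a700bd003500b2000200cf001a00b00046008400c200fc00f90080) (Net.cons (nat_lit 16) (nat_lit 0x19900002a27000011720000d3ea0000c8c00000e9700000c2410000d84400001d600000039500000000) (Net.cons (nat_lit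 32) (nat_lit 0x3535800c00000000ce3f872600000000095a931000000000740340820000000004288183) (Net.cons (nat_lit 64) (nat_lit 0x460f18cc00000000000000006be9f72dcd108022000000000000000011c0d35a00000000) (Net.cons (nat_lit 128) (nat_lit 0x6884922055d2e96d14cc6912) (Net.cons (nat_lit 256) (nat_lit 0x7af7b3abdff3ffffffefe9fe) (Net.cons (nat_lit 128) (nat_lit 0x4e91bc2f7af72a2764b8aabeb1c0288d) (Net.cons (nat_lit 64) (nat_lit 0xf0bcb900000000000000007c54b4edf17e15080000000000000000f73cbfa85d6ba6a7) (Net.cons (nat_lit 32) (nat_lit 0x93fad6a9000000002dc1ac0700000000d0549d4600000000e76421da0000000040fd1215) (Net.cons (nat_lit 16) (nat_lit 0x4b100000347e000079d60000394d00008e260000ed0d0000f6910000d064000033660000c6b200004b4c) (Net.cons (nat_lit 8) (nat_lit 0x1e0014004800c50048004900b30046009600a200a30000004400bd004200ff002000be00b500950001003f) (Net.cons (nat_lit 4) (nat_lit 0x30c0005070606060e0c09000f04050e05020f0d020b01090b0308090a020206050b0309010602040d0801)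 (Net.cons (nat_lit 2) (nat_lit 0x221322303231100311111022311133132322321302030312013213303123331302121001020320230310322) (Net.cons (nat_lit 1) (nat_lit 0x141004514440050141500405151054541105114004100544010114405440541015144110154514151055115) Net.nil)))))))))))))))))
noncomputable def r_As : List (List (List Nat)) := [[[(nat_lit 2), (nat_lit 1), (nat_lit 2), (nat_lit 2), (nat_lit 1), (nat_lit 1), (nat_lit 1)], [(nat_lit 1), (nat_lit 2), (nat_lit 2), (nat_lit 2), (nat_lit 1), (nat_lit 1), (nat_lit 1)], [(nat_lit 2), (nat_lit 2), (nat_lit 2), (nat_lit 1), (nat_lit 2), (nat_lit 2), (nat_lit 2)], [(nat_lit 2), (nat_lit 2), (nat_lit 1), (nat_lit 2), (nat_lit 2), (nat_lit 2), (nat_lit 2)], [(nat_lit 1), (nat_lit 1), (nat_lit 2), (nat_lit 2), (nat_lit 2), (nat_lit 1), (nat_lit 1)], [(nat_lit 1), (nat_lit 1), (nat_lit 2), (nat_lit 2), (nat_lit 1), (nat_lit 2), (nat_lit 1)], [(nat_lit 1), (nat_lit 1), (nat_lit 2), (nat_lit 2), (nat_lit 1), (nat_lit 1), (nat_lit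 2)]],
  [[(nat_lit 1), (nat_lit 0), (nat_lit 0), (nat_lit 0), (nat_lit 0), (nat_lit 0), (nat_lit 0)], [(nat_lit 0), (nat_lit 1), (nat_lit 0), (nat_lit 0), (nat_lit 0), (nat_lit 0), (nat_lit 0)], [(nat_lit 0), (nat_lit 0), (nat_lit 2), (nat_lit 2), (nat_lit 2), (nat_lit 2), (nat_lit 0)], [(nat_lit 0), (nat_lit 0), (nat_lit 2), (nat_lit 2), (nat_lit 1), (nat_lit 1), (nat_lit 0)], [(nat_lit 0), (nat_lit 0), (nat_lit 2), (nat_lit 1), (nat_lit 2), (nat_lit 1), (nat_lit 0)], [(nat_lit 0), (nat_lit 0), (nat_lit 2), (nat_lit 1), (nat_lit 1), (nat_lit 2), (nat_lit 0)], [(nat_lit 0), (nat_lit 0), (nat_lit 0), (nat_lit 0), (nat_lit 0), (nat_lit 0), (nat_lit 1)]],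
  [[(nat_lit 2), (nat_lit 0), (nat_lit 0), (nat_lit 2), (nat_lit 1), (nat_lit 1), (nat_lit 0)], [(nat_lit 0), (nat_lit 1), (nat_lit 0), (nat_lit 0), (nat_lit 0), (nat_lit 0), (nat_lit 0)], [(nat_lit 0), (nat_lit 0), (nat_lit 1), (nat_lit 0), (nat_lit 0), (nat_lit 0), (nat_lit 0)], [(nat_lit 2), (nat_lit 0), (nat_lit 0), (nat_lit 2), (nat_lit 2), (nat_lit 2), (nat_lit 0)], [(nat_lit 1), (nat_lit 0), (nat_lit 0), (nat_lit 2), (nat_lit 2), (nat_lit 1), (nat_lit 0)], [(nat_lit 1), (nat_lit 0), (nat_lit 0), (nat_lit 2), (nat_lit 1), (nat_lit 2), (nat_lit 0)], [(nat_lit 0), (nat_lit 0), (nat_lit 0), (nat_lit 0), (nat_lit 0), (nat_lit 0), (nat_lit 1)]],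
  [[(nat_lit 2), (nat_lit 2), (nat_lit 0), (nat_lit 0), (nat_lit 1), (nat_lit 0), (nat_lit 2)], [(nat_lit 2), (nat_lit 2), (nat_lit 0), (nat_lit 0), (nat_lit 2), (nat_lit 0), (nat_lit 1)], [(nat_lit 0), (nat_lit 0), (nat_lit 1), (nat_lit 0), (nat_lit 0), (nat_lit 0), (nat_lit 0)], [(nat_lit 0), (nat_lit 0), (nat_lit 0), (nat_lit 1), (nat_lit 0), (nat_lit 0), (nat_lit 0)], [(nat_lit 1), (nat_lit 2), (nat_lit 0), (nat_lit 0), (nat_lit 2), (nat_lit 0), (nat_lit 2)], [(nat_lit 0), (nat_lit 0), (nat_lit 0), (nat_lit 0), (nat_lit 0), (nat_lit 1), (nat_lit 0)], [(nat_lit 2), (nat_lit 1), (nat_lit 0), (nat_lit 0), (nat_lit 2), (nat_lit 0), (nat_lit 2)]],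
  [[(nat_lit 2), (nat_lit 1), (nat_lit 2), (nat_lit 1), (nat_lit 2), (nat_lit 2), (nat_lit 2)], [(nat_lit 1), (nat_lit 2), (nat_lit 2), (nat_lit 1), (nat_lit 2), (nat_lit 2), (nat_lit 2)], [(nat_lit 2), (nat_lit 2), (nat_lit 2), (nat_lit 2), (nat_lit 1), (nat_lit 1), (nat_lit 1)], [(nat_lit 1), (nat_lit 1), (nat_lit 2), (nat_lit 2), (nat_lit 2), (nat_lit 2), (nat_lit 2)], [(nat_lit 2), (nat_lit 2), (nat_lit 1), (nat_lit 2), (nat_lit 2), (nat_lit 1), (nat_lit 1)], [(nat_lit 2), (nat_lit 2), (nat_lit 1), (nat_lit 2), (nat_lit 1), (nat_lit 2), (nat_lit 1)], [(nat_lit 2), (nat_lit 2), (nat_lit 1), (nat_lit 2), (nat_lit 1), (nat_lit 1), (nat_lit 2)]],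
  [[(nat_lit 2), (nat_lit 0), (nat_lit 0), (nat_lit 0), (nat_lit 2), (nat_lit 2), (nat_lit 2)], [(nat_lit 0), (nat_lit 1), (nat_lit 0), (nat_lit 0), (nat_lit 0), (nat_lit 0), (nat_lit 0)], [(nat_lit 0), (nat_lit 0), (nat_lit 1), (nat_lit 0), (nat_lit 0), (nat_lit 0), (nat_lit 0)], [(nat_lit 0), (nat_lit 0), (nat_lit 0), (nat_lit 1), (nat_lit 0), (nat_lit 0), (nat_lit 0)], [(nat_lit 2), (nat_lit 0), (nat_lit 0), (nat_lit 0), (nat_lit 2), (nat_lit 1), (nat_lit 1)], [(nat_lit 2), (nat_lit 0), (nat_lit 0), (nat_lit 0), (nat_lit 1), (nat_lit 2), (nat_lit 1)], [(nat_lit 2), (nat_lit 0), (nat_lit 0), (nat_lit 0), (nat_lit 1), (nat_lit 1), (nat_lit 2)]],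
  [[(nat_lit 2), (nat_lit 1), (nat_lit 1), (nat_lit 2), (nat_lit 1), (nat_lit 2), (nat_lit 1)], [(nat_lit 1), (nat_lit 2), (nat_lit 1), (nat_lit 2), (nat_lit 1), (nat_lit 2), (nat_lit 1)], [(nat_lit 1), (nat_lit 1), (nat_lit 2), (nat_lit 2), (nat_lit 1), (nat_lit 2), (nat_lit 1)], [(nat_lit 2), (nat_lit 2), (nat_lit 2), (nat_lit 2), (nat_lit 2), (nat_lit 1), (nat_lit 2)], [(nat_lit 1), (nat_lit 1), (nat_lit 1), (nat_lit 2), (nat_lit 2), (nat_lit 2), (nat_lit 1)], [(nat_lit 2), (nat_lit 2), (nat_lit 2), (nat_lit 1), (nat_lit 2), (nat_lit 2), (nat_lit 2)], [(nat_lit 1), (nat_lit 1), (nat_lit 1), (nat_lit 2), (nat_lit 1), (nat_lit 2), (nat_lit 2)]]]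
noncomputable def r_C : List (List Nat) := [[(nat_lit 0), (nat_lit 0x40962931aafb221e3e7aabd273fc7f91bbfbe16f76e79e36ba798f07447c1c5fdfef7e733ddf2bafa3f41840), (nat_lit 0x3f69d6ce5504dde1c185542d8c03806e44041e90891861c9458670f8bb83e3a02010818cc220d4505c0be7bf)],
  [(nat_lit 0), (nat_lit 0x7fffd7fd7f7fffffd7ff7fefffefdfffffefffffeffd7ffdffef7ffefdffefdffffffff9dfffff7ffffdffd7), (nat_lit 0x280280800000280080100010200000100000100280020010800102001020000000062000008000020028)],
  [(nat_lit 0), (nat_lit 0x7aedf99bf68d7d56c9f6c9d28dc641e413f44fd8b6c1ba699567f7fc3c9d7cb3d21f1f8bf459addff64d70ad), (nat_lit 0x5120664097282a93609362d7239be1bec0bb027493e45966a980803c362834c2de0e0740ba6522009b28f52)],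
  [(nat_lit 0), (nat_lit 0x4cefb24979bd3d557361ff1da7bfbaaee5da5ff6bbf5ae3db31fe0989329a77b8f73cdcffa271c1eda6cf5af), (nat_lit 0x33104db68642c2aa8c9e00e2584045511a25a009440a51c24ce01f676cd65884708c323005d8e3e125930a50)],
  [(nat_lit 0), (nat_lit 0x66cb2e35d8f3a7f47a63ac96f53ef61c16a8da8b4116a2587d699f4fe7d65d0f3eaff63aafb46cda528dfd45), (nat_lit 0x1934d1ca270c580b859c53690ac109e3e9572574bee95da7829660b01829a2f0c15009c5504b9325ad7202ba)],
  [(nat_lit 0), (nat_lit 0x7274bacce7b6cf249c3eddda95e2396e52edec5ea4fe5fdb5b101af87bef3cb9ce3a23ef766c4bcdc587d6c5), (nat_lit 0xd8b4533184930db63c122256a1dc691ad1213a15b01a024a4efe5078410c34631c5dc108993b4323a78293a)],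
  [(nat_lit 0), (nat_lit 0x3d04fb627ad6fb3c444eb093b1bc2c96fe0d22da9ff4bf162760b29e9168577752bdf31e87b8b3fbb9d47bed), (nat_lit 0x42fb049d852904c3bbb14f6c4e43d36901f2dd25600b40e9d89f4d616e97a888ad420ce178474c04462b8412)]]
noncomputable def r_vs : List (List Nat) := [[(nat_lit 1), (nat_lit 1), (nat_lit 2), (nat_lit 2), (nat_lit 1), (nat_lit 1), (nat_lit 1)],
  [(nat_lit 0), (nat_lit 0), (nat_lit 1), (nat_lit 2), (nat_lit 2), (nat_lit 2), (nat_lit 0)],
  [(nat_lit 1), (nat_lit 0), (nat_lit 0), (nat_lit 2), (nat_lit 1), (nat_lit 1), (nat_lit 0)],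
  [(nat_lit 1), (nat_lit 2), (nat_lit 0), (nat_lit 0), (nat_lit 1), (nat_lit 0), (nat_lit 2)],
  [(nat_lit 1), (nat_lit 1), (nat_lit 2), (nat_lit 1), (nat_lit 2), (nat_lit 2), (nat_lit 2)],
  [(nat_lit 1), (nat_lit 0), (nat_lit 0), (nat_lit 0), (nat_lit 2), (nat_lit 2), (nat_lit 2)],
  [(nat_lit 1), (nat_lit 1), (nat_lit 1), (nat_lit 2), (nat_lit 1), (nat_lit 2), (nat_lit 1)]]
noncomputable def o_V : List (List Nat) := [[(nat_lit 0x21245434058414c03582204698028dc598148a810609129c04d089aa8b0600b58580b0b43411b46eb0112158), (nat_lit 0x5edbabcbfa7beb3fca7ddfb967fd723a67eb757ef9f6ed63fb2f765574f9ff4a7a7f4f4bcbee4b914feedea7), (nat_lit 0)],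
  [(nat_lit 0x410d0204360101212013c0a10077a1020201f30803038381420ce2220906f200f3198002f6a4218d183805d1), (nat_lit 0x3060ddb1c194b6c89f883e4ef9085cf598760cf38ca8347e2cd109cda24005f50ca47dfd08539e72e081622a), (nat_lit 0xe92204a086a4816406401100680020865880004705448009122141054b9080a004202000108400007469804)],
  [(nat_lit 0x680ce814f3360622960030a3402225b1520b5406704800080963a181101856242c08a480028a440b24fa40), (nat_lit 0x69177314280041c8c9201cc84082891a04ad84a2a083a29ac4e4981a3c86e6a0d3d3f40b7f0960a9b0180136), (nat_lit 0x16808003c30c88311449e3071c3d54c04a007009590c156533120444426901090800035000f4151244c30489)],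
  [(nat_lit 0x5d5580e08340489309810506b6288005180fc410a80f693a40a40003104a040e42d668c12055074002038410), (nat_lit 0x2222121c749fa500e606c8d948d3315a4010124e52308285a511e0fcc5204851ac091410000a7815b0e43063), (nat_lit 0x886d030820126c1078322001044ea0a7e029a105c014401a4a1f002a95b3a01120832edfa080aa4d184b8c)],
  [(nat_lit 0x308050081a10ffad2c00432d48001c2801a88989839882f0c01454864265421840400407e093600c60605d00), (nat_lit 0x4a4ea9924582005090693882245aa202a40232746422250a2bc888598410a501060fba3014601b801807025b), (nat_lit 0x5310665a06d00024396845093a541d55a5544021845580514232320398a18e6b9b041c80b0c84738798a0a4)],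
  [(nat_lit 0x49a958924243128312c4880b11a13281a94018250047a0332710228920824923888862049481e48c0740a00), (nat_lit 0x4001481688c9c6564a82304c0c41045424091a5c8e9a04c8c184c44164005a054371294186b280a32d82a186), (nat_lit 0x3b642260531208818451873342a4e883c162e421216181340c0a399609f781688406509e3005611412095479)],
  [(nat_lit 0x3460ad520a244050080c8a1d18240c011010205031e03910b980011418274a8cc29141583308aa819181a239), (nat_lit 0x4a10000db0d9318185217182a5d8b2dc2063cc80801940c14402fc48865885002468ae8608a2143822781084), (nat_lit 0x18f52a045028e2e72d2046042034122cf8c132f4e06862e027d02a36180307319061021c45541464c064d42)]]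
noncomputable def o_s : Net := (Net.cons (nat_lit 1) (nat_lit 0x1500004544510545515055015545154100041114455001100555141050100144555010515145104444054140) (Net.cons (nat_lit 2) (nat_lit 0x110123110020313310230032210013123122121020120211120022110020200313212203200102332003022) (Net.cons (nat_lit 4) (nat_lit 0x3090400070d0b070806080c010f060102020203030c0c020209070f0006000500080701030206080c090500) (Net.cons (nat_lit 8) (nat_lit 0x4c007400d5005c009600a7001400ab00e9005f00c5001c008d00a1003d00f800f600180057005e00190080) (Net.cons (nat_lit 16) (nat_lit 0x5cc30000ea9a00004c3200004e270000b76a0000be19000093bc0000b3cc000030850000220600008000) (Net.cons (nat_lit 32) (nat_lit 0xfb421e11000000005c6d1ea000000000486b114300000000092b0160000000000344c901) (Net.cons (nat_lit 64) (nat_lit 0x143aed870000000000000000d2885b182001002000000000000000006857485900000000) (Net.cons (nat_lit 128) (nat_lit 0x122220a44248f292d981710a) (Net.cons (nat_lit 256) (nat_lit 0x1a37b6e4fb7ffaffdfdffbbb)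 (Net.cons (nat_lit 128) (nat_lit 0xf0bf47496de2a2434324fc049ab502d9) (Net.cons (nat_lit 64) (nat_lit 0x47c437330000000000000000eb54cd9be432ce9a000000000000000048cdbf9de8b6b768) (Net.cons (nat_lit 32) (nat_lit 0x30e480800000000022e9141200000000882385fc000000008350d98f00000000cbf3f082) (Net.cons (nat_lit 16) (nat_lit 0x7cb400005c7d000036870000627c0000b9d40000e582000040d9000057df000052f100003e680000e6a4) (Net.cons (nat_lit 8) (nat_lit 0x240086002e00b200e300b9007600b20091005d0095002300c10005009d000000c4001e00b200b600b700c7) (Net.cons (nat_lit 4) (nat_lit 0x20b090c070e0e0d010d0e0d00000a0e0104000f040b050e000904020300090107090f050c09090d0d0e040d) (Net.cons (nat_lit 2) (nat_lit 0x13022301103002102003011013012030321103103313201133031012223202213322311012210030231330) (Net.cons (nat_lit 1) (nat_lit 0x1010014551151410050044405154004545045145105015544545005050055144005154514455100040514500) Net.nil)))))))))))))))))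
noncomputable def o_As : List (List (List Nat)) := [[[(nat_lit 2), (nat_lit 0), (nat_lit 0), (nat_lit 0), (nat_lit 0), (nat_lit 0), (nat_lit 0)], [(nat_lit 0), (nat_lit 1), (nat_lit 0), (nat_lit 2), (nat_lit 2), (nat_lit 0), (nat_lit 2)], [(nat_lit 0), (nat_lit 0), (nat_lit 2), (nat_lit 0), (nat_lit 0), (nat_lit 0), (nat_lit 0)], [(nat_lit 0), (nat_lit 2), (nat_lit 0), (nat_lit 1), (nat_lit 2), (nat_lit 0), (nat_lit 2)], [(nat_lit 0), (nat_lit 2), (nat_lit 0), (nat_lit 2), (nat_lit 1), (nat_lit 0), (nat_lit 2)], [(nat_lit 0), (nat_lit 0), (nat_lit 0), (nat_lit 0), (nat_lit 0), (nat_lit 2), (nat_lit 0)], [(nat_lit 0), (nat_lit 2), (nat_lit 0), (nat_lit 2), (nat_lit 2), (nat_lit 0), (nat_lit 1)]],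
  [[(nat_lit 0), (nat_lit 2), (nat_lit 2), (nat_lit 1), (nat_lit 2), (nat_lit 0), (nat_lit 0)], [(nat_lit 1), (nat_lit 1), (nat_lit 2), (nat_lit 1), (nat_lit 2), (nat_lit 0), (nat_lit 0)], [(nat_lit 0), (nat_lit 0), (nat_lit 2), (nat_lit 0), (nat_lit 0), (nat_lit 0), (nat_lit 0)], [(nat_lit 0), (nat_lit 0), (nat_lit 0), (nat_lit 2), (nat_lit 0), (nat_lit 0), (nat_lit 0)], [(nat_lit 1), (nat_lit 2), (nat_lit 2), (nat_lit 1), (nat_lit 1), (nat_lit 0), (nat_lit 0)], [(nat_lit 1), (nat_lit 2), (nat_lit 2), (nat_lit 1), (nat_lit 2), (nat_lit 2), (nat_lit 0)], [(nat_lit 2), (nat_lit 1), (nat_lit 1), (nat_lit 2), (nat_lit 1), (nat_lit 0), (nat_lit 2)]],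
  [[(nat_lit 0), (nat_lit 2), (nat_lit 2), (nat_lit 1), (nat_lit 2), (nat_lit 2), (nat_lit 2)], [(nat_lit 1), (nat_lit 1), (nat_lit 2), (nat_lit 1), (nat_lit 2), (nat_lit 2), (nat_lit 2)], [(nat_lit 1), (nat_lit 2), (nat_lit 1), (nat_lit 1), (nat_lit 2), (nat_lit 2), (nat_lit 2)], [(nat_lit 1), (nat_lit 2), (nat_lit 2), (nat_lit 0), (nat_lit 2), (nat_lit 2), (nat_lit 2)], [(nat_lit 1), (nat_lit 2), (nat_lit 2), (nat_lit 1), (nat_lit 1), (nat_lit 2), (nat_lit 2)], [(nat_lit 1), (nat_lit 2), (nat_lit 2), (nat_lit 1), (nat_lit 2), (nat_lit 1), (nat_lit 2)], [(nat_lit 2), (nat_lit 1), (nat_lit 1), (nat_lit 2), (nat_lit 1), (nat_lit 1), (nat_lit 0)]],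
  [[(nat_lit 0), (nat_lit 0), (nat_lit 0), (nat_lit 1), (nat_lit 1), (nat_lit 0), (nat_lit 1)], [(nat_lit 2), (nat_lit 2), (nat_lit 0), (nat_lit 2), (nat_lit 2), (nat_lit 0), (nat_lit 2)], [(nat_lit 0), (nat_lit 0), (nat_lit 2), (nat_lit 0), (nat_lit 0), (nat_lit 0), (nat_lit 0)], [(nat_lit 2), (nat_lit 0), (nat_lit 0), (nat_lit 1), (nat_lit 2), (nat_lit 0), (nat_lit 2)], [(nat_lit 0), (nat_lit 0), (nat_lit 0), (nat_lit 0), (nat_lit 2), (nat_lit 0), (nat_lit 0)], [(nat_lit 0), (nat_lit 0), (nat_lit 0), (nat_lit 0), (nat_lit 0), (nat_lit 2), (nat_lit 0)], [(nat_lit 2), (nat_lit 0), (nat_lit 0), (nat_lit 2), (nat_lit 2), (nat_lit 0), (nat_lit 1)]],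
  [[(nat_lit 2), (nat_lit 0), (nat_lit 0), (nat_lit 0), (nat_lit 0), (nat_lit 0), (nat_lit 0)], [(nat_lit 0), (nat_lit 1), (nat_lit 0), (nat_lit 2), (nat_lit 2), (nat_lit 1), (nat_lit 2)], [(nat_lit 0), (nat_lit 1), (nat_lit 2), (nat_lit 1), (nat_lit 1), (nat_lit 2), (nat_lit 1)], [(nat_lit 0), (nat_lit 2), (nat_lit 0), (nat_lit 1), (nat_lit 2), (nat_lit 1), (nat_lit 2)], [(nat_lit 0), (nat_lit 2), (nat_lit 0), (nat_lit 2), (nat_lit 1), (nat_lit 1), (nat_lit 2)], [(nat_lit 0), (nat_lit 0), (nat_lit 0), (nat_lit 0), (nat_lit 0), (nat_lit 2), (nat_lit 0)], [(nat_lit 0), (nat_lit 2), (nat_lit 0), (nat_lit 2), (nat_lit 2), (nat_lit 1), (nat_lit 1)]],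
  [[(nat_lit 2), (nat_lit 0), (nat_lit 0), (nat_lit 0), (nat_lit 0), (nat_lit 0), (nat_lit 0)], [(nat_lit 0), (nat_lit 0), (nat_lit 2), (nat_lit 0), (nat_lit 2), (nat_lit 0), (nat_lit 1)], [(nat_lit 0), (nat_lit 0), (nat_lit 2), (nat_lit 0), (nat_lit 0), (nat_lit 0), (nat_lit 0)], [(nat_lit 0), (nat_lit 2), (nat_lit 1), (nat_lit 2), (nat_lit 1), (nat_lit 0), (nat_lit 2)], [(nat_lit 0), (nat_lit 2), (nat_lit 1), (nat_lit 0), (nat_lit 0), (nat_lit 0), (nat_lit 2)], [(nat_lit 0), (nat_lit 1), (nat_lit 2), (nat_lit 0), (nat_lit 2), (nat_lit 2), (nat_lit 1)], [(nat_lit 0), (nat_lit 0), (nat_lit 0), (nat_lit 0), (nat_lit 0), (nat_lit 0), (nat_lit 2)]],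
  [[(nat_lit 2), (nat_lit 0), (nat_lit 0), (nat_lit 0), (nat_lit 0), (nat_lit 0), (nat_lit 0)], [(nat_lit 0), (nat_lit 2), (nat_lit 0), (nat_lit 0), (nat_lit 0), (nat_lit 0), (nat_lit 0)], [(nat_lit 0), (nat_lit 1), (nat_lit 0), (nat_lit 0), (nat_lit 0), (nat_lit 2), (nat_lit 2)], [(nat_lit 0), (nat_lit 1), (nat_lit 1), (nat_lit 2), (nat_lit 0), (nat_lit 2), (nat_lit 2)], [(nat_lit 0), (nat_lit 2), (nat_lit 2), (nat_lit 0), (nat_lit 2), (nat_lit 1), (nat_lit 1)], [(nat_lit 0), (nat_lit 2), (nat_lit 2), (nat_lit 0), (nat_lit 0), (nat_lit 0), (nat_lit 1)], [(nat_lit 0), (nat_lit 0), (nat_lit 0), (nat_lit 0), (nat_lit 0), (nat_lit 0), (nat_lit 2)]]]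
noncomputable def o_C : List (List Nat) := [[(nat_lit 0), (nat_lit 0x2010200184144001822004880081440810088100081098001000aa83060031040000840400144290112008), (nat_lit 0x7fdfefdffe7bebbffe7ddffb77ff7ebbf7eff77efff7ef67ffefff557cf9ffcefbffff7bfbffebbd6feedff7)],
  [(nat_lit 0), (nat_lit 0x50fd2a95f22a93b1be39a8003c55f1284e1318149b428531a839464d3045f3e0821c194f488147ad0926679b), (nat_lit 0x2f02d56a0dd56c4e41c657ffc3aa0ed7b1ece7eb64bd7ace57c6b9b2cfba0c1f7de3e6b0b77eb852f6d99864)],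
  [(nat_lit 0), (nat_lit 0x100302083d318ae98f09ccb97379ae17041331771b2e67864b080253b722b3d07267643712a6a24108b2cf26), (nat_lit 0x6ffcfdf7c2ce751670f633468c8651e8fbecce88e4d19879b4f7fdac48dd4c2f8d989bc8ed595dbef74d30d9)],
  [(nat_lit 0), (nat_lit 0x33c3cda6e42b82bf88ac35394a86427229a49715f84c3143dca02d456878c98b22449308c364a25045874b72), (nat_lit 0x4c3c32591bd47d407753cac6b579bd8dd65b68ea07b3cebc235fd2ba97873674ddbb6cf73c9b5dafba78b48d)],
  [(nat_lit 0), (nat_lit 0x10050100104100005802042880009c18814808002080014009080288a0000b1010020100011b420a0100050), (nat_lit 0x7effafeffefbeffffa7fdfbd77fff63e77eb7f7ffdf7ffebff6f7fd775ffff4efeffdfefffee4bdf5fefffaf)],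
  [(nat_lit 0), (nat_lit 0x2054140480104001002006080004c198100a01040102040490010280000004040000341011942210112158), (nat_lit 0x7fdfabebfb7fefbffeffdff9f7fffb3e67eff5fefbfefdfbfb6ffefd7ffffffbfbffffcbefee6bddefeedea7)],
  [(nat_lit 0), (nat_lit 0x404000000200000000002810000008000000102800000802008060000800000003000200010000010), (nat_lit 0x7ffffffbfbffffffdffffffffffd7effffff7ffffffefd7fffff7fdff7f9ffff7fffffffcfffdfffefffffef)]]
noncomputable def o_B : List (List Nat) := [[(nat_lit 1), (nat_lit 0), (nat_lit 0), (nat_lit 0), (nat_lit 0), (nat_lit 0), (nat_lit 0)], [(nat_lit 0), (nat_lit 0), (nat_lit 0), (nat_lit 0), (nat_lit 1), (nat_lit 0), (nat_lit 0)], [(nat_lit 0), (nat_lit 0), (nat_lit 0), (nat_lit 0), (nat_lit 0), (nat_lit 1), (nat_lit 0)], [(nat_lit 0), (nat_lit 0), (nat_lit 0), (nat_lit 0), (nat_lit 0), (nat_lit 0), (nat_lit 1)], [(nat_lit 0), (nat_lit 0), (nat_lit 0), (nat_lit 0), (nat_lit 0), (nat_lit 0), (nat_lit 0)], [(nat_lit 0), (nat_lit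 0), (nat_lit 0), (nat_lit 0), (nat_lit 0), (nat_lit 0), (nat_lit 0)], [(nat_lit 0), (nat_lit 0), (nat_lit 0), (nat_lit 0), (nat_lit 0), (nat_lit 0), (nat_lit 0)]]
noncomputable def o_X : List (List (List (List Nat))) := [[[[(nat_lit 0), (nat_lit 2), (nat_lit 0), (nat_lit 2), (nat_lit 0), (nat_lit 1), (nat_lit 2)], [(nat_lit 0), (nat_lit 0), (nat_lit 1), (nat_lit 1), (nat_lit 0), (nat_lit 0), (nat_lit 0)], [(nat_lit 2), (nat_lit 1), (nat_lit 2), (nat_lit 0), (nat_lit 0), (nat_lit 1), (nat_lit 2)], [(nat_lit 1), (nat_lit 0), (nat_lit 1), (nat_lit 0), (nat_lit 0), (nat_lit 2), (nat_lit 1)], [(nat_lit 1), (nat_lit 2), (nat_lit 2), (nat_lit 2), (nat_lit 0), (nat_lit 1), (nat_lit 0)], [(nat_lit 0), (nat_lit 2), (nat_lit 1), (nat_lit 2), (nat_lit 1), (nat_lit 2), (nat_lit 1)], [(nat_lit 1), (nat_lit 2), (nat_lit 2), (nat_lit 1), (nat_lit 1), (nat_lit 0), (nat_lit 0)]],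
  [[(nat_lit 1), (nat_lit 0), (nat_lit 0), (nat_lit 2), (nat_lit 1), (nat_lit 0), (nat_lit 0)], [(nat_lit 2), (nat_lit 2), (nat_lit 2), (nat_lit 2), (nat_lit 0), (nat_lit 1), (nat_lit 0)], [(nat_lit 0), (nat_lit 0), (nat_lit 0), (nat_lit 2), (nat_lit 1), (nat_lit 2), (nat_lit 0)], [(nat_lit 0), (nat_lit 0), (nat_lit 0), (nat_lit 1), (nat_lit 0), (nat_lit 0), (nat_lit 0)], [(nat_lit 0), (nat_lit 0), (nat_lit 0), (nat_lit 2), (nat_lit 2), (nat_lit 0), (nat_lit 0)], [(nat_lit 0), (nat_lit 0), (nat_lit 2), (nat_lit 1), (nat_lit 2), (nat_lit 0), (nat_lit 0)], [(nat_lit 1), (nat_lit 2), (nat_lit 1), (nat_lit 2), (nat_lit 2), (nat_lit 2), (nat_lit 1)]],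
  [[(nat_lit 0), (nat_lit 2), (nat_lit 0), (nat_lit 2), (nat_lit 0), (nat_lit 1), (nat_lit 2)], [(nat_lit 0), (nat_lit 0), (nat_lit 1), (nat_lit 1), (nat_lit 0), (nat_lit 0), (nat_lit 0)], [(nat_lit 2), (nat_lit 1), (nat_lit 2), (nat_lit 0), (nat_lit 0), (nat_lit 1), (nat_lit 2)], [(nat_lit 1), (nat_lit 0), (nat_lit 1), (nat_lit 0), (nat_lit 0), (nat_lit 2), (nat_lit 1)], [(nat_lit 1), (nat_lit 2), (nat_lit 2), (nat_lit 2), (nat_lit 0), (nat_lit 1), (nat_lit 0)], [(nat_lit 0), (nat_lit 2), (nat_lit 1), (nat_lit 2), (nat_lit 1), (nat_lit 2), (nat_lit 1)], [(nat_lit 1), (nat_lit 2), (nat_lit 2), (nat_lit 1), (nat_lit 1), (nat_lit 0), (nat_lit 0)]],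
  [[(nat_lit 1), (nat_lit 0), (nat_lit 0), (nat_lit 2), (nat_lit 1), (nat_lit 0), (nat_lit 0)], [(nat_lit 2), (nat_lit 2), (nat_lit 2), (nat_lit 2), (nat_lit 0), (nat_lit 1), (nat_lit 0)], [(nat_lit 0), (nat_lit 0), (nat_lit 0), (nat_lit 2), (nat_lit 1), (nat_lit 2), (nat_lit 0)], [(nat_lit 0), (nat_lit 0), (nat_lit 0), (nat_lit 1), (nat_lit 0), (nat_lit 0), (nat_lit 0)], [(nat_lit 0), (nat_lit 0), (nat_lit 0), (nat_lit 2), (nat_lit 2), (nat_lit 0), (nat_lit 0)], [(nat_lit 0), (nat_lit 0), (nat_lit 2), (nat_lit 1), (nat_lit 2), (nat_lit 0), (nat_lit 0)], [(nat_lit 1), (nat_lit 2), (nat_lit 1), (nat_lit 2), (nat_lit 2), (nat_lit 2), (nat_lit 1)]]],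
  [[[(nat_lit 0), (nat_lit 2), (nat_lit 1), (nat_lit 0), (nat_lit 1), (nat_lit 2), (nat_lit 1)], [(nat_lit 2), (nat_lit 1), (nat_lit 0), (nat_lit 0), (nat_lit 2), (nat_lit 1), (nat_lit 2)], [(nat_lit 1), (nat_lit 0), (nat_lit 1), (nat_lit 0), (nat_lit 1), (nat_lit 2), (nat_lit 1)], [(nat_lit 2), (nat_lit 2), (nat_lit 1), (nat_lit 0), (nat_lit 2), (nat_lit 1), (nat_lit 1)], [(nat_lit 1), (nat_lit 1), (nat_lit 2), (nat_lit 2), (nat_lit 1), (nat_lit 0), (nat_lit 2)], [(nat_lit 2), (nat_lit 2), (nat_lit 1), (nat_lit 1), (nat_lit 0), (nat_lit 1), (nat_lit 1)], [(nat_lit 0), (nat_lit 2), (nat_lit 1), (nat_lit 2), (nat_lit 0), (nat_lit 0), (nat_lit 0)]],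
  [[(nat_lit 0), (nat_lit 2), (nat_lit 1), (nat_lit 1), (nat_lit 1), (nat_lit 0), (nat_lit 2)], [(nat_lit 2), (nat_lit 0), (nat_lit 2), (nat_lit 2), (nat_lit 2), (nat_lit 2), (nat_lit 2)], [(nat_lit 0), (nat_lit 0), (nat_lit 0), (nat_lit 2), (nat_lit 2), (nat_lit 1), (nat_lit 0)], [(nat_lit 1), (nat_lit 2), (nat_lit 1), (nat_lit 2), (nat_lit 2), (nat_lit 0), (nat_lit 2)], [(nat_lit 1), (nat_lit 2), (nat_lit 1), (nat_lit 1), (nat_lit 0), (nat_lit 0), (nat_lit 2)], [(nat_lit 2), (nat_lit 1), (nat_lit 0), (nat_lit 0), (nat_lit 2), (nat_lit 0), (nat_lit 1)], [(nat_lit 2), (nat_lit 1), (nat_lit 0), (nat_lit 0), (nat_lit 2), (nat_lit 2), (nat_lit 2)]],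
  [[(nat_lit 0), (nat_lit 2), (nat_lit 1), (nat_lit 0), (nat_lit 1), (nat_lit 2), (nat_lit 1)], [(nat_lit 2), (nat_lit 1), (nat_lit 0), (nat_lit 0), (nat_lit 2), (nat_lit 1), (nat_lit 2)], [(nat_lit 1), (nat_lit 0), (nat_lit 1), (nat_lit 0), (nat_lit 1), (nat_lit 2), (nat_lit 1)], [(nat_lit 2), (nat_lit 2), (nat_lit 1), (nat_lit 0), (nat_lit 2), (nat_lit 1), (nat_lit 1)], [(nat_lit 1), (nat_lit 1), (nat_lit 2), (nat_lit 2), (nat_lit 1), (nat_lit 0), (nat_lit 2)], [(nat_lit 2), (nat_lit 2), (nat_lit 1), (nat_lit 1), (nat_lit 0), (nat_lit 1), (nat_lit 1)], [(nat_lit 0), (nat_lit 2), (nat_lit 1), (nat_lit 2), (nat_lit 0), (nat_lit 0), (nat_lit 0)]],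
  [[(nat_lit 0), (nat_lit 2), (nat_lit 1), (nat_lit 1), (nat_lit 1), (nat_lit 0), (nat_lit 2)], [(nat_lit 2), (nat_lit 0), (nat_lit 2), (nat_lit 2), (nat_lit 2), (nat_lit 2), (nat_lit 2)], [(nat_lit 0), (nat_lit 0), (nat_lit 0), (nat_lit 2), (nat_lit 2), (nat_lit 1), (nat_lit 0)], [(nat_lit 1), (nat_lit 2), (nat_lit 1), (nat_lit 2), (nat_lit 2), (nat_lit 0), (nat_lit 2)], [(nat_lit 1), (nat_lit 2), (nat_lit 1), (nat_lit 1), (nat_lit 0), (nat_lit 0), (nat_lit 2)], [(nat_lit 2), (nat_lit 1), (nat_lit 0), (nat_lit 0), (nat_lit 2), (nat_lit 0), (nat_lit 1)], [(nat_lit 2), (nat_lit 1), (nat_lit 0), (nat_lit 0), (nat_lit 2), (nat_lit 2), (nat_lit 2)]]],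
  [[[(nat_lit 0), (nat_lit 1), (nat_lit 2), (nat_lit 1), (nat_lit 2), (nat_lit 1), (nat_lit 0)], [(nat_lit 1), (nat_lit 2), (nat_lit 0), (nat_lit 1), (nat_lit 1), (nat_lit 2), (nat_lit 0)], [(nat_lit 2), (nat_lit 0), (nat_lit 2), (nat_lit 0), (nat_lit 2), (nat_lit 1), (nat_lit 0)], [(nat_lit 0), (nat_lit 0), (nat_lit 0), (nat_lit 1), (nat_lit 0), (nat_lit 0), (nat_lit 0)], [(nat_lit 2), (nat_lit 1), (nat_lit 2), (nat_lit 0), (nat_lit 2), (nat_lit 0), (nat_lit 0)], [(nat_lit 1), (nat_lit 2), (nat_lit 1), (nat_lit 1), (nat_lit 0), (nat_lit 2), (nat_lit 0)], [(nat_lit 2), (nat_lit 0), (nat_lit 1), (nat_lit 2), (nat_lit 1), (nat_lit 0), (nat_lit 1)]],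
  [[(nat_lit 0), (nat_lit 2), (nat_lit 0), (nat_lit 1), (nat_lit 2), (nat_lit 2), (nat_lit 0)], [(nat_lit 1), (nat_lit 1), (nat_lit 0), (nat_lit 1), (nat_lit 2), (nat_lit 2), (nat_lit 0)], [(nat_lit 1), (nat_lit 1), (nat_lit 1), (nat_lit 0), (nat_lit 2), (nat_lit 0), (nat_lit 1)], [(nat_lit 0), (nat_lit 1), (nat_lit 0), (nat_lit 0), (nat_lit 0), (nat_lit 1), (nat_lit 1)], [(nat_lit 1), (nat_lit 0), (nat_lit 0), (nat_lit 2), (nat_lit 1), (nat_lit 1), (nat_lit 1)], [(nat_lit 0), (nat_lit 0), (nat_lit 0), (nat_lit 0), (nat_lit 0), (nat_lit 1), (nat_lit 0)], [(nat_lit 2), (nat_lit 2), (nat_lit 0), (nat_lit 0), (nat_lit 1), (nat_lit 0), (nat_lit 0)]],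
  [[(nat_lit 0), (nat_lit 1), (nat_lit 2), (nat_lit 1), (nat_lit 2), (nat_lit 1), (nat_lit 0)], [(nat_lit 1), (nat_lit 2), (nat_lit 0), (nat_lit 1), (nat_lit 1), (nat_lit 2), (nat_lit 0)], [(nat_lit 2), (nat_lit 0), (nat_lit 2), (nat_lit 0), (nat_lit 2), (nat_lit 1), (nat_lit 0)], [(nat_lit 0), (nat_lit 0), (nat_lit 0), (nat_lit 1), (nat_lit 0), (nat_lit 0), (nat_lit 0)], [(nat_lit 2), (nat_lit 1), (nat_lit 2), (nat_lit 0), (nat_lit 2), (nat_lit 0), (nat_lit 0)], [(nat_lit 1), (nat_lit 2), (nat_lit 1), (nat_lit 1), (nat_lit 0), (nat_lit 2), (nat_lit 0)], [(nat_lit 2), (nat_lit 0), (nat_lit 1), (nat_lit 2), (nat_lit 1), (nat_lit 0), (nat_lit 1)]],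
  [[(nat_lit 0), (nat_lit 2), (nat_lit 0), (nat_lit 1), (nat_lit 2), (nat_lit 2), (nat_lit 0)], [(nat_lit 1), (nat_lit 1), (nat_lit 0), (nat_lit 1), (nat_lit 2), (nat_lit 2), (nat_lit 0)], [(nat_lit 1), (nat_lit 1), (nat_lit 1), (nat_lit 0), (nat_lit 2), (nat_lit 0), (nat_lit 1)], [(nat_lit 0), (nat_lit 1), (nat_lit 0), (nat_lit 0), (nat_lit 0), (nat_lit 1), (nat_lit 1)], [(nat_lit 1), (nat_lit 0), (nat_lit 0), (nat_lit 2), (nat_lit 1), (nat_lit 1), (nat_lit 1)], [(nat_lit 0), (nat_lit 0), (nat_lit 0), (nat_lit 0), (nat_lit 0), (nat_lit 1), (nat_lit 0)], [(nat_lit 2), (nat_lit 2), (nat_lit 0), (nat_lit 0), (nat_lit 1), (nat_lit 0), (nat_lit 0)]]],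
  [[[(nat_lit 1), (nat_lit 0), (nat_lit 1), (nat_lit 0), (nat_lit 0), (nat_lit 0), (nat_lit 0)], [(nat_lit 0), (nat_lit 2), (nat_lit 1), (nat_lit 1), (nat_lit 1), (nat_lit 0), (nat_lit 1)], [(nat_lit 0), (nat_lit 0), (nat_lit 2), (nat_lit 0), (nat_lit 0), (nat_lit 0), (nat_lit 0)], [(nat_lit 0), (nat_lit 1), (nat_lit 0), (nat_lit 2), (nat_lit 1), (nat_lit 0), (nat_lit 1)], [(nat_lit 0), (nat_lit 1), (nat_lit 1), (nat_lit 1), (nat_lit 2), (nat_lit 0), (nat_lit 1)], [(nat_lit 2), (nat_lit 1), (nat_lit 2), (nat_lit 1), (nat_lit 1), (nat_lit 2), (nat_lit 0)], [(nat_lit 0), (nat_lit 1), (nat_lit 1), (nat_lit 1), (nat_lit 1), (nat_lit 0), (nat_lit 2)]],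
  [[(nat_lit 2), (nat_lit 1), (nat_lit 1), (nat_lit 2), (nat_lit 1), (nat_lit 0), (nat_lit 1)], [(nat_lit 2), (nat_lit 1), (nat_lit 2), (nat_lit 0), (nat_lit 2), (nat_lit 0), (nat_lit 2)], [(nat_lit 0), (nat_lit 2), (nat_lit 1), (nat_lit 1), (nat_lit 0), (nat_lit 0), (nat_lit 0)], [(nat_lit 2), (nat_lit 2), (nat_lit 2), (nat_lit 2), (nat_lit 2), (nat_lit 0), (nat_lit 2)], [(nat_lit 2), (nat_lit 1), (nat_lit 0), (nat_lit 2), (nat_lit 1), (nat_lit 2), (nat_lit 2)], [(nat_lit 2), (nat_lit 0), (nat_lit 2), (nat_lit 0), (nat_lit 2), (nat_lit 1), (nat_lit 2)], [(nat_lit 1), (nat_lit 2), (nat_lit 0), (nat_lit 1), (nat_lit 0), (nat_lit 1), (nat_lit 2)]],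
  [[(nat_lit 1), (nat_lit 0), (nat_lit 1), (nat_lit 0), (nat_lit 0), (nat_lit 0), (nat_lit 0)], [(nat_lit 0), (nat_lit 2), (nat_lit 1), (nat_lit 1), (nat_lit 1), (nat_lit 0), (nat_lit 1)], [(nat_lit 0), (nat_lit 0), (nat_lit 2), (nat_lit 0), (nat_lit 0), (nat_lit 0), (nat_lit 0)], [(nat_lit 0), (nat_lit 1), (nat_lit 0), (nat_lit 2), (nat_lit 1), (nat_lit 0), (nat_lit 1)], [(nat_lit 0), (nat_lit 1), (nat_lit 1), (nat_lit 1), (nat_lit 2), (nat_lit 0), (nat_lit 1)], [(nat_lit 2), (nat_lit 1), (nat_lit 2), (nat_lit 1), (nat_lit 1), (nat_lit 2), (nat_lit 0)], [(nat_lit 0), (nat_lit 1), (nat_lit 1), (nat_lit 1), (nat_lit 1), (nat_lit 0), (nat_lit 2)]],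
  [[(nat_lit 2), (nat_lit 1), (nat_lit 1), (nat_lit 2), (nat_lit 1), (nat_lit 0), (nat_lit 1)], [(nat_lit 2), (nat_lit 1), (nat_lit 2), (nat_lit 0), (nat_lit 2), (nat_lit 0), (nat_lit 2)], [(nat_lit 0), (nat_lit 2), (nat_lit 1), (nat_lit 1), (nat_lit 0), (nat_lit 0), (nat_lit 0)], [(nat_lit 2), (nat_lit 2), (nat_lit 2), (nat_lit 2), (nat_lit 2), (nat_lit 0), (nat_lit 2)], [(nat_lit 2), (nat_lit 1), (nat_lit 0), (nat_lit 2), (nat_lit 1), (nat_lit 2), (nat_lit 2)], [(nat_lit 2), (nat_lit 0), (nat_lit 2), (nat_lit 0), (nat_lit 2), (nat_lit 1), (nat_lit 2)], [(nat_lit 1), (nat_lit 2), (nat_lit 0), (nat_lit 1), (nat_lit 0), (nat_lit 1), (nat_lit 2)]]],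
  [[[(nat_lit 0), (nat_lit 2), (nat_lit 0), (nat_lit 0), (nat_lit 2), (nat_lit 2), (nat_lit 2)], [(nat_lit 1), (nat_lit 0), (nat_lit 0), (nat_lit 2), (nat_lit 1), (nat_lit 0), (nat_lit 1)], [(nat_lit 1), (nat_lit 2), (nat_lit 0), (nat_lit 1), (nat_lit 0), (nat_lit 1), (nat_lit 2)], [(nat_lit 1), (nat_lit 0), (nat_lit 0), (nat_lit 2), (nat_lit 1), (nat_lit 2), (nat_lit 1)], [(nat_lit 1), (nat_lit 2), (nat_lit 1), (nat_lit 0), (nat_lit 0), (nat_lit 2), (nat_lit 0)], [(nat_lit 0), (nat_lit 1), (nat_lit 0), (nat_lit 2), (nat_lit 0), (nat_lit 0), (nat_lit 0)], [(nat_lit 0), (nat_lit 0), (nat_lit 2), (nat_lit 2), (nat_lit 2), (nat_lit 1), (nat_lit 2)]],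
  [[(nat_lit 2), (nat_lit 1), (nat_lit 1), (nat_lit 1), (nat_lit 0), (nat_lit 1), (nat_lit 2)], [(nat_lit 0), (nat_lit 1), (nat_lit 1), (nat_lit 2), (nat_lit 0), (nat_lit 2), (nat_lit 2)], [(nat_lit 2), (nat_lit 1), (nat_lit 0), (nat_lit 0), (nat_lit 2), (nat_lit 0), (nat_lit 2)], [(nat_lit 1), (nat_lit 0), (nat_lit 1), (nat_lit 0), (nat_lit 2), (nat_lit 2), (nat_lit 0)], [(nat_lit 2), (nat_lit 2), (nat_lit 0), (nat_lit 1), (nat_lit 1), (nat_lit 1), (nat_lit 0)], [(nat_lit 2), (nat_lit 0), (nat_lit 1), (nat_lit 2), (nat_lit 1), (nat_lit 0), (nat_lit 1)], [(nat_lit 2), (nat_lit 1), (nat_lit 2), (nat_lit 0), (nat_lit 2), (nat_lit 0), (nat_lit 0)]],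
  [[(nat_lit 0), (nat_lit 2), (nat_lit 0), (nat_lit 0), (nat_lit 2), (nat_lit 2), (nat_lit 2)], [(nat_lit 1), (nat_lit 0), (nat_lit 0), (nat_lit 2), (nat_lit 1), (nat_lit 0), (nat_lit 1)], [(nat_lit 1), (nat_lit 2), (nat_lit 0), (nat_lit 1), (nat_lit 0), (nat_lit 1), (nat_lit 2)], [(nat_lit 1), (nat_lit 0), (nat_lit 0), (nat_lit 2), (nat_lit 1), (nat_lit 2), (nat_lit 1)], [(nat_lit 1), (nat_lit 2), (nat_lit 1), (nat_lit 0), (nat_lit 0), (nat_lit 2), (nat_lit 0)], [(nat_lit 0), (nat_lit 1), (nat_lit 0), (nat_lit 2), (nat_lit 0), (nat_lit 0), (nat_lit 0)], [(nat_lit 0), (nat_lit 0), (nat_lit 2), (nat_lit 2), (nat_lit 2), (nat_lit 1), (nat_lit 2)]],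
  [[(nat_lit 2), (nat_lit 1), (nat_lit 1), (nat_lit 1), (nat_lit 0), (nat_lit 1), (nat_lit 2)], [(nat_lit 0), (nat_lit 1), (nat_lit 1), (nat_lit 2), (nat_lit 0), (nat_lit 2), (nat_lit 2)], [(nat_lit 2), (nat_lit 1), (nat_lit 0), (nat_lit 0), (nat_lit 2), (nat_lit 0), (nat_lit 2)], [(nat_lit 1), (nat_lit 0), (nat_lit 1), (nat_lit 0), (nat_lit 2), (nat_lit 2), (nat_lit 0)], [(nat_lit 2), (nat_lit 2), (nat_lit 0), (nat_lit 1), (nat_lit 1), (nat_lit 1), (nat_lit 0)], [(nat_lit 2), (nat_lit 0), (nat_lit 1), (nat_lit 2), (nat_lit 1), (nat_lit 0), (nat_lit 1)], [(nat_lit 2), (nat_lit 1), (nat_lit 2), (nat_lit 0), (nat_lit 2), (nat_lit 0), (nat_lit 0)]]],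
  [[[(nat_lit 0), (nat_lit 0), (nat_lit 0), (nat_lit 1), (nat_lit 0), (nat_lit 1), (nat_lit 1)], [(nat_lit 0), (nat_lit 1), (nat_lit 0), (nat_lit 2), (nat_lit 1), (nat_lit 0), (nat_lit 1)], [(nat_lit 2), (nat_lit 1), (nat_lit 0), (nat_lit 1), (nat_lit 0), (nat_lit 0), (nat_lit 2)], [(nat_lit 2), (nat_lit 2), (nat_lit 1), (nat_lit 1), (nat_lit 1), (nat_lit 2), (nat_lit 1)], [(nat_lit 0), (nat_lit 2), (nat_lit 1), (nat_lit 0), (nat_lit 1), (nat_lit 1), (nat_lit 2)], [(nat_lit 0), (nat_lit 1), (nat_lit 2), (nat_lit 0), (nat_lit 0), (nat_lit 0), (nat_lit 1)], [(nat_lit 2), (nat_lit 0), (nat_lit 0), (nat_lit 2), (nat_lit 2), (nat_lit 1), (nat_lit 1)]],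
  [[(nat_lit 2), (nat_lit 2), (nat_lit 1), (nat_lit 2), (nat_lit 2), (nat_lit 2), (nat_lit 0)], [(nat_lit 1), (nat_lit 0), (nat_lit 1), (nat_lit 2), (nat_lit 2), (nat_lit 2), (nat_lit 0)], [(nat_lit 1), (nat_lit 0), (nat_lit 1), (nat_lit 0), (nat_lit 2), (nat_lit 2), (nat_lit 0)], [(nat_lit 0), (nat_lit 2), (nat_lit 1), (nat_lit 0), (nat_lit 0), (nat_lit 0), (nat_lit 0)], [(nat_lit 1), (nat_lit 0), (nat_lit 2), (nat_lit 1), (nat_lit 0), (nat_lit 0), (nat_lit 2)], [(nat_lit 2), (nat_lit 2), (nat_lit 2), (nat_lit 1), (nat_lit 1), (nat_lit 1), (nat_lit 1)], [(nat_lit 1), (nat_lit 1), (nat_lit 1), (nat_lit 2), (nat_lit 2), (nat_lit 0), (nat_lit 0)]],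
  [[(nat_lit 0), (nat_lit 0), (nat_lit 0), (nat_lit 1), (nat_lit 0), (nat_lit 1), (nat_lit 1)], [(nat_lit 0), (nat_lit 1), (nat_lit 0), (nat_lit 2), (nat_lit 1), (nat_lit 0), (nat_lit 1)], [(nat_lit 2), (nat_lit 1), (nat_lit 0), (nat_lit 1), (nat_lit 0), (nat_lit 0), (nat_lit 2)], [(nat_lit 2), (nat_lit 2), (nat_lit 1), (nat_lit 1), (nat_lit 1), (nat_lit 2), (nat_lit 1)], [(nat_lit 0), (nat_lit 2), (nat_lit 1), (nat_lit 0), (nat_lit 1), (nat_lit 1), (nat_lit 2)], [(nat_lit 0), (nat_lit 1), (nat_lit 2), (nat_lit 0), (nat_lit 0), (nat_lit 0), (nat_lit 1)], [(nat_lit 2), (nat_lit 0), (nat_lit 0), (nat_lit 2), (nat_lit 2), (nat_lit 1), (nat_lit 1)]],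
  [[(nat_lit 2), (nat_lit 2), (nat_lit 1), (nat_lit 2), (nat_lit 2), (nat_lit 2), (nat_lit 0)], [(nat_lit 1), (nat_lit 0), (nat_lit 1), (nat_lit 2), (nat_lit 2), (nat_lit 2), (nat_lit 0)], [(nat_lit 1), (nat_lit 0), (nat_lit 1), (nat_lit 0), (nat_lit 2), (nat_lit 2), (nat_lit 0)], [(nat_lit 0), (nat_lit 2), (nat_lit 1), (nat_lit 0), (nat_lit 0), (nat_lit 0), (nat_lit 0)], [(nat_lit 1), (nat_lit 0), (nat_lit 2), (nat_lit 1), (nat_lit 0), (nat_lit 0), (nat_lit 2)], [(nat_lit 2), (nat_lit 2), (nat_lit 2), (nat_lit 1), (nat_lit 1), (nat_lit 1), (nat_lit 1)], [(nat_lit 1), (nat_lit 1), (nat_lit 1), (nat_lit 2), (nat_lit 2), (nat_lit 0), (nat_lit 0)]]],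
  [[[(nat_lit 0), (nat_lit 2), (nat_lit 1), (nat_lit 0), (nat_lit 0), (nat_lit 1), (nat_lit 0)], [(nat_lit 0), (nat_lit 1), (nat_lit 0), (nat_lit 0), (nat_lit 0), (nat_lit 0), (nat_lit 2)], [(nat_lit 2), (nat_lit 2), (nat_lit 2), (nat_lit 0), (nat_lit 0), (nat_lit 1), (nat_lit 2)], [(nat_lit 0), (nat_lit 0), (nat_lit 0), (nat_lit 2), (nat_lit 2), (nat_lit 2), (nat_lit 0)], [(nat_lit 1), (nat_lit 1), (nat_lit 2), (nat_lit 0), (nat_lit 1), (nat_lit 2), (nat_lit 0)], [(nat_lit 2), (nat_lit 2), (nat_lit 1), (nat_lit 0), (nat_lit 0), (nat_lit 2), (nat_lit 0)], [(nat_lit 0), (nat_lit 0), (nat_lit 0), (nat_lit 0), (nat_lit 0), (nat_lit 0), (nat_lit 2)]],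
  [[(nat_lit 1), (nat_lit 0), (nat_lit 1), (nat_lit 1), (nat_lit 0), (nat_lit 2), (nat_lit 1)], [(nat_lit 0), (nat_lit 2), (nat_lit 0), (nat_lit 2), (nat_lit 2), (nat_lit 0), (nat_lit 1)], [(nat_lit 1), (nat_lit 1), (nat_lit 0), (nat_lit 2), (nat_lit 0), (nat_lit 1), (nat_lit 1)], [(nat_lit 2), (nat_lit 1), (nat_lit 2), (nat_lit 1), (nat_lit 1), (nat_lit 1), (nat_lit 2)], [(nat_lit 0), (nat_lit 2), (nat_lit 2), (nat_lit 0), (nat_lit 2), (nat_lit 1), (nat_lit 1)], [(nat_lit 2), (nat_lit 2), (nat_lit 1), (nat_lit 1), (nat_lit 0), (nat_lit 0), (nat_lit 2)], [(nat_lit 2), (nat_lit 0), (nat_lit 1), (nat_lit 0), (nat_lit 2), (nat_lit 2), (nat_lit 1)]],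
  [[(nat_lit 0), (nat_lit 2), (nat_lit 1), (nat_lit 0), (nat_lit 0), (nat_lit 1), (nat_lit 0)], [(nat_lit 0), (nat_lit 1), (nat_lit 0), (nat_lit 0), (nat_lit 0), (nat_lit 0), (nat_lit 2)], [(nat_lit 2), (nat_lit 2), (nat_lit 2), (nat_lit 0), (nat_lit 0), (nat_lit 1), (nat_lit 2)], [(nat_lit 0), (nat_lit 0), (nat_lit 0), (nat_lit 2), (nat_lit 2), (nat_lit 2), (nat_lit 0)], [(nat_lit 1), (nat_lit 1), (nat_lit 2), (nat_lit 0), (nat_lit 1), (nat_lit 2), (nat_lit 0)], [(nat_lit 2), (nat_lit 2), (nat_lit 1), (nat_lit 0), (nat_lit 0), (nat_lit 2), (nat_lit 0)], [(nat_lit 0), (nat_lit 0), (nat_lit 0), (nat_lit 0), (nat_lit 0), (nat_lit 0), (nat_lit 2)]],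
  [[(nat_lit 1), (nat_lit 0), (nat_lit 1), (nat_lit 1), (nat_lit 0), (nat_lit 2), (nat_lit 1)], [(nat_lit 0), (nat_lit 2), (nat_lit 0), (nat_lit 2), (nat_lit 2), (nat_lit 0), (nat_lit 1)], [(nat_lit 1), (nat_lit 1), (nat_lit 0), (nat_lit 2), (nat_lit 0), (nat_lit 1), (nat_lit 1)], [(nat_lit 2), (nat_lit 1), (nat_lit 2), (nat_lit 1), (nat_lit 1), (nat_lit 1), (nat_lit 2)], [(nat_lit 0), (nat_lit 2), (nat_lit 2), (nat_lit 0), (nat_lit 2), (nat_lit 1), (nat_lit 1)], [(nat_lit 2), (nat_lit 2), (nat_lit 1), (nat_lit 1), (nat_lit 0), (nat_lit 0), (nat_lit 2)], [(nat_lit 2), (nat_lit 0), (nat_lit 1), (nat_lit 0), (nat_lit 2), (nat_lit 2), (nat_lit 1)]]]]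

theorem pn : comB N Q pa pd = false := by decide +kernel
theorem px : eq0 (lapp (rw w0 pa) (rw w0 pd)) L3.x0 = true := by decide +kernel
theorem k_tr : trOK N w0 k_p k_ps 4 L3.v0 = true := by decide +kernel
theorem k_hq : lall2 eq0 k_hs (rws w0 (k_p :: k_ps)) = true := by decide +kernel
theorem k_u_inc : incOK k_u_pi 31671 351 = true := by decide +kernel
theorem k_u_wf : wfAll k_u_N 351 = true := by decide +kernel
theorem k_u_tab_0 : allFrom (tabOK k_u_N 351 9 9 10 k_u_TT) 0 15 = true := by decide +kernel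
theorem k_u_tabs : Tabs k_u_N 351 10 9 k_u_TT 14 :=
  tabs_of (k := 9) (wf_of_wfAll k_u_wf) (by decide) (by decide) (by decide) (lt_add_all lt_zero_all 15 k_u_tab_0)
theorem k_u_s_0 : allFrom (subT (evT TT (nat_lit 56) (nat_lit 10) (nat_lit 1023) (nat_lit 15) (nat_lit 32767)) (recT k_u_TT (nat_lit 10) (nat_lit 1023) (nat_lit 9) (nat_lit 511)) k_u_pi k_hs (nat_lit 351)) 0 7 = true := by decide +kernel
theorem k_in : ptsIn k_u_pi L3.v0 351 = true := by decide +kernel
theorem k_u_cgok : cgOK k_u_N 351 k_u_cg 4585351680 = true := by decide +kernel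
theorem r_la : linAll (tabP 3) 351 7 r_V r_As k_u_N r_C 7 = true := by decide +kernel
theorem r_lin : LinOK (tabP 3) 351 7 7 r_V r_As k_u_N :=
  ⟨⟨r_s, by decide +kernel⟩, by decide +kernel, k_u_wf, rfl,
    r_C, by decide +kernel, rfl, linAll_iff.1 r_la⟩
theorem r_eq : Nonempty (PG k_u_N ≃* PRefl 7) :=
  PG.equiv (LinOK.hasPRefl r_lin (by decide) (vs := r_vs) (by decide +kernel)) (by decide) k_u_cgok card_PRefl7
theorem o_la : linAll (tabP 3) 351 7 o_V o_As k_u_N o_C 7 = true := by decide +kernel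
theorem o_lin : LinOK (tabP 3) 351 7 7 o_V o_As k_u_N :=
  ⟨⟨o_s, by decide +kernel⟩, by decide +kernel, k_u_wf, rfl,
    o_C, by decide +kernel, rfl, linAll_iff.1 o_la⟩
theorem o_om : allFrom (omAt (tabP 3) 7 o_B o_As o_X) 0 7 = true := by decide +kernel
theorem o_eq : Nonempty (PG k_u_N ≃* Cfsg.POmega (ZMod 3) (Cfsg.quadFormOdd 3 (ZMod 3))) :=
  PG.equiv (o_lin.hasReps_POmega (tabP_ok _ 3 (by decide)) (εo 3) (Q := CF.Geom.qOdd 3 (ZMod 3)) (CF.Geom.qOdd_nondegenerate (by decide) 3)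
    (by decide) (hQ_odd (by decide +kernel)) o_om) (by decide) k_u_cgok CF.Comp.Fi22.card_O7.le

variable {G : Type*} [Group G] {D : Set G} {E : Dom (Cj G) 31671} {f : ℕ → G} {NN : List Net}

open Cfsg Matrix

theorem k_u_reps (M : M23 D E f) : Reps (Dom.lst E k_u_pi k_u_inc) k_u_N (evs f k_hs) :=
  Reps.subT M.reps tabs (by decide) (wf_of_wfAll k_u_wf) k_u_tabs (l := 7) (by decide) rfl rfl k_u_inc
    (by decide) (by decide) (by decide) (by decide) (lt_add_all lt_zero_all 7 k_u_s_0)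

theorem pair (M : M23 D E f) : cw0 f w0 pa * cw0 f w0 pd = ev f L3.x0 := M.sm0.mul_eq px

theorem nc (M : M23 D E f) : ¬ Commute (cw0 f w0 pa) (cw0 f w0 pd) := fun c => by simpa [M.comB_iff.2 c] using pn

theorem py (M : M23 D E f) : PY D (cw0 f w0 pa) (cw0 f w0 pd) = sv E L3.v0 := by
  rw [← py_eq M.grp.1 (M.cw0_mem _) (M.cw0_mem _) (nc M), pair M, L3.fix0 M]

theorem le (M : M23 D E f) : Nat.card (normalizer (zpowers (cw0 f w0 pa * cw0 f w0 pd) : Set G)) ≤ 6 * 4585351680 :=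
  pair M ▸ N3.le0 M

theorem le' (M : M23 D E f) : Nat.card (closure (sv E L3.v0)) ≤ 4585351680 :=
  have := M.finite
  py M ▸ py_card_le M.grp.1 (M.cw0_mem _) (M.cw0_mem _) (nc M) (le M)

theorem wd (M : M23 D E f) : wdC D (zpowers (cw0 f w0 pa * cw0 f w0 pd)) = 7 := pair M ▸ L3.wd0 M

theorem pick (M : M23 D E f) {a d : G} (ha : a ∈ D) (hd : d ∈ D) (hn : ¬ Commute a d) :
    ∃ E' f', M23 D E' f' ∧ a = cw0 f' w0 pa ∧ d = cw0 f' w0 pd := by
  have := M.finite
  obtain ⟨g, rfl, rfl⟩ := M.npair M.primTT pn ha hd hn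
  exact ⟨_, _, M.conj g, cw0_cj g f _ _, cw0_cj g f _ _⟩

theorem kk (M : M23 D E f) : Nonempty (closure (sv E L3.v0) ≃* PG k_u_N) ∧ center (closure (sv E L3.v0)) = ⊥ ∧
    4585351680 ≤ Nat.card (closure (sv E L3.v0)) :=
  have := M.finite
  Reps.equiv_lst (k_u_reps M) (by decide) k_u_cgok k_in ((M.sm0.clo_eq k_hq).trans (M.tr k_tr).1) (le' M)

theorem refl (M : M23 D E f) : IsProjReflectionGroupModThree (closure (sv E L3.v0)) 7 1 (-1) :=
  isPRefl_of ⟨(kk M).1.some.trans r_eq.some⟩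

theorem loc (M : M23 D E f) : IsProjReflectionGroupModThree
    (Loc (Dd D (cw0 f w0 pa) ∩ Dd D (cw0 f w0 pd))) 7 1 (-1) := by
  rw [py_Dd, py M]
  exact isPRefl_of ⟨(quotCenter (kk M).2.1).trans ((kk M).1.some.trans r_eq.some)⟩

theorem equiv (M : M23 D E f) : Nonempty (closure (sv E L3.v0) ≃* POmega (ZMod 3) (quadFormOdd 3 (ZMod 3))) :=
  ⟨(kk M).1.some.trans o_eq.some⟩

end CF.Fisch.F23.P0
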