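import Cfsg.Agent.Fisch.F23.Tb
import Cfsg.Agent.Fisch.St.Cw

set_option autoImplicit false
set_option maxRecDepth 1000000
set_option maxHeartbeats 0
set_option Elab.async false

namespace CF.Fisch.F23.L3

open CF.Comp CF.Fisch CF.Fisch.F23 Subgroup
open scoped Pointwise

noncomputable def x0 : List Nat := [(nat_lit 30)]
noncomputable def x1 : List Nat := [(nat_lit 39), (nat_lit 39)]
noncomputable def x2 : List Nat := [(nat_lit 51), (nat_lit 28), (nat_lit 9)]
noncomputable def x3 : List Nat := [(nat_lit 15), (nat_lit 9), (nat_lit 51), (nat_lit 27), (nat_lit 23)]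
noncomputable def a_gs : List (List Nat) := [[(nat_lit 19), (nat_lit 27), (nat_lit 11), (nat_lit 45), (nat_lit 30), (nat_lit 39), (nat_lit 15), (nat_lit 33), (nat_lit 30), (nat_lit 19), (nat_lit 1), (nat_lit 27), (nat_lit 27), (nat_lit 44), (nat_lit 27), (nat_lit 33), (nat_lit 39), (nat_lit 39), (nat_lit 47), (nat_lit 45), (nat_lit 49)],
  [(nat_lit 5), (nat_lit 47), (nat_lit 27), (nat_lit 45), (nat_lit 30), (nat_lit 47), (nat_lit 15), (nat_lit 34), (nat_lit 19), (nat_lit 39), (nat_lit 1), (nat_lit 40), (nat_lit 43), (nat_lit 29), (nat_lit 27), (nat_lit 45), (nat_lit 39), (nat_lit 33), (nat_lit 47), (nat_lit 40), (nat_lit 43), (nat_lit 47)],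
  [(nat_lit 41), (nat_lit 11), (nat_lit 40), (nat_lit 17), (nat_lit 29), (nat_lit 45), (nat_lit 15), (nat_lit 45), (nat_lit 3), (nat_lit 39), (nat_lit 34), (nat_lit 40), (nat_lit 48), (nat_lit 33), (nat_lit 41), (nat_lit 47), (nat_lit 39), (nat_lit 45), (nat_lit 43), (nat_lit 48)],
  [(nat_lit 37), (nat_lit 47), (nat_lit 27), (nat_lit 35), (nat_lit 41), (nat_lit 15), (nat_lit 44), (nat_lit 19), (nat_lit 5), (nat_lit 29), (nat_lit 41), (nat_lit 30), (nat_lit 27), (nat_lit 33), (nat_lit 45), (nat_lit 35), (nat_lit 33), (nat_lit 39), (nat_lit 44), (nat_lit 48), (nat_lit 48)],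
  [(nat_lit 23), (nat_lit 44), (nat_lit 15), (nat_lit 37), (nat_lit 35), (nat_lit 15), (nat_lit 19), (nat_lit 39), (nat_lit 51), (nat_lit 1), (nat_lit 35), (nat_lit 33), (nat_lit 27), (nat_lit 48), (nat_lit 40), (nat_lit 51), (nat_lit 43), (nat_lit 49)],
  [(nat_lit 27), (nat_lit 39), (nat_lit 19), (nat_lit 1), (nat_lit 27), (nat_lit 41), (nat_lit 34), (nat_lit 13), (nat_lit 15), (nat_lit 43), (nat_lit 29), (nat_lit 1), (nat_lit 44), (nat_lit 27), (nat_lit 44), (nat_lit 30), (nat_lit 43), (nat_lit 33), (nat_lit 37), (nat_lit 33)],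
  [(nat_lit 41), (nat_lit 45), (nat_lit 33), (nat_lit 45), (nat_lit 27), (nat_lit 39), (nat_lit 15), (nat_lit 3), (nat_lit 40), (nat_lit 29), (nat_lit 35), (nat_lit 28), (nat_lit 33), (nat_lit 39), (nat_lit 35), (nat_lit 33), (nat_lit 41), (nat_lit 48), (nat_lit 51)],
  [(nat_lit 11), (nat_lit 34), (nat_lit 49), (nat_lit 39), (nat_lit 27), (nat_lit 35), (nat_lit 15), (nat_lit 43), (nat_lit 30), (nat_lit 7), (nat_lit 5), (nat_lit 1), (nat_lit 44), (nat_lit 39), (nat_lit 28), (nat_lit 45), (nat_lit 39), (nat_lit 43), (nat_lit 33), (nat_lit 48), (nat_lit 43)],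
  [(nat_lit 30), (nat_lit 23), (nat_lit 28), (nat_lit 11), (nat_lit 17), (nat_lit 27), (nat_lit 39), (nat_lit 15), (nat_lit 27), (nat_lit 48), (nat_lit 19), (nat_lit 3), (nat_lit 34), (nat_lit 35), (nat_lit 30), (nat_lit 45), (nat_lit 44), (nat_lit 37), (nat_lit 33), (nat_lit 47), (nat_lit 39), (nat_lit 48)],
  [(nat_lit 13), (nat_lit 41), (nat_lit 27), (nat_lit 44), (nat_lit 39), (nat_lit 15), (nat_lit 30), (nat_lit 35), (nat_lit 1), (nat_lit 51), (nat_lit 28), (nat_lit 44), (nat_lit 28), (nat_lit 40), (nat_lit 48), (nat_lit 43), (nat_lit 49), (nat_lit 48)],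
  [(nat_lit 3), (nat_lit 27), (nat_lit 33), (nat_lit 11), (nat_lit 15), (nat_lit 40), (nat_lit 15), (nat_lit 33), (nat_lit 28), (nat_lit 1), (nat_lit 44), (nat_lit 30), (nat_lit 48), (nat_lit 28), (nat_lit 45), (nat_lit 41), (nat_lit 43), (nat_lit 51), (nat_lit 23)],
  [(nat_lit 27), (nat_lit 44), (nat_lit 28), (nat_lit 33), (nat_lit 39), (nat_lit 37), (nat_lit 15), (nat_lit 30), (nat_lit 1), (nat_lit 33), (nat_lit 1), (nat_lit 41), (nat_lit 33), (nat_lit 28), (nat_lit 30), (nat_lit 45), (nat_lit 33), (nat_lit 41), (nat_lit 44), (nat_lit 23)],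
  [(nat_lit 47), (nat_lit 40), (nat_lit 33), (nat_lit 33), (nat_lit 9), (nat_lit 29), (nat_lit 15), (nat_lit 44), (nat_lit 15), (nat_lit 17), (nat_lit 39), (nat_lit 30), (nat_lit 1), (nat_lit 37), (nat_lit 27), (nat_lit 40), (nat_lit 30), (nat_lit 40), (nat_lit 40), (nat_lit 37), (nat_lit 33), (nat_lit 39), (nat_lit 44)]]
noncomputable def a_zs : List (List Nat) := [[(nat_lit 29), (nat_lit 39), (nat_lit 29), (nat_lit 27), (nat_lit 35), (nat_lit 15), (nat_lit 48), (nat_lit 17), (nat_lit 39), (nat_lit 3), (nat_lit 27), (nat_lit 49), (nat_lit 29), (nat_lit 33), (nat_lit 40), (nat_lit 48), (nat_lit 33), (nat_lit 48), (nat_lit 40), (nat_lit 47), (nat_lit 23)],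
  [(nat_lit 30), (nat_lit 40), (nat_lit 37), (nat_lit 15), (nat_lit 37), (nat_lit 39), (nat_lit 29)],
  [(nat_lit 30), (nat_lit 44), (nat_lit 19), (nat_lit 44), (nat_lit 28), (nat_lit 41), (nat_lit 15), (nat_lit 47), (nat_lit 1), (nat_lit 33), (nat_lit 1), (nat_lit 30), (nat_lit 39), (nat_lit 44), (nat_lit 37), (nat_lit 33), (nat_lit 40), (nat_lit 43), (nat_lit 39), (nat_lit 44), (nat_lit 47)]]
noncomputable def a_pc : List PcS := [⟨(nat_lit 3), [(nat_lit 9), (nat_lit 11), (nat_lit 14), (nat_lit 16), (nat_lit 18), (nat_lit 20), (nat_lit 23)], []⟩,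
  ⟨(nat_lit 3), [(nat_lit 20)], [[(nat_lit 3), (nat_lit 6), (nat_lit 7), (nat_lit 11), (nat_lit 13), (nat_lit 16), (nat_lit 21)]]⟩,
  ⟨(nat_lit 3), [(nat_lit 9), (nat_lit 11), (nat_lit 17), (nat_lit 20)], [[(nat_lit 1), (nat_lit 5), (nat_lit 9), (nat_lit 11), (nat_lit 16), (nat_lit 20)],
  [(nat_lit 1), (nat_lit 10), (nat_lit 13), (nat_lit 16), (nat_lit 20)]]⟩,
  ⟨(nat_lit 3), [], [[(nat_lit 4), (nat_lit 5), (nat_lit 8), (nat_lit 11)],
  [(nat_lit 10), (nat_lit 11)],
  [(nat_lit 6), (nat_lit 7), (nat_lit 9), (nat_lit 12)]]⟩,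
  ⟨(nat_lit 3), [], [[(nat_lit 1), (nat_lit 5), (nat_lit 7), (nat_lit 9), (nat_lit 11), (nat_lit 13), (nat_lit 15)],
  [(nat_lit 8), (nat_lit 10), (nat_lit 12), (nat_lit 14), (nat_lit 16)],
  [(nat_lit 2), (nat_lit 10), (nat_lit 12), (nat_lit 13), (nat_lit 16)],
  [(nat_lit 9), (nat_lit 13), (nat_lit 15)]]⟩,
  ⟨(nat_lit 3), [], [[(nat_lit 3), (nat_lit 6), (nat_lit 7), (nat_lit 10), (nat_lit 12), (nat_lit 13)],
  [(nat_lit 12)],
  [(nat_lit 4), (nat_lit 6), (nat_lit 9), (nat_lit 14)],
  [(nat_lit 6), (nat_lit 14)],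
  [(nat_lit 13)]]⟩,
  ⟨(nat_lit 3), [], [[(nat_lit 2), (nat_lit 4), (nat_lit 7), (nat_lit 9), (nat_lit 11)],
  [(nat_lit 3), (nat_lit 9), (nat_lit 12)],
  [(nat_lit 4), (nat_lit 7), (nat_lit 9)],
  [(nat_lit 6), (nat_lit 10), (nat_lit 12)],
  [(nat_lit 4), (nat_lit 5), (nat_lit 9), (nat_lit 12)],
  [(nat_lit 5), (nat_lit 8), (nat_lit 10), (nat_lit 11)]]⟩,
  ⟨(nat_lit 3), [], [[(nat_lit 1), (nat_lit 4), (nat_lit 6), (nat_lit 7), (nat_lit 10)],
  [(nat_lit 1), (nat_lit 3), (nat_lit 8), (nat_lit 9)],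
  [(nat_lit 4), (nat_lit 10)],
  [(nat_lit 4)],
  [],
  [(nat_lit 10)],
  [(nat_lit 5), (nat_lit 8), (nat_lit 10)]]⟩,
  ⟨(nat_lit 3), [], [[(nat_lit 2), (nat_lit 3), (nat_lit 5)],
  [(nat_lit 7)],
  [(nat_lit 1), (nat_lit 7)],
  [(nat_lit 6), (nat_lit 8)],
  [(nat_lit 7)],
  [(nat_lit 7)],
  [(nat_lit 6), (nat_lit 7)],
  [(nat_lit 8)]]⟩,
  ⟨(nat_lit 3), [], [[(nat_lit 2), (nat_lit 4)],
  [(nat_lit 4)],
  [(nat_lit 1), (nat_lit 3)],
  [(nat_lit 4), (nat_lit 6)],
  [],
  [(nat_lit 6)],
  [],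
  [],
  []]⟩,
  ⟨(nat_lit 3), [], [[(nat_lit 2)],
  [(nat_lit 2), (nat_lit 4)],
  [(nat_lit 4)],
  [],
  [(nat_lit 4)],
  [],
  [],
  [],
  [],
  []]⟩,
  ⟨(nat_lit 3), [], [[(nat_lit 2)],
  [],
  [],
  [],
  [],
  [],
  [],
  [],
  [],
  [],
  []]⟩,
  ⟨(nat_lit 3), [], [[],
  [],
  [],
  [],
  [],
  [],
  [],
  [],
  [],
  [],
  [],
  []]⟩]
noncomputable def a_zu : List (List (List Nat)) := [[[(nat_lit 1), (nat_lit 3), (nat_lit 8), (nat_lit 12), (nat_lit 14), (nat_lit 18), (nat_lit 22), (nat_lit 23)],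
  [(nat_lit 2), (nat_lit 5), (nat_lit 7), (nat_lit 12), (nat_lit 13), (nat_lit 15), (nat_lit 20), (nat_lit 23)],
  [(nat_lit 1), (nat_lit 3), (nat_lit 5), (nat_lit 7), (nat_lit 9), (nat_lit 16), (nat_lit 18), (nat_lit 21)],
  [(nat_lit 2), (nat_lit 5), (nat_lit 7), (nat_lit 14), (nat_lit 16)],
  [(nat_lit 2), (nat_lit 3), (nat_lit 11), (nat_lit 13), (nat_lit 16), (nat_lit 17)],
  [(nat_lit 2), (nat_lit 5), (nat_lit 9), (nat_lit 11), (nat_lit 14), (nat_lit 16)],
  [(nat_lit 2), (nat_lit 3), (nat_lit 5), (nat_lit 8), (nat_lit 10)],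
  [(nat_lit 2), (nat_lit 6), (nat_lit 7), (nat_lit 9), (nat_lit 12)],
  [(nat_lit 1), (nat_lit 3), (nat_lit 9)],
  [(nat_lit 1), (nat_lit 3), (nat_lit 5), (nat_lit 8)],
  [(nat_lit 1), (nat_lit 3), (nat_lit 5)],
  [(nat_lit 2), (nat_lit 3)],
  [(nat_lit 2)]],
  [[(nat_lit 1), (nat_lit 6), (nat_lit 7), (nat_lit 9), (nat_lit 13), (nat_lit 18), (nat_lit 19), (nat_lit 22), (nat_lit 24), (nat_lit 25)],
  [(nat_lit 1), (nat_lit 5), (nat_lit 10), (nat_lit 13), (nat_lit 15), (nat_lit 18), (nat_lit 21), (nat_lit 24)],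
  [(nat_lit 2), (nat_lit 6), (nat_lit 8), (nat_lit 12), (nat_lit 19)],
  [(nat_lit 2), (nat_lit 12), (nat_lit 13), (nat_lit 17), (nat_lit 19)],
  [(nat_lit 1)],
  [(nat_lit 2), (nat_lit 6), (nat_lit 8), (nat_lit 15)],
  [(nat_lit 1), (nat_lit 7), (nat_lit 13)],
  [(nat_lit 1), (nat_lit 6), (nat_lit 12)],
  [(nat_lit 1), (nat_lit 3), (nat_lit 9)],
  [(nat_lit 2), (nat_lit 7)],
  [(nat_lit 1)],
  [(nat_lit 1)],
  [(nat_lit 1)]],
  [[(nat_lit 2), (nat_lit 4), (nat_lit 5), (nat_lit 7), (nat_lit 9), (nat_lit 12), (nat_lit 14), (nat_lit 15), (nat_lit 18), (nat_lit 20), (nat_lit 21), (nat_lit 26)],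
  [(nat_lit 1), (nat_lit 10), (nat_lit 13), (nat_lit 18), (nat_lit 19), (nat_lit 21)],
  [(nat_lit 1), (nat_lit 5), (nat_lit 7), (nat_lit 10), (nat_lit 14), (nat_lit 17), (nat_lit 19)],
  [(nat_lit 1), (nat_lit 11), (nat_lit 18), (nat_lit 19)],
  [(nat_lit 2), (nat_lit 9), (nat_lit 15), (nat_lit 17)],
  [(nat_lit 2), (nat_lit 8), (nat_lit 10), (nat_lit 11), (nat_lit 14)],
  [(nat_lit 1), (nat_lit 3), (nat_lit 7), (nat_lit 10), (nat_lit 12)],
  [(nat_lit 2), (nat_lit 6), (nat_lit 7), (nat_lit 9)],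
  [(nat_lit 2), (nat_lit 7)],
  [(nat_lit 2), (nat_lit 6)],
  [(nat_lit 2)],
  [(nat_lit 2), (nat_lit 3)],
  [(nat_lit 1)]]]
noncomputable def a_hs : List (List Nat) := [[(nat_lit 19), (nat_lit 27), (nat_lit 11), (nat_lit 45), (nat_lit 30), (nat_lit 39), (nat_lit 15), (nat_lit 33), (nat_lit 30), (nat_lit 19), (nat_lit 1), (nat_lit 27), (nat_lit 27), (nat_lit 44), (nat_lit 27), (nat_lit 33), (nat_lit 39), (nat_lit 39), (nat_lit 47), (nat_lit 45), (nat_lit 49)],
  [(nat_lit 5), (nat_lit 47), (nat_lit 27), (nat_lit 45), (nat_lit 30), (nat_lit 47), (nat_lit 15), (nat_lit 34), (nat_lit 19), (nat_lit 39), (nat_lit 1), (nat_lit 40), (nat_lit 43), (nat_lit 29), (nat_lit 27), (nat_lit 45), (nat_lit 39), (nat_lit 33), (nat_lit 47), (nat_lit 40), (nat_lit 43), (nat_lit 47)],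
  [(nat_lit 41), (nat_lit 11), (nat_lit 40), (nat_lit 17), (nat_lit 29), (nat_lit 45), (nat_lit 15), (nat_lit 45), (nat_lit 3), (nat_lit 39), (nat_lit 34), (nat_lit 40), (nat_lit 48), (nat_lit 33), (nat_lit 41), (nat_lit 47), (nat_lit 39), (nat_lit 45), (nat_lit 43), (nat_lit 48)]]
noncomputable def a_u_N_0 : Net := (Net.cons (nat_lit 1) (nat_lit 0x45401444110114510015045114150500555445410545115055010514445541051145155444441054144044450110511441545150005001414514111514001551011555045414545541041114055401405500511554515501454114450155045005004105410405545401441110040111104510505115114510455155544551451455514) (Net.cons (nat_lit 2) (nat_lit 0x2121120220103031330213221030121203111130320031333300110202223102131122133023300231030221213213330001222231231113011022112232010332232101233331230130233203203322212130313301113332110110210220331301000230130320031321131230110103233102132202233023103211031231211300) (Net.cons (nat_lit 4) (nat_lit 0x70e09020b020d0c0b0403040503030e080a02060301050f050e0d0601070403080e060908000d000a0902070c0f0f050101030f0c050c060a090606080b0b0800050d090001030c0b00060a07040b0e09050405000e0b0903090000070c060b09080c07010c0e07000b0302070e08090d00030001080c0d0d020702000401000a0c02)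 (Net.cons (nat_lit 8) (nat_lit 0x80028005f00a4007200f800e7002c00c7002e003500a800de0085007a000500970036002600cf006100aa00a600200008005e00ff007500b2003700b3001b00a6002900a7004e004900fa0082007700e1005800fa00f000ab00af005d00cf001100e7008d00670091008f009f00d6001e001f003a002a006300a600b6006000e30020) (Net.cons (nat_lit 16) (nat_lit 0x81a00002130000068630000141c000033a4000032c50000570600007e8d0000383a0000c1aa00001316000063260000faf40000105600007e480000ba220000cfd800003ebc0000ee0200003f8a00002d1000007fbb0000894c000004dc00008bd9000066650000050a000057c30000d0dd000015960000b9990000245000000000) (Net.cons (nat_lit 32) (nat_lit 0xa3ba034a0000000079c34d2500000000d7b9a1f600000000430975ce00000000d4ec99d100000000425861bd00000000787af40e000000001624939d00000000a9a9167300000000f76a6331000000008899d775000000006c93700400000000fe2b24900000000019713a2f000000005c058208000000001dc303c0) (Net.cons (nat_lit 64) (nat_lit 0x9c8046545c1639710000000000000000055ac957845a452d0000000000000000ac048fe22ec0557400000000000000006202933003a2443a00000000000000000270e5e4b93f01160000000000000000023cf61ad35143b000000000000000000446188462dfaa3100000000000000000000000011238eaf)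 (Net.cons (nat_lit 128) (nat_lit 0x9b220ce60e191b3838f23d899aad55190000000000000000000000000000000038ad6040d529605044f38e9b4a538745000000000000000000000000000000008511fe101a440c6ac63f9f900c02f6000000000000000000000000000000000000000000000000000000000004a7a8f1) (Net.cons (nat_lit 256) (nat_lit 0x804490d580b17462010152701668004d40c4e8a51864420641aa038a4460b8e800000000000000000000000000000000000000000000000000000000000000000000000000000000000000000000000000000000000000000000000005e92042) (Net.cons (nat_lit 512) (nat_lit 472631280) (Net.cons (nat_lit 1024) (nat_lit 503312383) (Net.cons (nat_lit 512) (nat_lit 0x5d559b2be086dc4ae0b6245f0f5d8377068e6cb77eea08394a4e4f5ddeb9c5698caa6df62e792934f78f5aae782027aa68519102810652dfa9b494b3a5edf8e0) (Net.cons (nat_lit 256) (nat_lit 0x41ac67daf14798f9b6925e7c843ea196d5026f5fb1c1936241d44a8c6aed35e6000000000000000000000000000000000000000000000000000000000000000005a592a34181b582fad94b9c06f42b98a8f004c51adb6b1cef8c941fa863d459) (Net.cons (nat_lit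 128) (nat_lit 0x4e80dd43e7565022d283cc23026dd3e200000000000000000000000000000000d8e2631c907be18d36081f6682254e110000000000000000000000000000000014d470a73114c5ab5d07a5f063bcc173000000000000000000000000000000007f4eb58fa71a51666fa15b3dd11677be) (Net.cons (nat_lit 64) (nat_lit 0x1f3e9e67144b37980000000000000000f08d67c3f7e605510000000000000000ad18b8989fb35a1d00000000000000005a662937e8da8df200000000000000000532aace4a68a63d00000000000000002585f62a6ec2a492000000000000000061659b40f6ee4b1b0000000000000000d7d38369ca3debc8) (Net.cons (nat_lit 32) (nat_lit 0xbdbbe6b2000000007a5fb1560000000041d1b65500000000ce30311b000000000988e2d8000000003ddd3f3c000000000d80383400000000c7131802000000003192055800000000a42493ea00000000f9facdd2000000002704c96500000000d13ebb4a00000000d2f60a860000000060756e9f00000000bfc19215) (Net.cons (nat_lit 16) (nat_lit 0x18b40000a2f40000c58f0000c670000033d700005be70000db5500004a2e000033950000bb620000289500006550000041270000864f00005c5900002bb90000d55f00006e59000017420000399900008e12000012a70000744a000065020000d34c00004d5300009881000091020000864a0000903a0000032a00005d990000c3f9)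 (Net.cons (nat_lit 8) (nat_lit 0x17000b003a006f00380056000d0020008800b0000f001f005d006100e800230070001800b700b80047004300730009009e00c6006f009a00200053000f00d7003b00ee00e7009d00c20036003a00de004500b7003e0083005b00640035009b00b900ed00df00d500d400b0008300d5001e00ee003f00a50071004d00eb0049000700a3) (Net.cons (nat_lit 4) (nat_lit 0x1070a00010809040d050a0f0708060b07000c070300070b0105000f0e06070802080e00020b0b080f01080200040a0003080b070c0908040205020e060f050a0d00010d00080f040c080a0b00030907000b0501010401090e080902030a0308030d010b0a01040b03050608050c01010b0b0c040f0f0b020e060a080f0809080b000203) (Net.cons (nat_lit 2) (nat_lit 0x33203220311232233133023223320223010223210113021113310010213222321011320222220022310003302002223003323003231013013000331321213121121222132030132320201301301021022232310010310133102323212113010310002200202101311302121023231212211011101332312111000003101132330133232) (Net.cons (nat_lit 1) (nat_lit 0x50101111144501114001551405551144004445445500051011411541101500404550511545150054511040541414100505014455501544104405110114445555055041455410004550444111505015510415100144505510500401044455400554004051515504010155050550011445550411504410144055041505445100114445041)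 Net.nil)))))))))))))))))))))
noncomputable def a_u_N_1 : Net := (Net.cons (nat_lit 1) (nat_lit 0x55145151555051404410101401014541100401014445554550511555044441401040151154155501110111150155041454504551015110445041410405504104151100010004005540101144541150111451140014150514000451411400115015455511041545141045000145555515005054141504545405444150051441415054544) (Net.cons (nat_lit 2) (nat_lit 0x12211113221330122112013323132211300310120323320021121210121110332222120310001120123102113233100121000333020331320302331002322103133232102203100132332310020000210120223121120132100230122113301323321001302223130122310213022011121100212322101131201330232313133011120) (Net.cons (nat_lit 4) (nat_lit 0x10c08090807020d070e0c000b0a0803040807040a0b010905090f0b030705040c09090107000607050d0c080b0a0803000500030508010904060f0e080904070c0a0d090e0c0f0e010f020f0104030a0f0c05050509020401010e08080a000706000705050808090c0d010809000c0a0a050e09080f03080902090c0a05060a05040108) (Net.cons (nat_lit 8) (nat_lit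 0xcf00a6002e00ff00bf002f00bf00330021001400ec00e300f3008c004a00fe004500650040004200f900fb00b50084004100c40012006000010036003f0070002300ad00700087003700da006700f6003a003500cf000d0085000c004b0056006e00ef000f0069007900c2006100290089007200160094006200e700e000800080) (Net.cons (nat_lit 16) (nat_lit 0xdfe00007d400000b6f30000062e00000b390000693e000072a20000716400001cc1000098c0000089600000e0c2000066b40000d028000005a80000ceb10000eabf0000c57900009c77000015980000f1200000d4a4000074c00000ba59000041640000fc8d0000fc130000b88c00000e770000ef560000aa400000080100002000) (Net.cons (nat_lit 32) (nat_lit 0xdbbfd71e00000000232d7625000000002af884080000000088ed8024000000007f1bb33a00000000d21fa67500000000ce5b3c0c00000000e7b735e500000000a3829c6f00000000fafbc2fa00000000ab4cb85200000000f07eb8ea00000000a9f31d3300000000c1a82b7f00000000b30bb769000000001f95ac62) (Net.cons (nat_lit 64) (nat_lit 0x902060be623f134b000000000000000018052834a2997c4c0000000000000000475c2dcd7086ac7f0000000000000000719a63092022a3a40000000000000000e336e5e9c4d9765c0000000000000000c2888e7fc34daae4000000000000000066760e83023d5a0100000000000000000000000012443899)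 (Net.cons (nat_lit 128) (nat_lit 0xf8c1aab1532d499bc92c6767690b326d00000000000000000000000000000000045d7ba58e84501f3658f0c064066ac5000000000000000000000000000000003a05388aeee4417afc423400200ff33800000000000000000000000000000000000000000000000000000000114f00ec) (Net.cons (nat_lit 256) (nat_lit 0xb007c95140a020d1002ad630a4916d13c38d2401b4000487d1a40c070991b8920000000000000000000000000000000000000000000000000000000000000000000000000000000000000000000000000000000000000000000000001fd26fd7) (Net.cons (nat_lit 512) (nat_lit 270580928) (Net.cons (nat_lit 1024) (nat_lit 536870911) (Net.cons (nat_lit 512) (nat_lit 0x3a629fe9ef271c9edc4742f2641efc7b95155c7b28eb3c700078f4be28ab47378a45769e11d3224f73adbdc0c3ad83a06ea8e25cdda47acfdbde98410158d52c) (Net.cons (nat_lit 256) (nat_lit 0x92d6500d0629a426b74c9ef2d817cd1167f1f2ffa9ff1bd158894ddce5fe93f00000000000000000000000000000000000000000000000000000000000000006e4b2a4b298a15bc923fd42602fb68e4910c91ae92337e81bdade1c4664065d9) (Net.cons (nat_lit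 128) (nat_lit 0xb41d461e6a59e319c5a21dc5317ded720000000000000000000000000000000042984080effed9b0bcdbd9faabc54ca900000000000000000000000000000000603d512c74cafca707f2b2f4aa65f87d000000000000000000000000000000008f71aad6028003f54826040e155b6234) (Net.cons (nat_lit 64) (nat_lit 0x5512fb3259b4306d00000000000000008e0e4ce2a4a178c5000000000000000048895e58e4aed972000000000000000031feb72b1bd8c8ed00000000000000004ef2a30dd4b459780000000000000000b79698c5800f6e06000000000000000047afd2ba23ef57c1000000000000000072c1c0670f5fc8df) (Net.cons (nat_lit 32) (nat_lit 0xeb5a3271000000008de7ca550000000051e570ca00000000bab0f4f300000000b7f9bcec0000000000265e2c00000000041319bd000000000b5eacb800000000d8535a2700000000a3f8294a000000006c15c1e30000000045b8b45a00000000c9afe79900000000ae5037c4000000002a2c6155000000000fff580d) (Net.cons (nat_lit 16) (nat_lit 0x1a700000561b000021a1000078c2000040b900008d7c00003a2500004c260000766f000075ee00005e3b000012d000000fc100006e1c0000747d00000db700001d340000447900006e26000054ef00002c510000ed3f000035730000b0520000a64e0000f7a70000d70a00005ae90000fbf50000c088000000800000eb45000053db)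 (Net.cons (nat_lit 8) (nat_lit 0x1200a100bb00ae00f300c8002600a1009700ae007800d000b4004f005000d600d4004b00e6004900b3002e00510016005a001400cd00b1005100fb00290046006b006e006f00aa0056000f001b006b00ad001f0085003c007f006100fc00e600780072006b00e80049004300e40019006500bd0040005d00dd004f008600bc00010095) (Net.cons (nat_lit 4) (nat_lit 0xa030b090408070b01020809020301050e070a040607050306040e0703060a000f0d080e050d000d0908050b0b080c0404020c080a000c0f0c0b0f030f01040e0d0f08070b08020d07010e0909080206000b0a030d04040209050f030f0f0c00040601060b0904050a070f03050c08000b060f0f0807040b030801000c0e0d02040608) (Net.cons (nat_lit 2) (nat_lit 0x32001301023223032001210301323311220000033233000110032013210001023213022223002221133030230201330230002303330101311311321200110223323311113130311010303001303301222110030323131212311012310333032122301120133233201113323332023332331302313013132021202331233210321312101) (Net.cons (nat_lit 1) (nat_lit 0x141000500145044050005101511140451105115445514140511141101155114540105041405045045050110554545145045401450544100445000111145145545101141554510414150014410450040141010501115515150114504111001105104154044540115455015505550045054505445004140514445044544050104055004)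 Net.nil)))))))))))))))))))))
noncomputable def a_u_N_2 : Net := (Net.cons (nat_lit 1) (nat_lit 0x4001411541054550451450545544045040544044404440150151445000015510441410540500110550455055040010445400504010504101154545051515511504154011511501014454541441400454445010400555014154500055540505454144115041140110400400510100141451504015144441000050141550501011104450) (Net.cons (nat_lit 2) (nat_lit 0x22320213132013302020122311332002002101311120313212111113311330202333032330001202100132201011130221111311023122133323120132310003201303010202200012100113032231012220230002312113023123103033212223311130321333031302120032310300103100232302203221211022012233101130211) (Net.cons (nat_lit 4) (nat_lit 0x1040d0106080002020f0a09000409000f0008000a0301070d0b0a02000a05070b09020b040d06030a0c060e06000c0505080f0f0a080d070f080a090e050a03060d0c0d0a08070d070f060602050a08000c020709060408010101050200090402090f0c0000000101000b0c0b0c0e0a08050309080f0f0906030e0601090b08070b0602) (Net.cons (nat_lit 8) (nat_lit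 0x15001700e9005a003900a9001f00a60001001500770053008b00fa00850085009900a8006c0069009b0075001100880044000e000d009000bf00700061003c00cc00ea002f00df004e00900033007200fd0092000700a100e100d50075003a000500890015009f00bf000e00bd000600dd009500c900bf00ee0025002b008c004a00a0) (Net.cons (nat_lit 16) (nat_lit 0x6bd00001bc7000037df0000a2f20000a4800000e00f0000f6d10000fe2f00009f5000005b4f000072f500009b0b0000f0c00000800c00008e5b0000155b000060d6000026f000002a480000d84f00000e8f0000fc03000042ec0000f51f0000368a00009c520000c9ff00002e3c00008c710000f87100004cde00006c880000e000) (Net.cons (nat_lit 32) (nat_lit 0x81454df00000000127f7b0800000000e451512100000000afb96102000000004c091bb800000000945da9cd0000000068628e7500000000e83312fa00000000d7e8987a00000000df9c3493000000001424888b00000000254e0b5c00000000e102707b000000007ce2452000000000e2474f10000000000009a100) (Net.cons (nat_lit 64) (nat_lit 0x211275051215a1610000000000000000bd8b20e271e190c70000000000000000a426081737f3b2210000000000000000d97934c448613b5d00000000000000002bcf9265d82461db0000000000000000d151275923250d6a0000000000000000485d08482d92125900000000000000000000000011a07752)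 (Net.cons (nat_lit 128) (nat_lit 0x841c8a8fb255f22932a06211b842ff1000000000000000000000000000000000445002556880c0d4216b75942344497400000000000000000000000000000000109155480a2ca182200018846017030c000000000000000000000000000000000000000000000000000000000189dc33) (Net.cons (nat_lit 256) (nat_lit 0x864e867ae83412507ba56e11150085c6010d91158408602464de1467b06ec9a20000000000000000000000000000000000000000000000000000000000000000000000000000000000000000000000000000000000000000000000000a12020c) (Net.cons (nat_lit 512) (nat_lit 367483346) (Net.cons (nat_lit 1024) (nat_lit 536870911) (Net.cons (nat_lit 512) (nat_lit 0x1a9bc412de0ea00dd1f1082a43c0746d682a6b038be37a87f32ad5cd0454e5caf4555b6933711653aa44f6ff16c9d9b3eb85fef63f8f872b06f4ea22a02956b3) (Net.cons (nat_lit 256) (nat_lit 0xdf70e14419295c238d1c8039c08ab0eccc7f3a94f6ea61a59ed003f499443b7f000000000000000000000000000000000000000000000000000000000000000043562dfb7db87966b5fa7af2d5315c53a78b78971f6fd0891df05ccba39cebbe) (Net.cons (nat_lit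 128) (nat_lit 0x7b3d9e659b4375f320c7a79a6d216acf00000000000000000000000000000000cc35d880a55811aceaa182a98c77ce240000000000000000000000000000000027887f07a1b3b4eb1ec7cc54abe2ebfb000000000000000000000000000000005bd222037090fadc4016fd0c8edadc92) (Net.cons (nat_lit 64) (nat_lit 0x91d615e8a21932b900000000000000009fbfec1e8448c9020000000000000000a879150c6f052e190000000000000000ae784bd33061d80a0000000000000000987812d44ee6b53e00000000000000007062e6efca6edafa00000000000000009ae4b87031de0dcb00000000000000000826a8782f47ade4) (Net.cons (nat_lit 32) (nat_lit 0x4211a46700000000e019fe0100000000775669ef000000006d683ed5000000004ba196c6000000007a8eb31100000000f736616b00000000d784b46200000000621f0a3a00000000f670169b00000000971be4340000000012c4f38c000000003f47207b00000000ef24bb8f0000000088c87e10000000001e60eea0) (Net.cons (nat_lit 16) (nat_lit 0xe230000bdfc00001a25000060d10000944000000cb0000023330000503800009f9700007f7800001889000043bf00003ed00000fcf5000014a00000e2df0000c71b0000b84700001a110000d88b00004f8500004c2400004eeb0000007f0000accf0000a0cb0000871000000b8e0000fec7000067a700007d0500001f96000030c0)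 (Net.cons (nat_lit 8) (nat_lit 0x19008c006a005e0053007d007a000e00ee0059001100c700e6005900b60051003200f3005a00bc00c800fa00b50023006d00c1002e001500f500d40030004f0019002a00c700d3000b00a0006b00650022001600c900490007003a00c200a900d900f400ad007f00240088003f009d00a3001e00a800f2003d0014001800f600ed00f5) (Net.cons (nat_lit 4) (nat_lit 0xc050606030a000d0305070e0f040f06030b0c0002010d0b0b080006050c0b070706090e060e0c0c080d09000e030a0a0201020401000a080e0e090a090b05030b0800090b0903030308070f0706030d0d040d0201020d050f0c0a09010d0c090f0a0202090c02070c050405030f050f010d0b0c0e06000a0c070b0e010d010f090201) (Net.cons (nat_lit 2) (nat_lit 0x3323210113002003113031123123001323213233320132330113210313003203310213321230203022322222302132311332021132113110103110132013132200333030012332322212033333321203132100311211222113100220103210001102322312120230200030013223312222120201301332022010031020201132202232) (Net.cons (nat_lit 1) (nat_lit 0x11400004415515011111144415144554454150551110104555414504105401101054000105141441055450115515510401151404501440544405051450140504455141405401105405001444451450154544110100501514504115401154111405051040111054011001000101054055114555510514555111511451004411510115504)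 Net.nil)))))))))))))))))))))
noncomputable def a_u_N : List Net := [a_u_N_0, a_u_N_1, a_u_N_2]
noncomputable def a_u_pt : BT Nat := (BT.node (nat_lit 1) (BT.leaf (Nat.lor (nat_lit 0x83e7a7ce8f8f1f1abe017ba6f4a5e88bcff7928f239e443c767826f03de00bbe277c0ef15dcb3b8f76f4eddddbb3b56769cec29d75bae275bceb1dd623aac7510ea15d2b3a3c7438e819cf539b17356e5b9cac38ed7192e2d9c46387f70f2e1d5c32384f7082e0f5c16b7be6f72de7dbc0373b6e40dbedb29b6526c90d845ae2b5b46b5ed621aaf353a6a50d3ada5334936888d0f19fcb3dc67accf399c3338166f8cde19acb3506692ccf998eb2ef65cecb7595fb28d64a6c84d907b2016400c7898d6b194622cc3bd85eb03f5fc6bf297c1af405e58bc5d789aef15da8bb3d760ae675c3eb855703ae045bcab7416cd2d975b1cb5a56972d1e5a1ab40d6802ce15942b27964cac8558fcb1d5631ac3a586eb0055f62bd25796ae6d5ca2b725692acf15732add5584aad553e2a7654d8a93150aa9d65370a6a94c9297651b2a321463a8b85162a185429a8405078a0d9416282950329fc93f6a7df4eba9c7138427034da89a5133ba6584ca09939326a6494c9098ad30ca5cc4a6294b928d251049ce938926e24c2493c9169221a41547de8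ed11d6239346ba8d0119ea30a45aa8a9d14b228844de8995127a247446688c9102216442a284e1096a0f741e882e9056a09c4100815d02aa0143ffa7fa8fe49fc43efa7d84fa11f2e3e5a7bc8f789edf3dba7b2cf621eae3d527aa0f461e483c547894f041dfe3bda7740ede1d8b3b00754cea71d483a8674f4e949d213a327414e7e9ce4395c727ce3f1bf037ba6ee4dcd9b7336906cfcd811ae035bc6b50d5f1a8734a46840cff99f933d26790cd4199732c66474c7e18db315a6298c4f188a30fe6124c0f98142ffa5fc0bf117d42f745e94bc917772e8a5cf8b8f971c2e285c20b7c96ee2d9c5b28b59968e2cfa59d8b2c96542c5858acaea15cf2b2055dcab8152329fc5394a6d94bf295651fca38946b28c2511ca0793f227064df89b9134826424be895792a8250048d0907120c240e47a88dd119922a4450489e1131218e42dc85a90ae212040dc8168fc71f603e787c10f771ebe3c947778ee11d923a9874b8e921d0a39ec7300e471c8038847070e0d1c0e37c06f00d841ac035586968ced19aa32c86428c7e18b430fc6170c2617fa2fd85ee0bcf16dc2c3457e0aaf152829ac52f8a51149c28845098a0113f027dc4e8099d130226004a289421256242848188c5116a228c445886310bc205840588010fc01f203d8878e0f0e1d0839c06fb0de01acc331865a0c9018242f505dd0b0a15282a4053c0a6614402590461085e105c20883c007440e001b9835506a20c7017402c105780ab4149828a0510099812c824a047c08b810e8215040e07780e381be037206d80d5018d02f605bc0ab81430278042c07e00f601d2031403e8063)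 (Nat.shiftLeft (nat_lit 0xf067e0c7bf677cfef93de87bcff793eee5dd87bab7715ee0bdbffb7f76f1edd3daf7b4cf663ecadd8e7b1af62dec21d7efae17568eab9d47ba8e74f4e9b9d34fa52749de925d22fa437485e895d107a1ff41fe80fcfa39e5f3c5e76fcea79d07378e6cdcbcf950f292e4d1c9539297232e44dc8538fe71f7e3d1c68b8ccf18fe311c4bb890711ce217c3e787970d0e151c2578347067e0b1c15b8087009dfffbeb77cdef80de3fbc337556e8ddd17b9ab7216e40dc1db7fb6fbedf1db65b66f6c5ed81dab3b51b6886ce4d987b2cf6466c7ad8b5b15f62aec37d84db0836036ba1d703adeb599eb01d5d3ab6755eeaaad549a9fb4ef699dd2f5a5e34a8694dd297a52749b692fd217a3f7477e8c8d131a233440e866d0c7a0db4156829d0519f8f3efe7d8cfa19f273d8e76ccec79d77399e72ace519c7737766e7cd69998332ee63ecc19982f2fbe5ddcb8996e72d8e590cb1995d32aee559caaf94e72986509c9e7939f26964bdc97792e32436466c7fd8fe71e4635cc6198c2f183e2f6c5b589fb114e223c40787170df6186c2c7846b08860ebc1c583230486044bfc77edefbc5f67beb57ca6f82def1bdbd7b72f4e5e8dbca578bef12de23bc37785aefc5dcfbb7975fae8fdd06b9dd72c2e365c00b7f16fcedeb5bc6b74f6e2adab5b4db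6776c72d8a5aefb5716adad4dda9ab4bf68cecfd59f6b31d652ec97591ab1ab62f2c5d5859af835eaebd4d78baf0d5e02bbbd74eae735cd6b96d71eade55b3ab4ad68cabb756a2ad0d589aaef556aa7154dba94f528aa4a5487a8d750f2a145415a7c14d8a9aed349a6694c9298952d1a5554a5e935524aa47148d2902d1fea3bf467e8cb516ca2d3450a8945126a237445a87f50f4a1c94242843d0489f593e7e7bccf5c9e613c7e76ccec09d43399a72f4e479c8b38e26e6cdbf9b37363a6af4d4f9a9b34fe6944d1b99f733ba6654cc0996d327662b4c40983f2fda5facbb8976d2e765c7cb8997112de65accb4e95e72b925684abe953d29f25364a38941127c24ea49bf935f263a4bdc96e928b248248948f991db236e46148a9912d2202436483790431ff63ec47cd8f431e763c0477c8ed71caa391c71f8e371bfe370c6da8da51aea31c46248b97172a2d8458c8b0f14ce292c5158a1b13fa275c4e5894b11ba21dc41887f30fde1d9c35286770c9616b42b785670a66119c22d841b082e0f941ed83a306a20d3416a82d303fe06f4084807d00a200a400b7fd4feb1fca3f7c7edcfd91facbf137df2fbadf6e3ed27d72fa95f4) (nat_lit 8000)))) (BT.leaf (nat_lit 0x3ddbfb90f69bec8fd8afb11f60feb8bd70faa5f549ea73d417a6df4c7e947d1dfa36f42fe747cd27985f2dde513c887903f0ede183c20f838)))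
noncomputable def a_u_pi : Nat → Nat := BT.record a_u_pt (nat_lit 10) (nat_lit 1023) (nat_lit 15) (nat_lit 32767)
noncomputable def a_u_t0 : BT Nat := (BT.node (nat_lit 1) (BT.leaf (Nat.lor (nat_lit 0xeb596aad45a6b4968ad059eb3966acc596b2964ac858eb1962ac4586b0960ac057eaf95eabc576ae95cab856ead95aab4566ac958ab055eab956aac556aa954aa854ea9952aa4546a8950aa053ea794ea9c536a694ca9852ea594aa94526a4948a9051ea3946a8c516a2944a8850ea1942a84506a0940a804fe9f93ea7c4f69e93ca784ee9d93aa744e69c938a704de9b936a6c4d69a934a684ce99932a644c698930a604be9792ea5c4b69692ca584ae9592aa544a694928a5049e93926a4c49692924a4848e91922a4448690920a4047e8f91ea3c4768e91ca3846e8d91aa344668c918a3045e8b916a2c4568a914a2844e89912a2444688910a2043e8790ea1c4368690ca1842e8590aa1442684908a1041e83906a0c41682904a0840e81902a0440680900a003fe7f8fe9fc3f67e8fc9f83ee7d8fa9f43e67c8f89f03de7b8f69ec3d67a8f49e83ce798f29e43c6788f09e03be778ee9dc3b6768ec9d83ae758ea9d43a6748e89d039e738e69cc396728e49c838e718e29c4386708e09c037e6f8de9bc3766e8d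c9b836e6d8da9b43666c8d89b035e6b8d69ac3566a8d49a834e698d29a4346688d09a033e678ce99c336668cc99832e658ca994326648c899031e638c698c316628c498830e618c2984306608c09802fe5f8be97c2f65e8bc9782ee5d8ba9742e65c8b89702de5b8b696c2d65a8b49682ce598b29642c6588b09602be578ae95c2b6568ac9582ae558aa9542a6548a895029e538a694c296528a494828e518a2944286508a094027e4f89e93c2764e89c93826e4d89a9342664c89893025e4b89692c2564a89492824e498929242464889092023e4788e91c2364688c91822e4588a9142264488891021e4388690c2164288490820e41882904206408809001fe3f87e8fc1f63e87c8f81ee3d87a8f41e63c8788f01de3b8768ec1d63a8748e81ce398728e41c6388708e01be3786e8dc1b63686c8d81ae3586a8d41a6348688d019e338668cc196328648c818e318628c4186308608c017e2f85e8bc1762e85c8b816e2d85a8b41662c8588b015e2b8568ac1562a8548a814e298528a4146288508a013e2784e89c1362684c89812e2584a8941262484889011e2384688c1162284488810e21842884106208408800fe1f83e87c0f61e83c8780ee1d83a8740e61c8388700de1b83686c0d61a8348680ce198328640c6188308600be1782e85c0b61682c8580ae1582a8540a61482885009e1382684c0961282484808e118228440861082084007e0f81e83c0760e81c83806e0d81a8340660c81883005e0b81682c0560a81482804e098128240460881082003e0780e81c0360680c81802e0580a8140260480881001e0380680c0160280480800e0180280400600800800)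 (Nat.shiftLeft (nat_lit 0x7feff9febfc7f6fe9fcbf87eefd9fabf47e6fc9f8bf07defb9f6bec7d6fa9f4be87cef99f2be47c6f89f0be07bef79eebdc7b6f69ecbd87aef59eabd47a6f49e8bd079ef39e6bcc796f29e4bc878ef19e2bc4786f09e0bc077eef9debbc776ee9dcbb876eed9dabb4766ec9d8bb075eeb9d6bac756ea9d4ba874ee99d2ba4746e89d0ba073ee79ceb9c736e69ccb9872ee59cab94726e49c8b9071ee39c6b8c716e29c4b8870ee19c2b84706e09c0b806fedf9beb7c6f6de9bcb786eedd9bab746e6dc9b8b706dedb9b6b6c6d6da9b4b686ced99b2b646c6d89b0b606bed79aeb5c6b6d69acb586aed59aab546a6d49a8b5069ed39a6b4c696d29a4b4868ed19a2b44686d09a0b4067ecf99eb3c676ce99cb3866ecd99ab34666cc998b3065ecb996b2c656ca994b2864ec9992b24646c8990b2063ec798eb1c636c698cb1862ec598ab14626c4988b1061ec3986b0c616c2984b0860ec1982b04606c0980b005febf97eafc5f6be97caf85eebd97aaf45e6bc978af05debb976aec5d6ba974ae85ceb9972ae45c6b8970ae05beb796eadc5b6b696cad85a) (nat_lit 8000)))) (BT.leaf (nat_lit 0x41c83706a0cc1882f05a0ac1482704a08c1081f03a06c0c81702a04c0880f01a02c0480700a00c00)))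
noncomputable def a_u_t1 : BT Nat := (BT.node (nat_lit 1) (BT.leaf (Nat.lor (nat_lit 0x2274e08b36ba49ca21565fc9e8d12ec79e92df00ea6fe749ac18275eae4a49b044eed90e363226679e38f37a2fcde99a33d0a60e4a7014ab6c011fb1c439d06be2094ee94ba6a044fa4a880309e685c99ea7aa42115af743a0b11b848124001888a107cf8cb58827dc659cc0ec060464c408a1c2dace7b796500e8641f074a22c130580e8ddcf11971ba194dd126718b54fa0a95a6fbdcea9c73c5f86b1b75244a8233b06f81c9123d47b43b5b10810cce19813a72b82407883f5e902d5ab2146c948f081b4a8ea0fc8154445fd7e95d352915b29b67f6b8ca717a32a96535c1b7fefc564ad7422af0c789917c804e60da4682e0a6b2e280d5a0c02e690e39092823b214095ace6ea5495496a1a4ee1bea0a3faf29e72303a02b84406d40cfc9591fe7400d8631ff06ece92b88554aeec3023b5f8d18bb413796400831463b8a4ccf8dc3f4105ad3f647071563019676e91bd85619670c9b30e682601e406172caac8a08d3208cd29b6666ed3d5213f68e31526a2170901c6ba10222728b12b73eaa441e9b27ea7e017a2d5403a143b7825acc0882ee5324550b8f609c1c52f23e36a58d721f37da89899ba95ec438ee8e91f88602e32d11ef64d204b4b46b0f8bbc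30a4818087726edf80496f5bc98dcd1aa792c948094a2066f0621ce316109c69af23052cf72551fab81acc06078e658da1e81c0388940257a084f62e77ae015d538a6bef799cb070661fc318fa576dbc3e9771c8e21e818c2ae43534adf7d8cccaa34d78ac98b2b4b4868f5801e73b68a0289740227444b9e35740c95f39b44a9e43d90445cdd9262197224edf30af23a24defa151364e8ed3b72ce6d08104c1b30695b3080461c1518b635ab1d0dbc31c01654a2851720c55a3d21a6de9c11d51e4831510571f2a59d8c1646446d361d3720962051e07001ce0e19d248989251de2847de0781a59899ce40176889d9e305f39a4d5002470503c168ac377e175798a350c1e0df86b506028bd99850002c063ad164190268556a86652416031ca11fc961764d8105bf47d1000a78897eeac59621a11ce0d818915cad0a018b504a9bd710691f0a29860b46948f12d8d10a8101ad8680ec8101a3ae214670cd3b46b8fe06018626845cbca5c7b68a435335174ab491b12314c696b3b970e7b5ca2097165b12720f51ab71343247242798c24f4f607d5f9847c264c0c00601a4b120121780a2ca0a462162300eb145f6db93731c62ee5c6c36d5de41c0b29b53ac344a2500de19c3e130372ab04c1a67acbadf20e6160e984a8293c84889e3195183d197aaf46a4e0aa83523ec14041a00dc36d3a9b32f02a05625f0b6b00669ab69caa1950d44f0911668c7370111f2ba262ca203f2d203c995d0af0626378e208428afa987a7d)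 (Nat.shiftLeft (nat_lit 0x5f214c1ca0e4c2b85eec0d502d4400bd882b005830ff336880942f50083bc239714eed55ca9e53ccae03cac12d00acefaa747e71da1b0917eba9e13c15f4fc194c10322309c28ad4a2acd570ca18221caf3ab64e03c9895982eac0c68a276a8b191a6613461e021325cc5692e81c4e8b142d33e7d6f11910d54fec559a09f77c991822026bcd4d7915819ec7cfb37051cff208aa15d2e7c3d1a82fb021ee10534a4e58f1f263acf5fd2146c22ed679eb23c2dcdf0bd4fc651a938158801cc494c2e07bc1516e45eb653683b4accadb93cd362d319c1c082820c22bcc24a6040813d2cc859ce3320bc2184b0ab218d00eb9d62ea56d210a43068a91d1a751272d39948678dd1d191c22cc4165a13100a3c098fe7fc5b45e2076ced5c7d8ee1be330b9bac2be9c41c33180a3d49711a482da0be12f2e42a9391921c643d553455a8dc5deb49384149682ca7660805033f40a271a823135c10db4a0343ebe0fe0eb472750a82ed3d23dcdea7c2d2189852e8584b6816b64812bc54f8a704eda96e8e51621d41238f2a6591f393e38cff6092a614ca78ec01219) (nat_lit 8000)))) (BT.leaf (nat_lit 0x295492a40248c383250d9b3736d851e062080d898084a233763396430b712c800a1295343417fad8)))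
noncomputable def a_u_t2 : BT Nat := (BT.node (nat_lit 1) (BT.leaf (Nat.lor (nat_lit 0x01f5373174d60306cb117028600a8e767ac4118c09224795d73771b0bcdf001e0d24d4b3a2e2ae4dd613e238046526909794814593be060f24410423acc650a81a7b8b70fd9cd22a405ca1b75dab6825a6809900cd7ab254a3fa0e10d3dc98cdf41a674e5c398330bc289a380e36a34c860be19e871fb8cb74edec002f80d6b38990177ce38812baf68ac75952b014c155b68f946aa90a68711ccee0053a230c3b9fdc0e0406a5d888813a64d1b0f63fadacba2473a2929e58480d81d4e492d5943b60d8c11b81711f016286d35918617b66a0a109e3f0d257f9e752a92c17a273a43ed8420c6de4bcdc3ba532d284313e57e68899a5d81890ce43ee6065b14babd2222c09619a35ad6892384678875179c40e8ff1549021728403c41066881d85896608e81150dd40081107b015587ad229ba1d4e64dfa6d348e20c8a7c6e45d43d165700a717dab3280f8df20372709d5248f47ba3b0ce9ef27e4850dad96a2d40822fe1f0b189d20b5025f06fa2968c709588e57b4b7cf30053bcc4d6ab641a2df57c97e8169c4218134c88f0d391e0486f1b3ac02f0c1c899920386111fb90690101c5995568b354f0283daae8780927de244610cc4e8a291bb7a0ccc71e79d3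45a2fdde9502f61fdbaa8576c230c7868696b11af1da484999c7b2119a8e0448232a87d5a793c65ac7df4373310dc19b07651a8517bbdf23ed6ca2ae234c7045e0c0656f152025369cec9e039c29eb40169495c685950afd16a8e512b742ec60160b448247c001ad182c3ac2ea23398b81ae035254489c502e3167746f08b342ed1e0844640c94d986243298a023ed5a49c1af8ef1020d83018e056dfc93b401f4c9143177114cfcd71d55765a4e19b1634678a73530b624e06a9a09c7c5c61302fe474c09f27e0ce0b999b6625607f8a35f46b19303257040d288da7d4cc12d288600b20ce1b65540f174153636aad4190f65e019399ec04c8a08d85138a995d401820e84c4e4027370280eb2e3bef216ba7d028804e517d830f39e388d7ae8adbe33570420c85a266fc450540a05a831d7383b250829e60216a8c79360225d8b6d57b4c1a8ef14830d7481b96b30a246edd16041272d541c84924ca4c5625232e2bcea05a4f4a105a20978cd58fe0046c4a312c33b2b4034aa845262e45f08d231825d732771e4978d511608e09d0440f1a02145209808c95d390c62b2bd8ec1f91c0d5c6b19903eeb4872782007806209b7fcc489ea1a53e6ac6291c328a9e0ca947d2985b081260c5e8f509a4a0a3cde96f6d89f9feb293fe808160952b64d88528737288178a967bcdc41c0db5d69e453ae522ea8cb330e0d402c2cbb04903a0f20651c813522405672b609db5d7845a8318c9194338c48296ec190b13eb540ab5faa92)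 (Nat.shiftLeft (nat_lit 0x466cdd6f396476e145e88e1667a0dd8b856c819193d24d4a2cd194b756009510b75c24a40883d51caa033ac924a579fcb8d10e96ccb3f42c60fd4da5c56a4215b951596835b43603e6838c19d9572384a3baa220f55ea05f1aee8d8a9903f4a983e212240af9dd89061e2ec7ea605862506432c788584d02464a80e93d9e268204004a0372499d34b59268614b72890a475df287953a1bc958f75c8878bca6f0ee582039520f6959e69c715c415bc0f358e62908a5f3c2419401b44ec4b90bb42828da58b3982ac15828413504ba982b226667411eaf0578965c18ba2bee7d6988f1327a4b8ac5664889f30c373cde5fb30939c06ca436628827d8a21f3967d98c0e37b22a8edb52618eb1c33433c67f8aeb6539f054423a5294d61941b2062890cc0b16d4065e8a7f786518c1070772ea526406734e25c38542da1f81a06d0a603dd305800e20148b3e002770250a1810bd5ec1182b8fc4153a115a954c6941802b3d209f70aef4dffb0253067df624f1aae757700809e6c17e2cc07cf59c9af42c8ecc559a5474295fd17229861d7487255cbc9b740046) (nat_lit 8000)))) (BT.leaf (nat_lit 0xf146846a0ba2177e3f1f9b633e8b75cabd01d25adfc41149c3d577b8e38c5c193bb51525a1f90b6)))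
noncomputable def a_u_t3 : BT Nat := (BT.node (nat_lit 1) (BT.leaf (Nat.lor (nat_lit 0x4d00b58be368edd930cc2b62d4c632b1449c07eb425729399ca0d4b0e9cbc9c8196941f8953068cdd500d00de54597a92756418b90520280fc443fd4dcf7d3014253e7edf441907c1c591b8e3ee6edf9ac37200f4942bd3fc55d76abb642e644e0630e4d89bf9b96f65a60302a1be8787c853340ca0b71c958e2b484ae12269884a8b36947c51f981772759e7a7e458e1d428294e61a85818432e279ca816316bac2aa3b6649986c31325a1fc9f96f17674de6b09632b45d51153c2755498492aaed85d1650ec950ecb3d4924b94693e4f20c8992965e67d8feaae3da5f1bc1da6bc119e20471e2fb5741d10b09eced88369087040ae63f4f55cb8b181ed8494bd957e459f00a85504bdd100f7b0069f60e304edbcdb9880ac9700a87c2448092405d3c4aa9812a9750598370697766a4729c43423914e1593e8619ea30462cd5c1d9e43e07940eb6c51e3d1ba1a50bccd00f91c04024910af131eccd872c00f4e4cb1ad509ab69bf3ac6404e0efa3639e12d0a19d6b0895894157bb0488cb241349d0068a7348b91fa32c5884d0c6bea830ce816a9b4c6b315f219170b7d4b8b967cdf51910281abf5340e76a2a24ef3ee2c86c98ec0b1363897ca137046a8082cd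452b19140d235eee88db5329cbed2da0c4aa651ae04c3f08046999b346258a6b701cc7192faa33e6eb8a3216712169fdbc73a83b15693b7823b9c50c36c8d758d0c16601edf19eb60c5a1c93f24087d44e8bf7f023819907748e818622f1ec70c963e1006fe8dd10d1940d8c9be244e2f4c90282b0299412e06b404e00a2332ad640cb8d2e00acec3fc0c4ed44c8571400c5ba8f25340954404a4e4665b6b1f4308399505f45c4104f9334541dcf19b366adcd52a914b2c557184f8208d4afa51394addebad413036c0090b40a3f94a8677f3001f3b540d6f40df1264c86d9d93031da75cfc8e15b801074a3a8103120887e3a0a51c78971f4090438e05e896923a76180aac87a0f42495c6425d708ad45e349360ce161196126195de2104344012012719ce8d7d3de06aec46cb9f710ef5b02d87ee1cd351e73f81408618a4caf18432ca0f2dd868ac140c97925afc59052d0ea115bae6c459a743e615252b83d4d18412840cc8ac5b2fe012291ab19f8369fd888da1ad01c301ec3041a174b0b688855d78b74c24a82a4097b8da9bd1e66d029455b0f6d6018b6048652b4126143380444ae2d33b8a055d08a5326d58da6d1182158694c2ac7fcaf31035704dcd022240588a43ca64abb20d269771029f81a67d2d3c92bc02a10103a35f69a0b87828e11aac540026484c9de8b9c5d45c503bbf21c190089cd49eb880baa10862b1e29a23d291965b6960a23dc038148af0d693cb6f85f937949706d6d988702721e148363)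 (Nat.shiftLeft (nat_lit 0x88c517c33f69cd2d57abc62ec713628c6a08e14c1bf82c7748ba670ea3ecb9ba5792bfd6f0b447cf6ce0c0335acd8639e8280dc8e125623a94dbca265ac145851241460bcc19807c86389e01e5146249884168286d388ea6dc7be0296054c4e93595a5eca0c678f37ea3d5cea44610d9c002433308cdc604e18af0a06402602b3c9a9870800e0de8eb2f46715a1370c2fd8630054128dd59bda038f3a0e30081c1708427800e40d3a85b3200b0c88212fab3977bd3548cf11114770c47c1c83c0465286bb477d67b89829e1f0ed1e63552ba0e9f2bff75a0c143220406551040aa70ae611ec1745aa2d1cac554eced64a9d6cc5b5002b02822446690a2f0548b391268a3fc3e921448251d806d2ea668e72ac0b2ddcd6307468b95ca14401c285cf20b35ce2c422b201694877b912fef99269cb3c04688f3b306e021eb04515eef973c14414bb96b8f765a6c4bb2f2004e580daf01bcbdc9b23c2d410943ba91203080c13d3e46a1181bc1aa2255135256c325d331e0247157ab654f4c89a18801f8585b89454faf216d86c1520286e2774f8405f780c7a) (nat_lit 8000)))) (BT.leaf (nat_lit 0x1d23705dda611038eb646ebfe228350740ae398c60bd90523085d18a412566785917465c53dd0923)))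
noncomputable def a_u_t4 : BT Nat := (BT.node (nat_lit 1) (BT.leaf (Nat.lor (nat_lit 0x2f4cea1000b803529062744df8c81ae02a291a889b4fe639aa1b7538314501d84366b54c3f852816563890204bcc65399722ca01734c7f28e0b4b381a4809002176a6eec86b7b2e8bd40e2b954edb1a81f536048c2bbf13528f07c8de49aad0860013ce0c120bf46acf1ccf121602d853688c76c4e42d02d1049c171adb454bad1fb885b8351c29be4d647de0aca012aac2a3f57722b4201a17d8978538ef35e9e839aa92ea2786620a30a35885ac319cf60c1a467acc98822be03eb199086113a24521a051aa05807bb07580ae040bd4eaf8dacb044c0391aabf27247308333375469604af929845daba6f11444cc798d27ef50e333f268de4eeb60126a184ca267842fcd611b8145c03b1c932833c4c0c01a046962184658c4dc9b5d04a27c7d9576be818bf34d09ca5d1c8ab54c88c7497f53e8e8ab1f32e6bed3b1eb77cdb91b87c2b823c0bbdc1581b0f51ec22280d27b1f39a675f705b4528d12292d1d49c92716b4ad071160df396ce41040f64040d402c082e5d9771f8294f65f085f7e03c5ceaf853c5154641b41a3b82b2d3220669870c7316cadefb35096648fd2fa1280f0f21bb2f6060fba83109018e439a2f8ce88f3ab4ce310999822824f5c0b83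3b6f28daacd4c62a1e320c7407c84926879a1ed3a3cc646029bfa3681ae6d60b47834c359dc047d2ac41312f4b0a05a70655aac0d4515a68a7f92419b3aa119733bc20a135b385d59eee0fa13b52c13d25b5e578d195b03780461cbc850134dc8040456f05c5723300c0aa1a5bdb4b29017e3c92d0ee8019ce730c15d09b62288f5e2b6d42c9092d94980e1c90ea991783c01cbd080081da00476ecc75eb9e0312c78e0c0b7da869284134f6d102f4181a208ca20a91f8d213eb892a0aca0611670c6916d0be6843e964ae77d436d42b6b62052dd91e67684911783164a5987596a738f0072c113405dcfc9f6420658740d850ec1e0aadd1fc2005aa5d6e21fd7bc122fa63050ab876a2eda4ad057e50d790cd7bae55d38e22c8bf8b00d32a8b509f0c94ae924d41ab0e8225673e44f10151026962f0413f01a0d2d716fa183784e83508679eb2d9712722a998aaa9132e6fc948ff1b85e93cb3e186779a52ff0245481785312a1617b2ad1b22942932945023512ae84b4381a0a082bc75c5180222491df583515ca3d5100456e7f59e2e01e69a8fe07a1f022c610225204adcb87d23078d0238a7085b99ba2b25082d30871508ac1e90aa210ea0e9980394481260644608c98c3ff036c09e239f55ca8d4d3743dad99bab9e6365085babb2a28f89336279c0c8d8b8225ca213613c41e0b0910da6e6121c01df3c2f20f4b8f61284898afd03a99104aaf26cbbc10991428cbcdead864eb7843b1a70e199ca0e628ec2c7ebad)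 (Nat.shiftLeft (nat_lit 0x6c90515612c2da5187b95315ee59d99b953a5615e83d5b2671172116de6d01daa51eac89b2bcb2ba500a42195542e0e186f7c4e410e213202c65111f16f8b5c148f24e2e392ab69018111f3ae22d82980ca3101ce98b3838048c58590c13f66293983f5a49289536a6383b45b33d0ea5c9b19d0566945801ff584bc5f414f1748560094e168cb5d882812c1254935a442c2932b313ac5659229b1baa80983a9654594b78b34dcdddad8cb00e64c0801151a744d300b5161b5eaa3566c288929e521cf697297841cefc8e9e80ce1b80a06b75cd3d76163000a390f0b10688ccb118100c4dc991c73dc215b40f4310bd0cfbf3074fec19c197f49dc642276e0239a18775d2b21e1ad67f869d2237a6a46c9628c6574f78879e23b497c0295f56b00d879b859846431a82054b44219c0542ba9499cf238bc0ccbf60aa58529c0e7ee7bc853fe4b87144084c0d07642894d0f0f452a3af66856c099f01d8805d1b8c7cc220d109c30c2e4cabfd60cedd768d7476c30ee3086fac494a8424c409c3ca2d62a891991ba2120793e138354f944b8e75c274a0b0b062) (nat_lit 8000)))) (BT.leaf (nat_lit 0x38d106105521b36b0fbce23140947087090743ee2cd1ba53300f8380e30fca25de8367c0e909a8f6)))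
noncomputable def a_u_t5 : BT Nat := (BT.node (nat_lit 1) (BT.leaf (Nat.lor (nat_lit 0x80fd27aba3bca44011546ce98122897436c1c382f23b0dd1bf2931c02e4d307241e2344e99e6f0230dc15b1682b5da8be7e089c543c67be6310a3c1362e39d19471a2e506a3ba55ad44da9dc41ce258f9f7470cba032e255684d94a0816e075f4bc47b03589fa34278925b816881407c2fa2e5d2d002cb821966f1b1a8c78ad843995234a5f0512d23c0149df836110db800b1e17aa8c5e0752f287801a805f61e15faca4ea138388b11589085383d75050cb000f322fd04e0765c20350e80929c5889a1645e89f81f31659c889108215406248f17f6a8fe06904b234570d83a05b47b9db80473a5c1b534d0a6a619320469430d8d18159a4a45aa7c2aebe9de37b6602a57cb8f184a64e406e064dd8ac99c382cfddec03554c4945a70030b3c3ec152728142a86c4401e4698255fa9c53108317e336003085de54c4287b24acd1128240383f4f92693ac9bd7e26a2f4c241cc1140e33d252024aee0079aff592ced28c052e4d912a16602eab9f10ed4fa1860205d4f502d333e31dd03db892321ecd5180a301804d999eb164d148d80e7183115422368e9adc53ab7a6a9cb4bd67526a9738ff6e6444d607c077034681d17ce9ccef8aa3da69c6c341400ffc763ee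5988695f0da15f0495caf0702d2575104678d59cf35b798959263e56407517a9cf102a71e4a105ae4a9bfa843085e0b529b074089b90ef294bf9603046fa9653403181ccbd093061249b986b83744330911973d24bce70f75badaceb8a138c7f4c40936f87288e0fb20a5f45c31d36c6c8fa03770c208858d968c979a216c834d3990a4e4f0de54b0f17b80558996e1f2c012e33e62219ca304470876c64adb438e7ce64090b0d08da2c628a769ed940228b8ca41a11ce7e98b89a7860a969b8d64e559ae186534b08f99fe4b6fec4c0e947e86530834464f203422a14801cfc0e882104d533a75e6add68ab41f8bb8dd102458c95961e37601ad451165708349698d214e5d922cb44cc2c8ba9e22ab7987bfe768cd87285e2fc765eaa8723a2287d1e52625d089b9a1824cc21b0c5130043a0621900515d9c24b4224c73ce3567c501aac1e90648083858eee59d1d51eca556a927606015390fe0507c1e7845010cdcc290905e2cc9eb0156c85caf9773148a0b7a833fea15763482ba101ab98f69eac4b08c50c09d8cc3d27d87b0fe15a320e552a9953c2c6ce829d724bb4d028f45ed64e9a1f644001c41283168f0c02c835e3d5598ea6a6555583652708c41319680e2192f88f61c578ddb9603641936863078338158840b6f1c6e01648679c99135784e15aab7726cbe1e02a11aa8ed9eb5f8281b4b6ba147aeecd1aaf0d4609b33623ec02d9908b3f6430893582e2804faac17e4921323f5392825f79bd7b47bd85398)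 (Nat.shiftLeft (nat_lit 0x6bc5ec81bd151c54405314524db0d21b339a918e285106afe9fb9bf1608d9f59651ba854ca0290cc3882641c5ee7989dac30eea5d05aa47944b82441b05813c3789418e158922504baec58c37505a710881760346b5703e45b8bacd72d9372c8d14bde094aa4268e365aca8843be7ae9e4119421cc845623603502408ca8610e5d55eb310fc11d6fbe11e49dd3185a3261e9a193e5e27a93a36805c674501996a432895bed092b1483aa545b02125ae41741957326521a7e529b153ba35c0cbfc502ee04a90e3a48e4a609b49ae1d8128d274191f52f639694855ba43c8649743e04feb507c011122861ae958466019360201b60c052ba51800cc800c626e8e8400696725cdf433853ec652041804e6dcf13280ae485b6846804f9982bd92884816c0a66f4fe58e1c3282fc54404175ce2c7088e7364c0783af56a140b5b6957853ddb22b38e60ce0206520d2d1201282cdbd6b3cb564b943fa47656170d4810726f760ba0c732278b1a3547c96133bb21be1520614933e265c895034447dc82947fafd9ce1261c89edf98de46e2b80f1677a0534c3bb325) (nat_lit 8000)))) (BT.leaf (nat_lit 0x1be13e2d87599a176f35883ad5a0d31053a608466dad3d4296904f43ac7548584b282230911a82a2)))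
noncomputable def a_u_t6 : BT Nat := (BT.node (nat_lit 1) (BT.leaf (Nat.lor (nat_lit 0x6c244cb5a20a9d072c1340c90d1198f1a0980eb85413e451c33a97b83f8061654c2635d0b1715ab50c48d71cc21d8d8e40a2c1c3b04d038739518a452e82ddb1b13543a5c23d84d50001423f67e330321762d83fd0b22a7b44b44d2e8588fdd6930f0c0fedb427c41236459b25180e903f170101011b9a646b6918e5a205c471dd712f7341c92fb91334254fd2083cc5681eb5135c790f41615ea715be0097327e47aace08a4d9e59251f62acb12f63b65f8349d16f2d88eabcc5aa4c1b597d7027754500a608fc966c0206696a0533d1eebdc0f85604cd19b729b5befa97c28c6a63cc251bd0bea11c18df6283c1dc88256433cf6b0d360909209ff0b89992691b5966387b35610d019f32ad52c575d517457ea7c6b2fc7b3044032943bec410122814a770071930fe3f0a506d026429bd0ed53805c0693d1fa7a4530920048c8cb86e370e48a9c09064f785e35f1b8ce433a73332b4dbbaa023c448612c729a79c4e17a0badbcce0652f0545f99196c651803a1562652df8bc66502b107b117d90700227e082385ddab96744fd509157e84f955a350a6ef5e11a114e69980ba732cb053bbf503abac860615deaf1c721081d061c60712a8120343e572ed792986b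0f02a46a2ae0ae20d1f1495b24004696f6240691205547830ca12767fc78d3396e108f11d10ba68474c07a2e1024a0109346325b4d4a885b8741f42485f29283aa5510a1083da365701b108b5443e408272d03e49e1fd2ec62c92d6d36d81659d7810d55048489b2f4aceb19391051ae5044a8b7bad9d0184b68e0ac1824916c0c45db1e2a4f586aad77125c911058130b90f7bcd3805559b32e5d48f45f94536a8ddd2c0319a3606590f172044d13c537edc1bd81227234c463b170a0f8a19847fa38050b49348250f50e32882f493b592a026c290a33b2e6c9631d2d070ce61918321407c0ec216eac62ae3768f8990ac35e6b81f383569e6309c1956eca3813aa53fa8e55399d3bc0e8fb1564fee288e8af79ed203a1b244c85c5bb4b3eead135a6982edfd6114152706910ab71146dd2e3eb316b795b25b6c26610d2b14b2cb1a68ef3789d4a638d836be95ea516d8421770f9599015b8bd029056dabba6088c815f2ba0282f85526f746118f88383f04e8bbb4560ae7d029a03e0e58ff2627b6941340b14f2b012eac97a2850112001b406da20f1244f8dbf3660782c0e507350a310e430206ee614091766ef3900af24569c9f831a7a4979dabe1470eddc3bd573ccd04812016b03d9207a5ac9152c03b33e5acf08a02789c1f78f469484cb034e116e3de3bd3072419f2093676124fe1ec75a5a92035050cb75491eb07ef0dbaa0739e0d0950ae374c31ac3004a86d1271bb02cfe52608f1dcd484b2304cab453685a)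 (Nat.shiftLeft (nat_lit 0x32432173b741f4fb99523a7dab98042525c202d932b300a641c406f7d2d9548b41336cc8be3c0388735ce35c55eee17f12b22200d9828f75e6a060c0c3561c1fe2db1222a20b17f610f5cba8f206cac13da9020e0bd560294e2ec106a1d03ca904f372462c555a8c75b0bd1e50db638c8e0a40835901cd3a571d1041a636055255c1023423460517ae563e2e17d8001a4100352a65fe18d76ae9430aa8821b36446b54f0596d44ec1711f2b0a00c39da2e2b14b1947438cac972bb058849e42c63465a4e0a896149b99abf629c8b58c39059e064261d24fa0613d3a8048ffdaa9013010342f0100f260816a3b09ee2d514010ee4c91641261c89cc307c35e4dcdb13572a458ca28241c490129833ac275a1b4011c318df1ee372055d021b2bca69d98dd606ec94ab382068a46f0d177416c9897b53a9b0a03290cc8959f3c9212911bc3f825282891c1519210cac8b419c004f11f45945719896412eda4441263b0598fd9e54c68790c82a7bed90bca471ceb21c99883e63883107d77c61541b5d34adf58338021ca6127bc173a328a7bbf2388cdde32d2e) (nat_lit 8000)))) (BT.leaf (nat_lit 0x3e07a84cc5133c5fac2d020231d4628f00eb38457ccf2f138ca1c8c38208ea64ea1c9418ccc591f5)))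
noncomputable def a_u_TT : BT (BT Nat) := (BT.node (nat_lit 3) (BT.node (nat_lit 1) (BT.leaf a_u_t0) (BT.node (nat_lit 2) (BT.leaf a_u_t1) (BT.leaf a_u_t2))) (BT.node (nat_lit 5) (BT.node (nat_lit 4) (BT.leaf a_u_t3) (BT.leaf a_u_t4)) (BT.node (nat_lit 6) (BT.leaf a_u_t5) (BT.leaf a_u_t6))))
noncomputable def a_c : List Lvl := [⟨(nat_lit 0), [[(nat_lit 5)],
  [(nat_lit 1)]], (nat_lit 6)⟩,
  ⟨(nat_lit 1), [[(nat_lit 1), (nat_lit 5), (nat_lit 5), (nat_lit 3), (nat_lit 1)],
  [(nat_lit 4), (nat_lit 6), (nat_lit 6), (nat_lit 6)]], (nat_lit 6)⟩,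
  ⟨(nat_lit 2), [[(nat_lit 5), (nat_lit 1), (nat_lit 4)],
  [(nat_lit 3), (nat_lit 5), (nat_lit 1), (nat_lit 3), (nat_lit 3), (nat_lit 1), (nat_lit 1), (nat_lit 6)],
  [(nat_lit 4), (nat_lit 2), (nat_lit 6), (nat_lit 3), (nat_lit 3), (nat_lit 1), (nat_lit 1), (nat_lit 1)]], (nat_lit 4)⟩,
  ⟨(nat_lit 3), [[(nat_lit 4), (nat_lit 5), (nat_lit 1), (nat_lit 5), (nat_lit 2), (nat_lit 2), (nat_lit 3), (nat_lit 2), (nat_lit 6), (nat_lit 4), (nat_lit 5), (nat_lit 2), (nat_lit 2), (nat_lit 4), (nat_lit 5), (nat_lit 1), (nat_lit 4)]], (nat_lit 2)⟩]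
noncomputable def a_X0 : List (List Nat) := [[]]
noncomputable def a_X1 : List (List Nat) := [[],
  [(nat_lit 1)]]
noncomputable def a_E0 : List Ent := [Ent.split [⟨[], (nat_lit 0), []⟩, ⟨[], (nat_lit 1), []⟩, ⟨[(nat_lit 31)], (nat_lit 1), [(nat_lit 1), (nat_lit 4), (nat_lit 12), (nat_lit 14), (nat_lit 24)]⟩]]
noncomputable def a_X2 : List (List Nat) := [[],
  [(nat_lit 3)],
  [(nat_lit 1)],
  [(nat_lit 1), (nat_lit 3), (nat_lit 3)]]
noncomputable def a_E1 : List Ent := [Ent.split [⟨[], (nat_lit 0), []⟩, ⟨[], (nat_lit 1), []⟩, ⟨[(nat_lit 27)], (nat_lit 1), [(nat_lit 4), (nat_lit 6), (nat_lit 9), (nat_lit 12), (nat_lit 14), (nat_lit 15), (nat_lit 17), (nat_lit 20), (nat_lit 21)]⟩],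
  Ent.split [⟨[], (nat_lit 2), []⟩, ⟨[(nat_lit 27)], (nat_lit 2), [(nat_lit 5), (nat_lit 8), (nat_lit 9), (nat_lit 11), (nat_lit 13), (nat_lit 16), (nat_lit 17)]⟩, ⟨[], (nat_lit 3), []⟩]]
noncomputable def a_X3 : List (List Nat) := [[],
  [(nat_lit 5)],
  [(nat_lit 3)],
  [(nat_lit 3), (nat_lit 5)],
  [(nat_lit 1)],
  [(nat_lit 1), (nat_lit 5)],
  [(nat_lit 1), (nat_lit 3), (nat_lit 3)],
  [(nat_lit 1), (nat_lit 3), (nat_lit 3), (nat_lit 5)]]
noncomputable def a_E2 : List Ent := [Ent.split [⟨[], (nat_lit 0), []⟩, ⟨[], (nat_lit 1), []⟩, ⟨[(nat_lit 29)], (nat_lit 1), [(nat_lit 3), (nat_lit 6), (nat_lit 9), (nat_lit 14)]⟩],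
  Ent.split [⟨[], (nat_lit 2), []⟩, ⟨[], (nat_lit 3), []⟩, ⟨[(nat_lit 29)], (nat_lit 3), [(nat_lit 1), (nat_lit 3), (nat_lit 5), (nat_lit 7), (nat_lit 11), (nat_lit 14), (nat_lit 18)]⟩],
  Ent.split [⟨[], (nat_lit 4), []⟩, ⟨[], (nat_lit 5), []⟩, ⟨[(nat_lit 29)], (nat_lit 4), [(nat_lit 1), (nat_lit 4), (nat_lit 8), (nat_lit 9), (nat_lit 11), (nat_lit 14), (nat_lit 15), (nat_lit 19)]⟩],
  Ent.split [⟨[], (nat_lit 6), []⟩, ⟨[], (nat_lit 7), []⟩, ⟨[(nat_lit 29)], (nat_lit 6), [(nat_lit 2), (nat_lit 4), (nat_lit 5), (nat_lit 7), (nat_lit 17), (nat_lit 20)]⟩]]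
noncomputable def a_X4 : List (List Nat) := [[],
  [(nat_lit 7)],
  [(nat_lit 5)],
  [(nat_lit 3)],
  [(nat_lit 3), (nat_lit 5)],
  [(nat_lit 1)],
  [(nat_lit 1), (nat_lit 5)],
  [(nat_lit 1), (nat_lit 3), (nat_lit 3)],
  [(nat_lit 1), (nat_lit 3), (nat_lit 3), (nat_lit 5)],
  [(nat_lit 1), (nat_lit 3), (nat_lit 3), (nat_lit 5), (nat_lit 7)]]
noncomputable def a_E3 : List Ent := [Ent.split [⟨[], (nat_lit 0), []⟩, ⟨[], (nat_lit 1), []⟩, ⟨[(nat_lit 27)], (nat_lit 1), [(nat_lit 4), (nat_lit 6), (nat_lit 10), (nat_lit 12), (nat_lit 14), (nat_lit 16), (nat_lit 17)]⟩],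
  Ent.merge [(nat_lit 3)] (nat_lit 1) [(nat_lit 8), (nat_lit 11), (nat_lit 14), (nat_lit 18)] ⟨[], (nat_lit 2), []⟩,
  Ent.merge [(nat_lit 5)] (nat_lit 2) [(nat_lit 5), (nat_lit 12), (nat_lit 16), (nat_lit 17)] ⟨[], (nat_lit 3), []⟩,
  Ent.merge [(nat_lit 5)] (nat_lit 2) [(nat_lit 7), (nat_lit 9), (nat_lit 11), (nat_lit 13), (nat_lit 15)] ⟨[], (nat_lit 4), []⟩,
  Ent.merge [(nat_lit 5)] (nat_lit 2) [(nat_lit 3), (nat_lit 6), (nat_lit 8), (nat_lit 10), (nat_lit 13), (nat_lit 18)] ⟨[], (nat_lit 5), []⟩,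
  Ent.merge [(nat_lit 5)] (nat_lit 2) [(nat_lit 3), (nat_lit 5), (nat_lit 7), (nat_lit 10), (nat_lit 12), (nat_lit 14), (nat_lit 17)] ⟨[], (nat_lit 6), []⟩,
  Ent.merge [(nat_lit 3)] (nat_lit 2) [(nat_lit 1), (nat_lit 5), (nat_lit 7), (nat_lit 10), (nat_lit 13), (nat_lit 16), (nat_lit 17)] ⟨[], (nat_lit 7), []⟩,
  Ent.split [⟨[], (nat_lit 8), []⟩, ⟨[], (nat_lit 9), []⟩, ⟨[(nat_lit 27)], (nat_lit 8), [(nat_lit 3), (nat_lit 5), (nat_lit 8), (nat_lit 14), (nat_lit 16), (nat_lit 18)]⟩]]
noncomputable def a_X5 : List (List Nat) := [[],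
  [(nat_lit 9)],
  [(nat_lit 7)],
  [(nat_lit 7), (nat_lit 9)],
  [(nat_lit 5)],
  [(nat_lit 5), (nat_lit 9), (nat_lit 9)],
  [(nat_lit 3)],
  [(nat_lit 3), (nat_lit 5)],
  [(nat_lit 1)],
  [(nat_lit 1), (nat_lit 5)],
  [(nat_lit 1), (nat_lit 3), (nat_lit 3)],
  [(nat_lit 1), (nat_lit 3), (nat_lit 3), (nat_lit 9)],
  [(nat_lit 1), (nat_lit 3), (nat_lit 3), (nat_lit 5)],
  [(nat_lit 1), (nat_lit 3), (nat_lit 3), (nat_lit 5), (nat_lit 7)]]
noncomputable def a_E4 : List Ent := [Ent.split [⟨[], (nat_lit 0), []⟩, ⟨[], (nat_lit 1), []⟩, ⟨[(nat_lit 27)], (nat_lit 1), [(nat_lit 2), (nat_lit 10), (nat_lit 12), (nat_lit 13)]⟩],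
  Ent.split [⟨[], (nat_lit 2), []⟩, ⟨[], (nat_lit 3), []⟩, ⟨[(nat_lit 27), (nat_lit 29)], (nat_lit 3), [(nat_lit 1), (nat_lit 4), (nat_lit 9)]⟩],
  Ent.split [⟨[], (nat_lit 4), []⟩, ⟨[(nat_lit 27), (nat_lit 3), (nat_lit 7), (nat_lit 9), (nat_lit 12), (nat_lit 18), (nat_lit 21), (nat_lit 25)], (nat_lit 4), [(nat_lit 2), (nat_lit 3), (nat_lit 5), (nat_lit 9), (nat_lit 11), (nat_lit 15)]⟩, ⟨[], (nat_lit 5), []⟩],
  Ent.merge [(nat_lit 1), (nat_lit 5), (nat_lit 16), (nat_lit 18), (nat_lit 24), (nat_lit 26)] (nat_lit 2) [(nat_lit 2), (nat_lit 5), (nat_lit 8), (nat_lit 11), (nat_lit 14), (nat_lit 15)] ⟨[], (nat_lit 6), []⟩,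
  Ent.merge [(nat_lit 1), (nat_lit 6)] (nat_lit 2) [(nat_lit 7), (nat_lit 11), (nat_lit 14), (nat_lit 15)] ⟨[], (nat_lit 7), []⟩,
  Ent.merge [(nat_lit 3), (nat_lit 6)] (nat_lit 1) [(nat_lit 2), (nat_lit 9), (nat_lit 16)] ⟨[], (nat_lit 8), []⟩,
  Ent.merge [(nat_lit 3)] (nat_lit 1) [(nat_lit 1), (nat_lit 6), (nat_lit 8), (nat_lit 9), (nat_lit 12)] ⟨[], (nat_lit 9), []⟩,
  Ent.split [⟨[], (nat_lit 10), []⟩, ⟨[], (nat_lit 11), []⟩, ⟨[(nat_lit 27), (nat_lit 4), (nat_lit 8), (nat_lit 10), (nat_lit 11), (nat_lit 18), (nat_lit 20), (nat_lit 24)], (nat_lit 11), [(nat_lit 1), (nat_lit 3), (nat_lit 9), (nat_lit 11), (nat_lit 15)]⟩],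
  Ent.merge [(nat_lit 3)] (nat_lit 1) [(nat_lit 1), (nat_lit 6), (nat_lit 7), (nat_lit 9), (nat_lit 11), (nat_lit 13)] ⟨[], (nat_lit 12), []⟩,
  Ent.merge [(nat_lit 3)] (nat_lit 1) [(nat_lit 1), (nat_lit 6), (nat_lit 7), (nat_lit 11), (nat_lit 13), (nat_lit 16)] ⟨[], (nat_lit 13), []⟩]
noncomputable def a_X6 : List (List Nat) := [[],
  [(nat_lit 11)],
  [(nat_lit 9)],
  [(nat_lit 7)],
  [(nat_lit 7), (nat_lit 9)],
  [(nat_lit 5)],
  [(nat_lit 5), (nat_lit 9), (nat_lit 9)],
  [(nat_lit 3)],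
  [(nat_lit 3), (nat_lit 11)],
  [(nat_lit 3), (nat_lit 5)],
  [(nat_lit 1), (nat_lit 5)],
  [(nat_lit 1), (nat_lit 3), (nat_lit 3)],
  [(nat_lit 1), (nat_lit 3), (nat_lit 3), (nat_lit 9)],
  [(nat_lit 1), (nat_lit 3), (nat_lit 3), (nat_lit 5)],
  [(nat_lit 1), (nat_lit 3), (nat_lit 3), (nat_lit 5), (nat_lit 7)]]
noncomputable def a_E5 : List Ent := [Ent.split [⟨[], (nat_lit 0), []⟩, ⟨[], (nat_lit 1), []⟩, ⟨[(nat_lit 27)], (nat_lit 1), [(nat_lit 4), (nat_lit 8), (nat_lit 10), (nat_lit 11), (nat_lit 14)]⟩],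
  Ent.merge [(nat_lit 5)] (nat_lit 2) [(nat_lit 8), (nat_lit 10), (nat_lit 11), (nat_lit 14)] ⟨[], (nat_lit 2), []⟩,
  Ent.merge [(nat_lit 1)] (nat_lit 2) [(nat_lit 1), (nat_lit 4), (nat_lit 7)] ⟨[], (nat_lit 3), []⟩,
  Ent.merge [(nat_lit 5)] (nat_lit 2) [(nat_lit 2), (nat_lit 3), (nat_lit 7), (nat_lit 11)] ⟨[], (nat_lit 4), []⟩,
  Ent.merge [(nat_lit 9)] (nat_lit 1) [(nat_lit 3), (nat_lit 5), (nat_lit 7), (nat_lit 10), (nat_lit 11)] ⟨[], (nat_lit 5), []⟩,
  Ent.merge [(nat_lit 9)] (nat_lit 1) [(nat_lit 3), (nat_lit 5), (nat_lit 7), (nat_lit 10), (nat_lit 11)] ⟨[], (nat_lit 6), []⟩,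
  Ent.split [⟨[], (nat_lit 7), []⟩, ⟨[], (nat_lit 8), []⟩, ⟨[(nat_lit 29), (nat_lit 6), (nat_lit 10), (nat_lit 12), (nat_lit 15), (nat_lit 18), (nat_lit 26)], (nat_lit 7), [(nat_lit 5), (nat_lit 8), (nat_lit 10), (nat_lit 13)]⟩],
  Ent.merge [(nat_lit 9)] (nat_lit 1) [(nat_lit 3), (nat_lit 6), (nat_lit 7), (nat_lit 11), (nat_lit 13)] ⟨[], (nat_lit 9), []⟩,
  Ent.dead (nat_lit 1) [(nat_lit 1), (nat_lit 4), (nat_lit 6), (nat_lit 8), (nat_lit 10), (nat_lit 13)],
  Ent.merge [(nat_lit 7)] (nat_lit 1) [(nat_lit 4), (nat_lit 7), (nat_lit 11)] ⟨[], (nat_lit 10), []⟩,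
  Ent.merge [(nat_lit 9)] (nat_lit 2) [] ⟨[], (nat_lit 11), []⟩,
  Ent.merge [(nat_lit 9)] (nat_lit 2) [(nat_lit 13)] ⟨[], (nat_lit 12), []⟩,
  Ent.merge [(nat_lit 7)] (nat_lit 1) [(nat_lit 4), (nat_lit 7), (nat_lit 13)] ⟨[], (nat_lit 13), []⟩,
  Ent.merge [(nat_lit 7)] (nat_lit 1) [(nat_lit 4), (nat_lit 5), (nat_lit 11), (nat_lit 14)] ⟨[], (nat_lit 14), []⟩]
noncomputable def a_X7 : List (List Nat) := [[],
  [(nat_lit 13)],
  [(nat_lit 11)],
  [(nat_lit 11), (nat_lit 13)],
  [(nat_lit 9)],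
  [(nat_lit 9), (nat_lit 13)],
  [(nat_lit 7)],
  [(nat_lit 7), (nat_lit 9)],
  [(nat_lit 5)],
  [(nat_lit 5), (nat_lit 9), (nat_lit 9)],
  [(nat_lit 3)],
  [(nat_lit 3), (nat_lit 13)],
  [(nat_lit 3), (nat_lit 13), (nat_lit 13)],
  [(nat_lit 3), (nat_lit 11)],
  [(nat_lit 3), (nat_lit 11), (nat_lit 13)],
  [(nat_lit 3), (nat_lit 11), (nat_lit 13), (nat_lit 13)],
  [(nat_lit 1), (nat_lit 5)],
  [(nat_lit 1), (nat_lit 5), (nat_lit 13)],
  [(nat_lit 1), (nat_lit 5), (nat_lit 13), (nat_lit 13)],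
  [(nat_lit 1), (nat_lit 3), (nat_lit 3)],
  [(nat_lit 1), (nat_lit 3), (nat_lit 3), (nat_lit 9)],
  [(nat_lit 1), (nat_lit 3), (nat_lit 3), (nat_lit 5)],
  [(nat_lit 1), (nat_lit 3), (nat_lit 3), (nat_lit 5), (nat_lit 7)],
  [(nat_lit 1), (nat_lit 3), (nat_lit 3), (nat_lit 5), (nat_lit 7), (nat_lit 13)]]
noncomputable def a_E6 : List Ent := [Ent.split [⟨[], (nat_lit 0), []⟩, ⟨[], (nat_lit 1), []⟩, ⟨[(nat_lit 27)], (nat_lit 1), [(nat_lit 2), (nat_lit 4), (nat_lit 5), (nat_lit 8), (nat_lit 9), (nat_lit 11)]⟩],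
  Ent.split [⟨[], (nat_lit 2), []⟩, ⟨[], (nat_lit 3), []⟩, ⟨[(nat_lit 27), (nat_lit 29)], (nat_lit 3), [(nat_lit 2), (nat_lit 3), (nat_lit 6), (nat_lit 8), (nat_lit 10)]⟩],
  Ent.split [⟨[], (nat_lit 4), []⟩, ⟨[], (nat_lit 5), []⟩, ⟨[(nat_lit 27), (nat_lit 31), (nat_lit 6), (nat_lit 8), (nat_lit 12), (nat_lit 13), (nat_lit 16), (nat_lit 18), (nat_lit 19), (nat_lit 21), (nat_lit 24), (nat_lit 25)], (nat_lit 5), [(nat_lit 3), (nat_lit 5), (nat_lit 7), (nat_lit 9), (nat_lit 11)]⟩],
  Ent.merge [(nat_lit 5)] (nat_lit 2) [(nat_lit 1), (nat_lit 3), (nat_lit 6)] ⟨[], (nat_lit 6), []⟩,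
  Ent.merge [(nat_lit 1)] (nat_lit 1) [(nat_lit 4), (nat_lit 8), (nat_lit 9), (nat_lit 11)] ⟨[], (nat_lit 7), []⟩,
  Ent.merge [(nat_lit 7)] (nat_lit 1) [(nat_lit 2), (nat_lit 10), (nat_lit 11)] ⟨[], (nat_lit 8), []⟩,
  Ent.merge [(nat_lit 7)] (nat_lit 1) [(nat_lit 2), (nat_lit 4), (nat_lit 10)] ⟨[], (nat_lit 9), []⟩,
  Ent.split [⟨[], (nat_lit 10), []⟩, ⟨[], (nat_lit 11), []⟩, ⟨[], (nat_lit 12), []⟩],
  Ent.split [⟨[], (nat_lit 13), []⟩, ⟨[], (nat_lit 14), []⟩, ⟨[], (nat_lit 15), []⟩],
  Ent.dead (nat_lit 1) [(nat_lit 6), (nat_lit 8), (nat_lit 10), (nat_lit 11)],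
  Ent.split [⟨[], (nat_lit 16), []⟩, ⟨[], (nat_lit 17), []⟩, ⟨[], (nat_lit 18), []⟩],
  Ent.merge [(nat_lit 7), (nat_lit 9)] (nat_lit 2) [(nat_lit 2), (nat_lit 3), (nat_lit 7), (nat_lit 11)] ⟨[], (nat_lit 19), []⟩,
  Ent.merge [(nat_lit 7), (nat_lit 9)] (nat_lit 2) [(nat_lit 2), (nat_lit 6), (nat_lit 7), (nat_lit 12)] ⟨[], (nat_lit 20), []⟩,
  Ent.merge [(nat_lit 5), (nat_lit 8)] (nat_lit 1) [(nat_lit 2), (nat_lit 4), (nat_lit 9)] ⟨[], (nat_lit 21), []⟩,
  Ent.split [⟨[], (nat_lit 22), []⟩, ⟨[], (nat_lit 23), []⟩, ⟨[(nat_lit 27)], (nat_lit 23), [(nat_lit 1), (nat_lit 4), (nat_lit 5), (nat_lit 8)]⟩]]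
noncomputable def a_X8 : List (List Nat) := [[],
  [(nat_lit 15)],
  [(nat_lit 13)],
  [(nat_lit 11)],
  [(nat_lit 11), (nat_lit 13)],
  [(nat_lit 9)],
  [(nat_lit 9), (nat_lit 15)],
  [(nat_lit 9), (nat_lit 15), (nat_lit 15)],
  [(nat_lit 9), (nat_lit 13)],
  [(nat_lit 7)],
  [(nat_lit 7), (nat_lit 15)],
  [(nat_lit 7), (nat_lit 9)],
  [(nat_lit 7), (nat_lit 9), (nat_lit 15)],
  [(nat_lit 7), (nat_lit 9), (nat_lit 15), (nat_lit 15)],
  [(nat_lit 5), (nat_lit 9), (nat_lit 9)],
  [(nat_lit 3)],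
  [(nat_lit 3), (nat_lit 15), (nat_lit 15)],
  [(nat_lit 3), (nat_lit 13)],
  [(nat_lit 3), (nat_lit 13), (nat_lit 15)],
  [(nat_lit 3), (nat_lit 13), (nat_lit 13)],
  [(nat_lit 3), (nat_lit 13), (nat_lit 13), (nat_lit 15)],
  [(nat_lit 3), (nat_lit 11)],
  [(nat_lit 3), (nat_lit 11), (nat_lit 15), (nat_lit 15)],
  [(nat_lit 3), (nat_lit 11), (nat_lit 13)],
  [(nat_lit 3), (nat_lit 11), (nat_lit 13), (nat_lit 15)],
  [(nat_lit 3), (nat_lit 11), (nat_lit 13), (nat_lit 13)],
  [(nat_lit 3), (nat_lit 11), (nat_lit 13), (nat_lit 13), (nat_lit 15)],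
  [(nat_lit 1), (nat_lit 5)],
  [(nat_lit 1), (nat_lit 5), (nat_lit 13)],
  [(nat_lit 1), (nat_lit 5), (nat_lit 13), (nat_lit 13)],
  [(nat_lit 1), (nat_lit 3), (nat_lit 3)],
  [(nat_lit 1), (nat_lit 3), (nat_lit 3), (nat_lit 5)],
  [(nat_lit 1), (nat_lit 3), (nat_lit 3), (nat_lit 5), (nat_lit 7)],
  [(nat_lit 1), (nat_lit 3), (nat_lit 3), (nat_lit 5), (nat_lit 7), (nat_lit 13)]]
noncomputable def a_E7 : List Ent := [Ent.split [⟨[], (nat_lit 0), []⟩, ⟨[], (nat_lit 1), []⟩, ⟨[(nat_lit 27)], (nat_lit 1), [(nat_lit 3), (nat_lit 6), (nat_lit 8), (nat_lit 9)]⟩],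
  Ent.merge [(nat_lit 1)] (nat_lit 2) [(nat_lit 2), (nat_lit 5), (nat_lit 7), (nat_lit 9)] ⟨[], (nat_lit 2), []⟩,
  Ent.merge [(nat_lit 5)] (nat_lit 2) [(nat_lit 2), (nat_lit 5), (nat_lit 10)] ⟨[], (nat_lit 3), []⟩,
  Ent.merge [(nat_lit 5)] (nat_lit 2) [(nat_lit 1), (nat_lit 8), (nat_lit 10)] ⟨[], (nat_lit 4), []⟩,
  Ent.split [⟨[], (nat_lit 5), []⟩, ⟨[], (nat_lit 6), []⟩, ⟨[], (nat_lit 7), []⟩],
  Ent.merge [(nat_lit 1), (nat_lit 5), (nat_lit 16), (nat_lit 18), (nat_lit 24), (nat_lit 26)] (nat_lit 2) [(nat_lit 5), (nat_lit 7), (nat_lit 10)] ⟨[], (nat_lit 8), []⟩,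
  Ent.split [⟨[], (nat_lit 9), []⟩, ⟨[], (nat_lit 10), []⟩, ⟨[(nat_lit 27), (nat_lit 29), (nat_lit 2), (nat_lit 4), (nat_lit 7), (nat_lit 10), (nat_lit 12), (nat_lit 14), (nat_lit 19), (nat_lit 22), (nat_lit 23), (nat_lit 26)], (nat_lit 10), [(nat_lit 2), (nat_lit 4), (nat_lit 10)]⟩],
  Ent.split [⟨[], (nat_lit 11), []⟩, ⟨[], (nat_lit 12), []⟩, ⟨[], (nat_lit 13), []⟩],
  Ent.dead (nat_lit 1) [(nat_lit 1), (nat_lit 7), (nat_lit 10)],
  Ent.merge [(nat_lit 11)] (nat_lit 1) [(nat_lit 1), (nat_lit 6), (nat_lit 9)] ⟨[], (nat_lit 14), []⟩,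
  Ent.split [⟨[], (nat_lit 15), []⟩, ⟨[(nat_lit 29), (nat_lit 31), (nat_lit 6), (nat_lit 11), (nat_lit 14), (nat_lit 16), (nat_lit 26)], (nat_lit 15), [(nat_lit 1), (nat_lit 3), (nat_lit 7)]⟩, ⟨[], (nat_lit 16), []⟩],
  Ent.split [⟨[], (nat_lit 17), []⟩, ⟨[], (nat_lit 18), []⟩, ⟨[(nat_lit 29), (nat_lit 31), (nat_lit 6), (nat_lit 11), (nat_lit 14), (nat_lit 16), (nat_lit 26)], (nat_lit 17), [(nat_lit 4), (nat_lit 6), (nat_lit 9)]⟩],
  Ent.split [⟨[], (nat_lit 19), []⟩, ⟨[], (nat_lit 20), []⟩, ⟨[(nat_lit 29), (nat_lit 31), (nat_lit 6), (nat_lit 11), (nat_lit 14), (nat_lit 16), (nat_lit 26)], (nat_lit 20), [(nat_lit 2), (nat_lit 8)]⟩],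
  Ent.split [⟨[], (nat_lit 21), []⟩, ⟨[(nat_lit 31)], (nat_lit 21), [(nat_lit 2), (nat_lit 7), (nat_lit 9)]⟩, ⟨[], (nat_lit 22), []⟩],
  Ent.split [⟨[], (nat_lit 23), []⟩, ⟨[], (nat_lit 24), []⟩, ⟨[(nat_lit 31)], (nat_lit 23), [(nat_lit 2), (nat_lit 6), (nat_lit 7)]⟩],
  Ent.split [⟨[], (nat_lit 25), []⟩, ⟨[], (nat_lit 26), []⟩, ⟨[(nat_lit 31)], (nat_lit 26), [(nat_lit 2), (nat_lit 3), (nat_lit 6), (nat_lit 7), (nat_lit 10)]⟩],
  Ent.merge [(nat_lit 13)] (nat_lit 1) [(nat_lit 1), (nat_lit 3), (nat_lit 8), (nat_lit 9)] ⟨[], (nat_lit 27), []⟩,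
  Ent.merge [(nat_lit 13)] (nat_lit 1) [(nat_lit 1), (nat_lit 3), (nat_lit 6), (nat_lit 7), (nat_lit 9)] ⟨[], (nat_lit 28), []⟩,
  Ent.merge [(nat_lit 13)] (nat_lit 1) [(nat_lit 1), (nat_lit 3), (nat_lit 5), (nat_lit 9)] ⟨[], (nat_lit 29), []⟩,
  Ent.merge [(nat_lit 13)] (nat_lit 1) [(nat_lit 2), (nat_lit 4), (nat_lit 6), (nat_lit 7), (nat_lit 10)] ⟨[], (nat_lit 30), []⟩,
  Ent.dead (nat_lit 1) [(nat_lit 2), (nat_lit 3), (nat_lit 5)],
  Ent.merge [(nat_lit 13)] (nat_lit 1) [(nat_lit 5), (nat_lit 8), (nat_lit 10)] ⟨[], (nat_lit 31), []⟩,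
  Ent.merge [(nat_lit 13)] (nat_lit 1) [(nat_lit 4), (nat_lit 5), (nat_lit 8), (nat_lit 10)] ⟨[], (nat_lit 32), []⟩,
  Ent.merge [(nat_lit 13)] (nat_lit 1) [(nat_lit 4)] ⟨[], (nat_lit 33), []⟩]
noncomputable def a_X9 : List (List Nat) := [[],
  [(nat_lit 17)],
  [(nat_lit 15)],
  [(nat_lit 13)],
  [(nat_lit 11)],
  [(nat_lit 11), (nat_lit 13)],
  [(nat_lit 9)],
  [(nat_lit 9), (nat_lit 15)],
  [(nat_lit 9), (nat_lit 15), (nat_lit 15)],
  [(nat_lit 9), (nat_lit 13)],
  [(nat_lit 7)],
  [(nat_lit 7), (nat_lit 15)],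
  [(nat_lit 7), (nat_lit 9)],
  [(nat_lit 7), (nat_lit 9), (nat_lit 15)],
  [(nat_lit 7), (nat_lit 9), (nat_lit 15), (nat_lit 15)],
  [(nat_lit 5), (nat_lit 9), (nat_lit 9)],
  [(nat_lit 5), (nat_lit 9), (nat_lit 9), (nat_lit 17)],
  [(nat_lit 3)],
  [(nat_lit 3), (nat_lit 15), (nat_lit 15)],
  [(nat_lit 3), (nat_lit 13)],
  [(nat_lit 3), (nat_lit 13), (nat_lit 15)],
  [(nat_lit 3), (nat_lit 13), (nat_lit 13)],
  [(nat_lit 3), (nat_lit 13), (nat_lit 13), (nat_lit 15)],
  [(nat_lit 3), (nat_lit 11)],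
  [(nat_lit 3), (nat_lit 11), (nat_lit 15), (nat_lit 15)],
  [(nat_lit 3), (nat_lit 11), (nat_lit 13)],
  [(nat_lit 3), (nat_lit 11), (nat_lit 13), (nat_lit 15)],
  [(nat_lit 3), (nat_lit 11), (nat_lit 13), (nat_lit 13)],
  [(nat_lit 3), (nat_lit 11), (nat_lit 13), (nat_lit 13), (nat_lit 15)],
  [(nat_lit 1), (nat_lit 5), (nat_lit 13)],
  [(nat_lit 1), (nat_lit 3), (nat_lit 3)],
  [(nat_lit 1), (nat_lit 3), (nat_lit 3), (nat_lit 17)],
  [(nat_lit 1), (nat_lit 3), (nat_lit 3), (nat_lit 17), (nat_lit 17)],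
  [(nat_lit 1), (nat_lit 3), (nat_lit 3), (nat_lit 5), (nat_lit 7)],
  [(nat_lit 1), (nat_lit 3), (nat_lit 3), (nat_lit 5), (nat_lit 7), (nat_lit 17)],
  [(nat_lit 1), (nat_lit 3), (nat_lit 3), (nat_lit 5), (nat_lit 7), (nat_lit 17), (nat_lit 17)],
  [(nat_lit 1), (nat_lit 3), (nat_lit 3), (nat_lit 5), (nat_lit 7), (nat_lit 13)]]
noncomputable def a_E8 : List Ent := [Ent.split [⟨[], (nat_lit 0), []⟩, ⟨[], (nat_lit 1), []⟩, ⟨[(nat_lit 31)], (nat_lit 1), [(nat_lit 6)]⟩],
  Ent.merge [(nat_lit 3)] (nat_lit 1) [(nat_lit 1), (nat_lit 6), (nat_lit 7)] ⟨[], (nat_lit 2), []⟩,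
  Ent.merge [(nat_lit 9)] (nat_lit 2) [(nat_lit 1), (nat_lit 5), (nat_lit 8)] ⟨[], (nat_lit 3), []⟩,
  Ent.merge [(nat_lit 7)] (nat_lit 2) [(nat_lit 8)] ⟨[], (nat_lit 4), []⟩,
  Ent.merge [(nat_lit 9)] (nat_lit 2) [(nat_lit 1), (nat_lit 5)] ⟨[], (nat_lit 5), []⟩,
  Ent.merge [(nat_lit 13)] (nat_lit 1) [(nat_lit 2), (nat_lit 5), (nat_lit 7)] ⟨[], (nat_lit 6), []⟩,
  Ent.merge [(nat_lit 13)] (nat_lit 1) [(nat_lit 2), (nat_lit 3), (nat_lit 7)] ⟨[], (nat_lit 7), []⟩,
  Ent.merge [(nat_lit 13)] (nat_lit 1) [(nat_lit 2), (nat_lit 4), (nat_lit 6), (nat_lit 7)] ⟨[], (nat_lit 8), []⟩,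
  Ent.merge [(nat_lit 13)] (nat_lit 1) [(nat_lit 2), (nat_lit 6)] ⟨[], (nat_lit 9), []⟩,
  Ent.merge [(nat_lit 11)] (nat_lit 1) [(nat_lit 5)] ⟨[], (nat_lit 10), []⟩,
  Ent.merge [(nat_lit 11)] (nat_lit 1) [(nat_lit 5)] ⟨[], (nat_lit 11), []⟩,
  Ent.merge [(nat_lit 13)] (nat_lit 1) [] ⟨[], (nat_lit 12), []⟩,
  Ent.merge [(nat_lit 13)] (nat_lit 1) [(nat_lit 3), (nat_lit 6)] ⟨[], (nat_lit 13), []⟩,
  Ent.merge [(nat_lit 13)] (nat_lit 1) [(nat_lit 4), (nat_lit 5)] ⟨[], (nat_lit 14), []⟩,
  Ent.split [⟨[], (nat_lit 15), []⟩, ⟨[], (nat_lit 16), []⟩, ⟨[(nat_lit 31), (nat_lit 7), (nat_lit 9), (nat_lit 11), (nat_lit 18), (nat_lit 20), (nat_lit 21), (nat_lit 26)], (nat_lit 15), [(nat_lit 3)]⟩],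
  Ent.merge [(nat_lit 15)] (nat_lit 2) [(nat_lit 2), (nat_lit 7)] ⟨[], (nat_lit 17), []⟩,
  Ent.merge [(nat_lit 15)] (nat_lit 2) [(nat_lit 2), (nat_lit 8)] ⟨[], (nat_lit 18), []⟩,
  Ent.merge [(nat_lit 15)] (nat_lit 2) [(nat_lit 2), (nat_lit 4)] ⟨[], (nat_lit 19), []⟩,
  Ent.merge [(nat_lit 15)] (nat_lit 2) [(nat_lit 2), (nat_lit 4), (nat_lit 8)] ⟨[], (nat_lit 20), []⟩,
  Ent.merge [(nat_lit 15)] (nat_lit 2) [(nat_lit 2), (nat_lit 3), (nat_lit 8)] ⟨[], (nat_lit 21), []⟩,
  Ent.merge [(nat_lit 15)] (nat_lit 2) [(nat_lit 2), (nat_lit 3), (nat_lit 7)] ⟨[], (nat_lit 22), []⟩,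
  Ent.merge [(nat_lit 15)] (nat_lit 2) [(nat_lit 2), (nat_lit 8)] ⟨[], (nat_lit 23), []⟩,
  Ent.merge [(nat_lit 15)] (nat_lit 2) [(nat_lit 2)] ⟨[], (nat_lit 24), []⟩,
  Ent.merge [(nat_lit 15)] (nat_lit 2) [(nat_lit 2), (nat_lit 4), (nat_lit 7)] ⟨[], (nat_lit 25), []⟩,
  Ent.merge [(nat_lit 15)] (nat_lit 2) [(nat_lit 2), (nat_lit 4)] ⟨[], (nat_lit 26), []⟩,
  Ent.merge [(nat_lit 15)] (nat_lit 2) [(nat_lit 2), (nat_lit 3)] ⟨[], (nat_lit 27), []⟩,
  Ent.merge [(nat_lit 15)] (nat_lit 2) [(nat_lit 2), (nat_lit 3), (nat_lit 8)] ⟨[], (nat_lit 28), []⟩,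
  Ent.dead (nat_lit 1) [(nat_lit 1), (nat_lit 4), (nat_lit 5), (nat_lit 7)],
  Ent.merge [(nat_lit 15)] (nat_lit 2) [(nat_lit 2), (nat_lit 4), (nat_lit 8)] ⟨[], (nat_lit 29), []⟩,
  Ent.dead (nat_lit 2) [(nat_lit 2), (nat_lit 6), (nat_lit 8)],
  Ent.split [⟨[], (nat_lit 30), []⟩, ⟨[], (nat_lit 31), []⟩, ⟨[], (nat_lit 32), []⟩],
  Ent.dead (nat_lit 2) [(nat_lit 1), (nat_lit 6), (nat_lit 7)],
  Ent.split [⟨[], (nat_lit 33), []⟩, ⟨[], (nat_lit 34), []⟩, ⟨[], (nat_lit 35), []⟩],
  Ent.merge [(nat_lit 9)] (nat_lit 2) [(nat_lit 1), (nat_lit 5)] ⟨[], (nat_lit 36), []⟩]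
noncomputable def a_X10 : List (List Nat) := [[],
  [(nat_lit 19)],
  [(nat_lit 17)],
  [(nat_lit 15)],
  [(nat_lit 13)],
  [(nat_lit 11)],
  [(nat_lit 11), (nat_lit 13)],
  [(nat_lit 9)],
  [(nat_lit 9), (nat_lit 15)],
  [(nat_lit 9), (nat_lit 15), (nat_lit 19)],
  [(nat_lit 9), (nat_lit 15), (nat_lit 15)],
  [(nat_lit 9), (nat_lit 13)],
  [(nat_lit 7)],
  [(nat_lit 7), (nat_lit 15)],
  [(nat_lit 7), (nat_lit 9)],
  [(nat_lit 7), (nat_lit 9), (nat_lit 15)],
  [(nat_lit 7), (nat_lit 9), (nat_lit 15), (nat_lit 15)],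
  [(nat_lit 5), (nat_lit 9), (nat_lit 9)],
  [(nat_lit 5), (nat_lit 9), (nat_lit 9), (nat_lit 17)],
  [(nat_lit 3)],
  [(nat_lit 3), (nat_lit 15), (nat_lit 15)],
  [(nat_lit 3), (nat_lit 13)],
  [(nat_lit 3), (nat_lit 13), (nat_lit 15)],
  [(nat_lit 3), (nat_lit 13), (nat_lit 13)],
  [(nat_lit 3), (nat_lit 13), (nat_lit 13), (nat_lit 15)],
  [(nat_lit 3), (nat_lit 11)],
  [(nat_lit 3), (nat_lit 11), (nat_lit 15), (nat_lit 15)],
  [(nat_lit 3), (nat_lit 11), (nat_lit 15), (nat_lit 15), (nat_lit 19)],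
  [(nat_lit 3), (nat_lit 11), (nat_lit 13)],
  [(nat_lit 3), (nat_lit 11), (nat_lit 13), (nat_lit 15)],
  [(nat_lit 3), (nat_lit 11), (nat_lit 13), (nat_lit 13)],
  [(nat_lit 3), (nat_lit 11), (nat_lit 13), (nat_lit 13), (nat_lit 15)],
  [(nat_lit 1), (nat_lit 5), (nat_lit 13)],
  [(nat_lit 1), (nat_lit 3), (nat_lit 3)],
  [(nat_lit 1), (nat_lit 3), (nat_lit 3), (nat_lit 17)],
  [(nat_lit 1), (nat_lit 3), (nat_lit 3), (nat_lit 17), (nat_lit 17)],
  [(nat_lit 1), (nat_lit 3), (nat_lit 3), (nat_lit 5), (nat_lit 7)],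
  [(nat_lit 1), (nat_lit 3), (nat_lit 3), (nat_lit 5), (nat_lit 7), (nat_lit 17)],
  [(nat_lit 1), (nat_lit 3), (nat_lit 3), (nat_lit 5), (nat_lit 7), (nat_lit 17), (nat_lit 19)],
  [(nat_lit 1), (nat_lit 3), (nat_lit 3), (nat_lit 5), (nat_lit 7), (nat_lit 17), (nat_lit 17)],
  [(nat_lit 1), (nat_lit 3), (nat_lit 3), (nat_lit 5), (nat_lit 7), (nat_lit 13)]]
noncomputable def a_E9 : List Ent := [Ent.split [⟨[], (nat_lit 0), []⟩, ⟨[], (nat_lit 1), []⟩, ⟨[(nat_lit 29)], (nat_lit 1), [(nat_lit 6)]⟩],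
  Ent.merge [(nat_lit 5)] (nat_lit 1) [(nat_lit 5)] ⟨[], (nat_lit 2), []⟩,
  Ent.merge [(nat_lit 7)] (nat_lit 2) [] ⟨[], (nat_lit 3), []⟩,
  Ent.merge [(nat_lit 11)] (nat_lit 1) [(nat_lit 2), (nat_lit 4), (nat_lit 5)] ⟨[], (nat_lit 4), []⟩,
  Ent.merge [(nat_lit 13)] (nat_lit 2) [(nat_lit 1), (nat_lit 3), (nat_lit 5)] ⟨[], (nat_lit 5), []⟩,
  Ent.merge [(nat_lit 13)] (nat_lit 2) [(nat_lit 1), (nat_lit 3), (nat_lit 5)] ⟨[], (nat_lit 6), []⟩,
  Ent.merge [(nat_lit 7)] (nat_lit 1) [(nat_lit 3), (nat_lit 5)] ⟨[], (nat_lit 7), []⟩,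
  Ent.split [⟨[], (nat_lit 8), []⟩, ⟨[], (nat_lit 9), []⟩, ⟨[(nat_lit 29)], (nat_lit 8), [(nat_lit 5)]⟩],
  Ent.merge [(nat_lit 7)] (nat_lit 2) [(nat_lit 3), (nat_lit 5)] ⟨[], (nat_lit 10), []⟩,
  Ent.merge [(nat_lit 11)] (nat_lit 1) [(nat_lit 2), (nat_lit 4)] ⟨[], (nat_lit 11), []⟩,
  Ent.merge [(nat_lit 15)] (nat_lit 1) [(nat_lit 3), (nat_lit 5)] ⟨[], (nat_lit 12), []⟩,
  Ent.merge [(nat_lit 15)] (nat_lit 1) [(nat_lit 3), (nat_lit 5)] ⟨[], (nat_lit 13), []⟩,
  Ent.merge [(nat_lit 15)] (nat_lit 1) [(nat_lit 3), (nat_lit 5)] ⟨[], (nat_lit 14), []⟩,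
  Ent.merge [(nat_lit 15)] (nat_lit 1) [(nat_lit 3), (nat_lit 5)] ⟨[], (nat_lit 15), []⟩,
  Ent.merge [(nat_lit 15)] (nat_lit 1) [(nat_lit 3), (nat_lit 5)] ⟨[], (nat_lit 16), []⟩,
  Ent.merge [(nat_lit 17)] (nat_lit 2) [(nat_lit 1), (nat_lit 3)] ⟨[], (nat_lit 17), []⟩,
  Ent.merge [(nat_lit 17)] (nat_lit 2) [(nat_lit 1), (nat_lit 3)] ⟨[], (nat_lit 18), []⟩,
  Ent.merge [(nat_lit 13), (nat_lit 16)] (nat_lit 1) [(nat_lit 4), (nat_lit 6)] ⟨[], (nat_lit 19), []⟩,
  Ent.merge [(nat_lit 13), (nat_lit 16)] (nat_lit 1) [(nat_lit 2)] ⟨[], (nat_lit 20), []⟩,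
  Ent.merge [(nat_lit 13), (nat_lit 16)] (nat_lit 1) [(nat_lit 1), (nat_lit 3), (nat_lit 5)] ⟨[], (nat_lit 21), []⟩,
  Ent.merge [(nat_lit 13), (nat_lit 16)] (nat_lit 1) [(nat_lit 2)] ⟨[], (nat_lit 22), []⟩,
  Ent.merge [(nat_lit 13), (nat_lit 16)] (nat_lit 1) [(nat_lit 2)] ⟨[], (nat_lit 23), []⟩,
  Ent.merge [(nat_lit 13), (nat_lit 16)] (nat_lit 1) [(nat_lit 4), (nat_lit 6)] ⟨[], (nat_lit 24), []⟩,
  Ent.merge [(nat_lit 7)] (nat_lit 2) [(nat_lit 4), (nat_lit 6)] ⟨[], (nat_lit 25), []⟩,
  Ent.split [⟨[], (nat_lit 26), []⟩, ⟨[], (nat_lit 27), []⟩, ⟨[(nat_lit 29), (nat_lit 6), (nat_lit 10), (nat_lit 12), (nat_lit 16), (nat_lit 18), (nat_lit 19), (nat_lit 22), (nat_lit 24), (nat_lit 26)], (nat_lit 27), [(nat_lit 2), (nat_lit 4)]⟩],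
  Ent.merge [(nat_lit 11)] (nat_lit 1) [(nat_lit 2), (nat_lit 5)] ⟨[], (nat_lit 28), []⟩,
  Ent.merge [(nat_lit 11)] (nat_lit 1) [(nat_lit 2)] ⟨[], (nat_lit 29), []⟩,
  Ent.merge [(nat_lit 11)] (nat_lit 2) [(nat_lit 1), (nat_lit 4), (nat_lit 6)] ⟨[], (nat_lit 30), []⟩,
  Ent.merge [(nat_lit 11)] (nat_lit 2) [(nat_lit 1), (nat_lit 4), (nat_lit 5)] ⟨[], (nat_lit 31), []⟩,
  Ent.merge [(nat_lit 11)] (nat_lit 1) [(nat_lit 2), (nat_lit 6)] ⟨[], (nat_lit 32), []⟩,
  Ent.merge [(nat_lit 17)] (nat_lit 1) [(nat_lit 4), (nat_lit 5)] ⟨[], (nat_lit 33), []⟩,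
  Ent.merge [(nat_lit 17)] (nat_lit 1) [(nat_lit 4), (nat_lit 5)] ⟨[], (nat_lit 34), []⟩,
  Ent.merge [(nat_lit 17)] (nat_lit 1) [(nat_lit 4), (nat_lit 5)] ⟨[], (nat_lit 35), []⟩,
  Ent.merge [(nat_lit 5), (nat_lit 8)] (nat_lit 2) [(nat_lit 2), (nat_lit 6)] ⟨[], (nat_lit 36), []⟩,
  Ent.split [⟨[], (nat_lit 37), []⟩, ⟨[], (nat_lit 38), []⟩, ⟨[(nat_lit 29), (nat_lit 8), (nat_lit 18), (nat_lit 19), (nat_lit 23), (nat_lit 25)], (nat_lit 37), [(nat_lit 3)]⟩],
  Ent.merge [(nat_lit 5), (nat_lit 8)] (nat_lit 1) [(nat_lit 2), (nat_lit 4)] ⟨[], (nat_lit 39), []⟩,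
  Ent.merge [(nat_lit 11)] (nat_lit 1) [(nat_lit 2), (nat_lit 4), (nat_lit 6)] ⟨[], (nat_lit 40), []⟩]
noncomputable def a_X11 : List (List Nat) := [[],
  [(nat_lit 21)],
  [(nat_lit 19)],
  [(nat_lit 17)],
  [(nat_lit 17), (nat_lit 21)],
  [(nat_lit 17), (nat_lit 21), (nat_lit 21)],
  [(nat_lit 15)],
  [(nat_lit 13)],
  [(nat_lit 11)],
  [(nat_lit 11), (nat_lit 21), (nat_lit 21)],
  [(nat_lit 11), (nat_lit 13)],
  [(nat_lit 9)],
  [(nat_lit 9), (nat_lit 15)],
  [(nat_lit 9), (nat_lit 15), (nat_lit 19)],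
  [(nat_lit 9), (nat_lit 15), (nat_lit 15)],
  [(nat_lit 9), (nat_lit 15), (nat_lit 15), (nat_lit 21)],
  [(nat_lit 9), (nat_lit 13)],
  [(nat_lit 7)],
  [(nat_lit 7), (nat_lit 21)],
  [(nat_lit 7), (nat_lit 15)],
  [(nat_lit 7), (nat_lit 9)],
  [(nat_lit 7), (nat_lit 9), (nat_lit 15)],
  [(nat_lit 7), (nat_lit 9), (nat_lit 15), (nat_lit 15)],
  [(nat_lit 5), (nat_lit 9), (nat_lit 9), (nat_lit 17)],
  [(nat_lit 3)],
  [(nat_lit 3), (nat_lit 15), (nat_lit 15)],
  [(nat_lit 3), (nat_lit 13)],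
  [(nat_lit 3), (nat_lit 13), (nat_lit 15)],
  [(nat_lit 3), (nat_lit 13), (nat_lit 13)],
  [(nat_lit 3), (nat_lit 13), (nat_lit 13), (nat_lit 15)],
  [(nat_lit 3), (nat_lit 11)],
  [(nat_lit 3), (nat_lit 11), (nat_lit 15), (nat_lit 15)],
  [(nat_lit 3), (nat_lit 11), (nat_lit 15), (nat_lit 15), (nat_lit 19)],
  [(nat_lit 3), (nat_lit 11), (nat_lit 13)],
  [(nat_lit 3), (nat_lit 11), (nat_lit 13), (nat_lit 15)],
  [(nat_lit 3), (nat_lit 11), (nat_lit 13), (nat_lit 15), (nat_lit 21), (nat_lit 21)],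
  [(nat_lit 3), (nat_lit 11), (nat_lit 13), (nat_lit 13)],
  [(nat_lit 3), (nat_lit 11), (nat_lit 13), (nat_lit 13), (nat_lit 15)],
  [(nat_lit 1), (nat_lit 5), (nat_lit 13)],
  [(nat_lit 1), (nat_lit 5), (nat_lit 13), (nat_lit 21)],
  [(nat_lit 1), (nat_lit 5), (nat_lit 13), (nat_lit 21), (nat_lit 21)],
  [(nat_lit 1), (nat_lit 3), (nat_lit 3), (nat_lit 17)],
  [(nat_lit 1), (nat_lit 3), (nat_lit 3), (nat_lit 5), (nat_lit 7)],
  [(nat_lit 1), (nat_lit 3), (nat_lit 3), (nat_lit 5), (nat_lit 7), (nat_lit 21)],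
  [(nat_lit 1), (nat_lit 3), (nat_lit 3), (nat_lit 5), (nat_lit 7), (nat_lit 21), (nat_lit 21)],
  [(nat_lit 1), (nat_lit 3), (nat_lit 3), (nat_lit 5), (nat_lit 7), (nat_lit 17)],
  [(nat_lit 1), (nat_lit 3), (nat_lit 3), (nat_lit 5), (nat_lit 7), (nat_lit 17), (nat_lit 19)],
  [(nat_lit 1), (nat_lit 3), (nat_lit 3), (nat_lit 5), (nat_lit 7), (nat_lit 17), (nat_lit 19), (nat_lit 21)],
  [(nat_lit 1), (nat_lit 3), (nat_lit 3), (nat_lit 5), (nat_lit 7), (nat_lit 17), (nat_lit 19), (nat_lit 21), (nat_lit 21)],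
  [(nat_lit 1), (nat_lit 3), (nat_lit 3), (nat_lit 5), (nat_lit 7), (nat_lit 17), (nat_lit 17)],
  [(nat_lit 1), (nat_lit 3), (nat_lit 3), (nat_lit 5), (nat_lit 7), (nat_lit 17), (nat_lit 17), (nat_lit 21)],
  [(nat_lit 1), (nat_lit 3), (nat_lit 3), (nat_lit 5), (nat_lit 7), (nat_lit 17), (nat_lit 17), (nat_lit 21), (nat_lit 21)]]
noncomputable def a_E10 : List Ent := [Ent.split [⟨[], (nat_lit 0), []⟩, ⟨[], (nat_lit 1), []⟩, ⟨[(nat_lit 31)], (nat_lit 1), []⟩],
  Ent.merge [(nat_lit 5)] (nat_lit 1) [(nat_lit 1)] ⟨[], (nat_lit 2), []⟩,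
  Ent.split [⟨[], (nat_lit 3), []⟩, ⟨[], (nat_lit 4), []⟩, ⟨[], (nat_lit 5), []⟩],
  Ent.merge [(nat_lit 13)] (nat_lit 1) [(nat_lit 2), (nat_lit 4)] ⟨[], (nat_lit 6), []⟩,
  Ent.merge [(nat_lit 15)] (nat_lit 2) [(nat_lit 1), (nat_lit 3)] ⟨[], (nat_lit 7), []⟩,
  Ent.split [⟨[], (nat_lit 8), []⟩, ⟨[(nat_lit 27), (nat_lit 31), (nat_lit 6), (nat_lit 8), (nat_lit 12), (nat_lit 13), (nat_lit 16), (nat_lit 18), (nat_lit 19), (nat_lit 21), (nat_lit 24), (nat_lit 25)], (nat_lit 8), [(nat_lit 1), (nat_lit 4)]⟩, ⟨[], (nat_lit 9), []⟩],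
  Ent.merge [(nat_lit 15)] (nat_lit 2) [(nat_lit 1), (nat_lit 4)] ⟨[], (nat_lit 10), []⟩,
  Ent.merge [(nat_lit 3), (nat_lit 8), (nat_lit 13), (nat_lit 20), (nat_lit 24), (nat_lit 26)] (nat_lit 2) [(nat_lit 4)] ⟨[], (nat_lit 11), []⟩,
  Ent.merge [(nat_lit 3)] (nat_lit 2) [(nat_lit 1), (nat_lit 4)] ⟨[], (nat_lit 12), []⟩,
  Ent.merge [(nat_lit 3)] (nat_lit 2) [(nat_lit 4)] ⟨[], (nat_lit 13), []⟩,
  Ent.split [⟨[], (nat_lit 14), []⟩, ⟨[], (nat_lit 15), []⟩, ⟨[(nat_lit 27), (nat_lit 31), (nat_lit 6), (nat_lit 8), (nat_lit 12), (nat_lit 14), (nat_lit 16), (nat_lit 18), (nat_lit 21), (nat_lit 23)], (nat_lit 15), [(nat_lit 1), (nat_lit 3)]⟩],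
  Ent.merge [(nat_lit 15)] (nat_lit 2) [(nat_lit 1), (nat_lit 3)] ⟨[], (nat_lit 16), []⟩,
  Ent.split [⟨[], (nat_lit 17), []⟩, ⟨[], (nat_lit 18), []⟩, ⟨[(nat_lit 31), (nat_lit 11), (nat_lit 18), (nat_lit 20), (nat_lit 21), (nat_lit 24), (nat_lit 25)], (nat_lit 18), [(nat_lit 1), (nat_lit 3)]⟩],
  Ent.merge [(nat_lit 13), (nat_lit 16)] (nat_lit 1) [] ⟨[], (nat_lit 19), []⟩,
  Ent.merge [(nat_lit 3), (nat_lit 14)] (nat_lit 2) [(nat_lit 1)] ⟨[], (nat_lit 20), []⟩,
  Ent.merge [(nat_lit 11), (nat_lit 14)] (nat_lit 2) [(nat_lit 1), (nat_lit 3)] ⟨[], (nat_lit 21), []⟩,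
  Ent.merge [(nat_lit 11), (nat_lit 14)] (nat_lit 1) [(nat_lit 2), (nat_lit 3)] ⟨[], (nat_lit 22), []⟩,
  Ent.dead (nat_lit 2) [(nat_lit 2)],
  Ent.merge [(nat_lit 19)] (nat_lit 2) [(nat_lit 2)] ⟨[], (nat_lit 23), []⟩,
  Ent.merge [(nat_lit 9), (nat_lit 15)] (nat_lit 1) [(nat_lit 3)] ⟨[], (nat_lit 24), []⟩,
  Ent.merge [(nat_lit 9), (nat_lit 15)] (nat_lit 1) [(nat_lit 3)] ⟨[], (nat_lit 25), []⟩,
  Ent.merge [(nat_lit 11), (nat_lit 14), (nat_lit 15), (nat_lit 21), (nat_lit 24), (nat_lit 26)] (nat_lit 1) [(nat_lit 2), (nat_lit 3)] ⟨[], (nat_lit 26), []⟩,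
  Ent.merge [(nat_lit 7), (nat_lit 13), (nat_lit 22), (nat_lit 23), (nat_lit 25)] (nat_lit 1) [(nat_lit 3)] ⟨[], (nat_lit 27), []⟩,
  Ent.merge [(nat_lit 9), (nat_lit 14)] (nat_lit 1) [(nat_lit 3)] ⟨[], (nat_lit 28), []⟩,
  Ent.merge [(nat_lit 11), (nat_lit 13), (nat_lit 16)] (nat_lit 1) [(nat_lit 1), (nat_lit 4)] ⟨[], (nat_lit 29), []⟩,
  Ent.merge [(nat_lit 13), (nat_lit 16)] (nat_lit 1) [] ⟨[], (nat_lit 30), []⟩,
  Ent.merge [(nat_lit 9), (nat_lit 15)] (nat_lit 1) [] ⟨[], (nat_lit 31), []⟩,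
  Ent.merge [(nat_lit 9), (nat_lit 15)] (nat_lit 1) [] ⟨[], (nat_lit 32), []⟩,
  Ent.merge [(nat_lit 13), (nat_lit 16)] (nat_lit 2) [(nat_lit 2), (nat_lit 4)] ⟨[], (nat_lit 33), []⟩,
  Ent.split [⟨[], (nat_lit 34), []⟩, ⟨[(nat_lit 31), (nat_lit 12), (nat_lit 15), (nat_lit 17), (nat_lit 25)], (nat_lit 34), []⟩, ⟨[], (nat_lit 35), []⟩],
  Ent.merge [(nat_lit 9), (nat_lit 11), (nat_lit 16), (nat_lit 26)] (nat_lit 1) [(nat_lit 2)] ⟨[], (nat_lit 36), []⟩,
  Ent.merge [(nat_lit 13), (nat_lit 16)] (nat_lit 1) [] ⟨[], (nat_lit 37), []⟩,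
  Ent.split [⟨[], (nat_lit 38), []⟩, ⟨[], (nat_lit 39), []⟩, ⟨[], (nat_lit 40), []⟩],
  Ent.dead (nat_lit 2) [],
  Ent.merge [(nat_lit 19)] (nat_lit 1) [(nat_lit 3)] ⟨[], (nat_lit 41), []⟩,
  Ent.dead (nat_lit 1) [],
  Ent.split [⟨[], (nat_lit 42), []⟩, ⟨[], (nat_lit 43), []⟩, ⟨[], (nat_lit 44), []⟩],
  Ent.merge [(nat_lit 5), (nat_lit 8)] (nat_lit 2) [(nat_lit 1), (nat_lit 3)] ⟨[], (nat_lit 45), []⟩,
  Ent.split [⟨[], (nat_lit 46), []⟩, ⟨[], (nat_lit 47), []⟩, ⟨[], (nat_lit 48), []⟩],
  Ent.split [⟨[], (nat_lit 49), []⟩, ⟨[], (nat_lit 50), []⟩, ⟨[], (nat_lit 51), []⟩],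
  Ent.dead (nat_lit 1) [(nat_lit 2), (nat_lit 4)]]
noncomputable def a_X12 : List (List Nat) := [[],
  [(nat_lit 23)],
  [(nat_lit 21)],
  [(nat_lit 19)],
  [(nat_lit 17)],
  [(nat_lit 17), (nat_lit 21)],
  [(nat_lit 17), (nat_lit 21), (nat_lit 21)],
  [(nat_lit 15)],
  [(nat_lit 15), (nat_lit 23)],
  [(nat_lit 15), (nat_lit 23), (nat_lit 23)],
  [(nat_lit 13)],
  [(nat_lit 11)],
  [(nat_lit 11), (nat_lit 21), (nat_lit 21)],
  [(nat_lit 11), (nat_lit 21), (nat_lit 21), (nat_lit 23)],
  [(nat_lit 11), (nat_lit 13)],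
  [(nat_lit 9)],
  [(nat_lit 9), (nat_lit 23)],
  [(nat_lit 9), (nat_lit 23), (nat_lit 23)],
  [(nat_lit 9), (nat_lit 15)],
  [(nat_lit 9), (nat_lit 15), (nat_lit 19)],
  [(nat_lit 9), (nat_lit 15), (nat_lit 19), (nat_lit 23)],
  [(nat_lit 9), (nat_lit 15), (nat_lit 19), (nat_lit 23), (nat_lit 23)],
  [(nat_lit 9), (nat_lit 15), (nat_lit 15)],
  [(nat_lit 9), (nat_lit 15), (nat_lit 15), (nat_lit 23)],
  [(nat_lit 9), (nat_lit 15), (nat_lit 15), (nat_lit 23), (nat_lit 23)],
  [(nat_lit 9), (nat_lit 15), (nat_lit 15), (nat_lit 21)],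
  [(nat_lit 7)],
  [(nat_lit 7), (nat_lit 21)],
  [(nat_lit 7), (nat_lit 9), (nat_lit 15)],
  [(nat_lit 5), (nat_lit 9), (nat_lit 9), (nat_lit 17)],
  [(nat_lit 5), (nat_lit 9), (nat_lit 9), (nat_lit 17), (nat_lit 23)],
  [(nat_lit 3), (nat_lit 15), (nat_lit 15)],
  [(nat_lit 3), (nat_lit 13)],
  [(nat_lit 3), (nat_lit 13), (nat_lit 15)],
  [(nat_lit 3), (nat_lit 13), (nat_lit 13)],
  [(nat_lit 3), (nat_lit 11), (nat_lit 15), (nat_lit 15)],
  [(nat_lit 3), (nat_lit 11), (nat_lit 15), (nat_lit 15), (nat_lit 19)],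
  [(nat_lit 3), (nat_lit 11), (nat_lit 13)],
  [(nat_lit 3), (nat_lit 11), (nat_lit 13), (nat_lit 15)],
  [(nat_lit 3), (nat_lit 11), (nat_lit 13), (nat_lit 15), (nat_lit 21), (nat_lit 21)],
  [(nat_lit 3), (nat_lit 11), (nat_lit 13), (nat_lit 13)],
  [(nat_lit 1), (nat_lit 5), (nat_lit 13)],
  [(nat_lit 1), (nat_lit 5), (nat_lit 13), (nat_lit 21)],
  [(nat_lit 1), (nat_lit 5), (nat_lit 13), (nat_lit 21), (nat_lit 21)],
  [(nat_lit 1), (nat_lit 3), (nat_lit 3), (nat_lit 17)],
  [(nat_lit 1), (nat_lit 3), (nat_lit 3), (nat_lit 5), (nat_lit 7)],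
  [(nat_lit 1), (nat_lit 3), (nat_lit 3), (nat_lit 5), (nat_lit 7), (nat_lit 23)],
  [(nat_lit 1), (nat_lit 3), (nat_lit 3), (nat_lit 5), (nat_lit 7), (nat_lit 21)],
  [(nat_lit 1), (nat_lit 3), (nat_lit 3), (nat_lit 5), (nat_lit 7), (nat_lit 21), (nat_lit 23), (nat_lit 23)],
  [(nat_lit 1), (nat_lit 3), (nat_lit 3), (nat_lit 5), (nat_lit 7), (nat_lit 21), (nat_lit 21)],
  [(nat_lit 1), (nat_lit 3), (nat_lit 3), (nat_lit 5), (nat_lit 7), (nat_lit 21), (nat_lit 21), (nat_lit 23)],
  [(nat_lit 1), (nat_lit 3), (nat_lit 3), (nat_lit 5), (nat_lit 7), (nat_lit 17)],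
  [(nat_lit 1), (nat_lit 3), (nat_lit 3), (nat_lit 5), (nat_lit 7), (nat_lit 17), (nat_lit 23), (nat_lit 23)],
  [(nat_lit 1), (nat_lit 3), (nat_lit 3), (nat_lit 5), (nat_lit 7), (nat_lit 17), (nat_lit 19)],
  [(nat_lit 1), (nat_lit 3), (nat_lit 3), (nat_lit 5), (nat_lit 7), (nat_lit 17), (nat_lit 19), (nat_lit 23)],
  [(nat_lit 1), (nat_lit 3), (nat_lit 3), (nat_lit 5), (nat_lit 7), (nat_lit 17), (nat_lit 19), (nat_lit 21)],
  [(nat_lit 1), (nat_lit 3), (nat_lit 3), (nat_lit 5), (nat_lit 7), (nat_lit 17), (nat_lit 19), (nat_lit 21), (nat_lit 23), (nat_lit 23)],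
  [(nat_lit 1), (nat_lit 3), (nat_lit 3), (nat_lit 5), (nat_lit 7), (nat_lit 17), (nat_lit 19), (nat_lit 21), (nat_lit 21)],
  [(nat_lit 1), (nat_lit 3), (nat_lit 3), (nat_lit 5), (nat_lit 7), (nat_lit 17), (nat_lit 19), (nat_lit 21), (nat_lit 21), (nat_lit 23)],
  [(nat_lit 1), (nat_lit 3), (nat_lit 3), (nat_lit 5), (nat_lit 7), (nat_lit 17), (nat_lit 17)],
  [(nat_lit 1), (nat_lit 3), (nat_lit 3), (nat_lit 5), (nat_lit 7), (nat_lit 17), (nat_lit 17), (nat_lit 23)],
  [(nat_lit 1), (nat_lit 3), (nat_lit 3), (nat_lit 5), (nat_lit 7), (nat_lit 17), (nat_lit 17), (nat_lit 21)],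
  [(nat_lit 1), (nat_lit 3), (nat_lit 3), (nat_lit 5), (nat_lit 7), (nat_lit 17), (nat_lit 17), (nat_lit 21), (nat_lit 23)],
  [(nat_lit 1), (nat_lit 3), (nat_lit 3), (nat_lit 5), (nat_lit 7), (nat_lit 17), (nat_lit 17), (nat_lit 21), (nat_lit 21)],
  [(nat_lit 1), (nat_lit 3), (nat_lit 3), (nat_lit 5), (nat_lit 7), (nat_lit 17), (nat_lit 17), (nat_lit 21), (nat_lit 21), (nat_lit 23), (nat_lit 23)]]
noncomputable def a_E11 : List Ent := [Ent.split [⟨[], (nat_lit 0), []⟩, ⟨[], (nat_lit 1), []⟩, ⟨[(nat_lit 27)], (nat_lit 1), [(nat_lit 2)]⟩],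
  Ent.merge [(nat_lit 3)] (nat_lit 2) [(nat_lit 2)] ⟨[], (nat_lit 2), []⟩,
  Ent.merge [(nat_lit 7)] (nat_lit 2) [(nat_lit 2)] ⟨[], (nat_lit 3), []⟩,
  Ent.merge [(nat_lit 13)] (nat_lit 2) [(nat_lit 1)] ⟨[], (nat_lit 4), []⟩,
  Ent.merge [(nat_lit 13)] (nat_lit 2) [(nat_lit 1)] ⟨[], (nat_lit 5), []⟩,
  Ent.merge [(nat_lit 13)] (nat_lit 2) [(nat_lit 1)] ⟨[], (nat_lit 6), []⟩,
  Ent.split [⟨[], (nat_lit 7), []⟩, ⟨[], (nat_lit 8), []⟩, ⟨[], (nat_lit 9), []⟩],
  Ent.merge [(nat_lit 17)] (nat_lit 1) [(nat_lit 2)] ⟨[], (nat_lit 10), []⟩,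
  Ent.merge [(nat_lit 3)] (nat_lit 2) [] ⟨[], (nat_lit 11), []⟩,
  Ent.split [⟨[], (nat_lit 12), []⟩, ⟨[], (nat_lit 13), []⟩, ⟨[(nat_lit 27), (nat_lit 29), (nat_lit 8), (nat_lit 12), (nat_lit 14), (nat_lit 16), (nat_lit 18), (nat_lit 21), (nat_lit 25)], (nat_lit 13), [(nat_lit 1)]⟩],
  Ent.merge [(nat_lit 17)] (nat_lit 1) [(nat_lit 1)] ⟨[], (nat_lit 14), []⟩,
  Ent.split [⟨[], (nat_lit 15), []⟩, ⟨[], (nat_lit 16), []⟩, ⟨[], (nat_lit 17), []⟩],
  Ent.merge [(nat_lit 7)] (nat_lit 1) [(nat_lit 1)] ⟨[], (nat_lit 18), []⟩,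
  Ent.split [⟨[], (nat_lit 19), []⟩, ⟨[], (nat_lit 20), []⟩, ⟨[], (nat_lit 21), []⟩],
  Ent.split [⟨[], (nat_lit 22), []⟩, ⟨[], (nat_lit 23), []⟩, ⟨[], (nat_lit 24), []⟩],
  Ent.merge [(nat_lit 3), (nat_lit 8), (nat_lit 14), (nat_lit 19), (nat_lit 23), (nat_lit 25)] (nat_lit 2) [] ⟨[], (nat_lit 25), []⟩,
  Ent.dead (nat_lit 2) [],
  Ent.merge [(nat_lit 19)] (nat_lit 1) [(nat_lit 1)] ⟨[], (nat_lit 26), []⟩,
  Ent.merge [(nat_lit 19)] (nat_lit 1) [(nat_lit 1)] ⟨[], (nat_lit 27), []⟩,
  Ent.dead (nat_lit 1) [(nat_lit 1)],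
  Ent.dead (nat_lit 2) [(nat_lit 2)],
  Ent.merge [(nat_lit 19)] (nat_lit 1) [(nat_lit 1)] ⟨[], (nat_lit 28), []⟩,
  Ent.dead (nat_lit 1) [(nat_lit 1)],
  Ent.split [⟨[], (nat_lit 29), []⟩, ⟨[], (nat_lit 30), []⟩, ⟨[(nat_lit 27), (nat_lit 3), (nat_lit 8), (nat_lit 9), (nat_lit 12), (nat_lit 13), (nat_lit 15), (nat_lit 17), (nat_lit 21), (nat_lit 24)], (nat_lit 30), [(nat_lit 2)]⟩],
  Ent.dead (nat_lit 2) [],
  Ent.merge [(nat_lit 21)] (nat_lit 1) [(nat_lit 1)] ⟨[], (nat_lit 31), []⟩,
  Ent.merge [(nat_lit 21)] (nat_lit 1) [(nat_lit 1)] ⟨[], (nat_lit 32), []⟩,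
  Ent.merge [(nat_lit 21)] (nat_lit 1) [(nat_lit 1)] ⟨[], (nat_lit 33), []⟩,
  Ent.merge [(nat_lit 21)] (nat_lit 1) [(nat_lit 1)] ⟨[], (nat_lit 34), []⟩,
  Ent.dead (nat_lit 1) [],
  Ent.dead (nat_lit 2) [],
  Ent.merge [(nat_lit 21)] (nat_lit 1) [(nat_lit 1)] ⟨[], (nat_lit 35), []⟩,
  Ent.merge [(nat_lit 21)] (nat_lit 1) [(nat_lit 1)] ⟨[], (nat_lit 36), []⟩,
  Ent.merge [(nat_lit 21)] (nat_lit 1) [(nat_lit 1)] ⟨[], (nat_lit 37), []⟩,
  Ent.merge [(nat_lit 21)] (nat_lit 1) [(nat_lit 1)] ⟨[], (nat_lit 38), []⟩,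
  Ent.merge [(nat_lit 21)] (nat_lit 1) [(nat_lit 1)] ⟨[], (nat_lit 39), []⟩,
  Ent.merge [(nat_lit 21)] (nat_lit 1) [(nat_lit 1)] ⟨[], (nat_lit 40), []⟩,
  Ent.dead (nat_lit 1) [(nat_lit 2)],
  Ent.merge [(nat_lit 21)] (nat_lit 1) [(nat_lit 2)] ⟨[], (nat_lit 41), []⟩,
  Ent.merge [(nat_lit 21)] (nat_lit 1) [(nat_lit 2)] ⟨[], (nat_lit 42), []⟩,
  Ent.merge [(nat_lit 21)] (nat_lit 1) [(nat_lit 2)] ⟨[], (nat_lit 43), []⟩,
  Ent.merge [(nat_lit 11), (nat_lit 13), (nat_lit 18)] (nat_lit 1) [(nat_lit 2)] ⟨[], (nat_lit 44), []⟩,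
  Ent.split [⟨[], (nat_lit 45), []⟩, ⟨[], (nat_lit 46), []⟩, ⟨[(nat_lit 27), (nat_lit 6), (nat_lit 7), (nat_lit 10), (nat_lit 13), (nat_lit 20), (nat_lit 24)], (nat_lit 46), []⟩],
  Ent.split [⟨[], (nat_lit 47), []⟩, ⟨[(nat_lit 27), (nat_lit 6), (nat_lit 7), (nat_lit 10), (nat_lit 13), (nat_lit 20), (nat_lit 24)], (nat_lit 47), [(nat_lit 1)]⟩, ⟨[], (nat_lit 48), []⟩],
  Ent.split [⟨[], (nat_lit 49), []⟩, ⟨[], (nat_lit 50), []⟩, ⟨[(nat_lit 27), (nat_lit 6), (nat_lit 7), (nat_lit 10), (nat_lit 13), (nat_lit 20), (nat_lit 24)], (nat_lit 49), [(nat_lit 1)]⟩],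
  Ent.split [⟨[], (nat_lit 51), []⟩, ⟨[(nat_lit 27), (nat_lit 6), (nat_lit 7), (nat_lit 10), (nat_lit 13), (nat_lit 20), (nat_lit 24)], (nat_lit 51), [(nat_lit 2)]⟩, ⟨[], (nat_lit 52), []⟩],
  Ent.split [⟨[], (nat_lit 53), []⟩, ⟨[], (nat_lit 54), []⟩, ⟨[(nat_lit 27), (nat_lit 14), (nat_lit 16), (nat_lit 17), (nat_lit 22), (nat_lit 24)], (nat_lit 54), []⟩],
  Ent.split [⟨[], (nat_lit 55), []⟩, ⟨[(nat_lit 27), (nat_lit 14), (nat_lit 16), (nat_lit 17), (nat_lit 22), (nat_lit 24)], (nat_lit 55), []⟩, ⟨[], (nat_lit 56), []⟩],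
  Ent.split [⟨[], (nat_lit 57), []⟩, ⟨[], (nat_lit 58), []⟩, ⟨[(nat_lit 27), (nat_lit 14), (nat_lit 16), (nat_lit 17), (nat_lit 22), (nat_lit 24)], (nat_lit 57), [(nat_lit 2)]⟩],
  Ent.split [⟨[], (nat_lit 59), []⟩, ⟨[], (nat_lit 60), []⟩, ⟨[(nat_lit 27), (nat_lit 6), (nat_lit 7), (nat_lit 10), (nat_lit 13), (nat_lit 20), (nat_lit 24)], (nat_lit 59), []⟩],
  Ent.split [⟨[], (nat_lit 61), []⟩, ⟨[], (nat_lit 62), []⟩, ⟨[(nat_lit 27), (nat_lit 6), (nat_lit 7), (nat_lit 10), (nat_lit 13), (nat_lit 20), (nat_lit 24)], (nat_lit 62), [(nat_lit 2)]⟩],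
  Ent.split [⟨[], (nat_lit 63), []⟩, ⟨[(nat_lit 27), (nat_lit 6), (nat_lit 7), (nat_lit 10), (nat_lit 13), (nat_lit 20), (nat_lit 24)], (nat_lit 63), []⟩, ⟨[], (nat_lit 64), []⟩]]
noncomputable def a_X13 : List (List Nat) := [[],
  [(nat_lit 25)],
  [(nat_lit 23)],
  [(nat_lit 21)],
  [(nat_lit 19)],
  [(nat_lit 17)],
  [(nat_lit 17), (nat_lit 21)],
  [(nat_lit 17), (nat_lit 21), (nat_lit 21)],
  [(nat_lit 15)],
  [(nat_lit 15), (nat_lit 23)],
  [(nat_lit 15), (nat_lit 23), (nat_lit 23)],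
  [(nat_lit 13)],
  [(nat_lit 13), (nat_lit 25)],
  [(nat_lit 13), (nat_lit 25), (nat_lit 25)],
  [(nat_lit 11)],
  [(nat_lit 11), (nat_lit 21), (nat_lit 21)],
  [(nat_lit 11), (nat_lit 21), (nat_lit 21), (nat_lit 23)],
  [(nat_lit 9)],
  [(nat_lit 9), (nat_lit 23)],
  [(nat_lit 9), (nat_lit 23), (nat_lit 23)],
  [(nat_lit 9), (nat_lit 15)],
  [(nat_lit 9), (nat_lit 15), (nat_lit 19)],
  [(nat_lit 9), (nat_lit 15), (nat_lit 19), (nat_lit 23)],
  [(nat_lit 9), (nat_lit 15), (nat_lit 19), (nat_lit 23), (nat_lit 23)],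
  [(nat_lit 9), (nat_lit 15), (nat_lit 15)],
  [(nat_lit 9), (nat_lit 15), (nat_lit 15), (nat_lit 23)],
  [(nat_lit 9), (nat_lit 15), (nat_lit 15), (nat_lit 23), (nat_lit 23)],
  [(nat_lit 9), (nat_lit 15), (nat_lit 15), (nat_lit 21)],
  [(nat_lit 7)],
  [(nat_lit 7), (nat_lit 25)],
  [(nat_lit 7), (nat_lit 21)],
  [(nat_lit 7), (nat_lit 9), (nat_lit 15)],
  [(nat_lit 5), (nat_lit 9), (nat_lit 9), (nat_lit 17)],
  [(nat_lit 5), (nat_lit 9), (nat_lit 9), (nat_lit 17), (nat_lit 25)],
  [(nat_lit 5), (nat_lit 9), (nat_lit 9), (nat_lit 17), (nat_lit 23)],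
  [(nat_lit 3), (nat_lit 15), (nat_lit 15)],
  [(nat_lit 3), (nat_lit 13)],
  [(nat_lit 3), (nat_lit 11), (nat_lit 15), (nat_lit 15)],
  [(nat_lit 3), (nat_lit 11), (nat_lit 15), (nat_lit 15), (nat_lit 25)],
  [(nat_lit 3), (nat_lit 11), (nat_lit 15), (nat_lit 15), (nat_lit 25), (nat_lit 25)],
  [(nat_lit 3), (nat_lit 11), (nat_lit 15), (nat_lit 15), (nat_lit 19)],
  [(nat_lit 3), (nat_lit 11), (nat_lit 13), (nat_lit 15)],
  [(nat_lit 3), (nat_lit 11), (nat_lit 13), (nat_lit 15), (nat_lit 21), (nat_lit 21)],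
  [(nat_lit 3), (nat_lit 11), (nat_lit 13), (nat_lit 15), (nat_lit 21), (nat_lit 21), (nat_lit 25)],
  [(nat_lit 3), (nat_lit 11), (nat_lit 13), (nat_lit 15), (nat_lit 21), (nat_lit 21), (nat_lit 25), (nat_lit 25)],
  [(nat_lit 3), (nat_lit 11), (nat_lit 13), (nat_lit 13)],
  [(nat_lit 3), (nat_lit 11), (nat_lit 13), (nat_lit 13), (nat_lit 25)],
  [(nat_lit 3), (nat_lit 11), (nat_lit 13), (nat_lit 13), (nat_lit 25), (nat_lit 25)],
  [(nat_lit 1), (nat_lit 5), (nat_lit 13), (nat_lit 21), (nat_lit 21)],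
  [(nat_lit 1), (nat_lit 3), (nat_lit 3), (nat_lit 17)],
  [(nat_lit 1), (nat_lit 3), (nat_lit 3), (nat_lit 5), (nat_lit 7)],
  [(nat_lit 1), (nat_lit 3), (nat_lit 3), (nat_lit 5), (nat_lit 7), (nat_lit 23)],
  [(nat_lit 1), (nat_lit 3), (nat_lit 3), (nat_lit 5), (nat_lit 7), (nat_lit 21)],
  [(nat_lit 1), (nat_lit 3), (nat_lit 3), (nat_lit 5), (nat_lit 7), (nat_lit 21), (nat_lit 23), (nat_lit 23)],
  [(nat_lit 1), (nat_lit 3), (nat_lit 3), (nat_lit 5), (nat_lit 7), (nat_lit 21), (nat_lit 21)],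
  [(nat_lit 1), (nat_lit 3), (nat_lit 3), (nat_lit 5), (nat_lit 7), (nat_lit 21), (nat_lit 21), (nat_lit 23)],
  [(nat_lit 1), (nat_lit 3), (nat_lit 3), (nat_lit 5), (nat_lit 7), (nat_lit 17)],
  [(nat_lit 1), (nat_lit 3), (nat_lit 3), (nat_lit 5), (nat_lit 7), (nat_lit 17), (nat_lit 23), (nat_lit 23)],
  [(nat_lit 1), (nat_lit 3), (nat_lit 3), (nat_lit 5), (nat_lit 7), (nat_lit 17), (nat_lit 19)],
  [(nat_lit 1), (nat_lit 3), (nat_lit 3), (nat_lit 5), (nat_lit 7), (nat_lit 17), (nat_lit 19), (nat_lit 23)],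
  [(nat_lit 1), (nat_lit 3), (nat_lit 3), (nat_lit 5), (nat_lit 7), (nat_lit 17), (nat_lit 19), (nat_lit 21)],
  [(nat_lit 1), (nat_lit 3), (nat_lit 3), (nat_lit 5), (nat_lit 7), (nat_lit 17), (nat_lit 19), (nat_lit 21), (nat_lit 23), (nat_lit 23)],
  [(nat_lit 1), (nat_lit 3), (nat_lit 3), (nat_lit 5), (nat_lit 7), (nat_lit 17), (nat_lit 19), (nat_lit 21), (nat_lit 21)],
  [(nat_lit 1), (nat_lit 3), (nat_lit 3), (nat_lit 5), (nat_lit 7), (nat_lit 17), (nat_lit 19), (nat_lit 21), (nat_lit 21), (nat_lit 23)],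
  [(nat_lit 1), (nat_lit 3), (nat_lit 3), (nat_lit 5), (nat_lit 7), (nat_lit 17), (nat_lit 17)],
  [(nat_lit 1), (nat_lit 3), (nat_lit 3), (nat_lit 5), (nat_lit 7), (nat_lit 17), (nat_lit 17), (nat_lit 23)],
  [(nat_lit 1), (nat_lit 3), (nat_lit 3), (nat_lit 5), (nat_lit 7), (nat_lit 17), (nat_lit 17), (nat_lit 21)],
  [(nat_lit 1), (nat_lit 3), (nat_lit 3), (nat_lit 5), (nat_lit 7), (nat_lit 17), (nat_lit 17), (nat_lit 21), (nat_lit 23)],
  [(nat_lit 1), (nat_lit 3), (nat_lit 3), (nat_lit 5), (nat_lit 7), (nat_lit 17), (nat_lit 17), (nat_lit 21), (nat_lit 21)],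
  [(nat_lit 1), (nat_lit 3), (nat_lit 3), (nat_lit 5), (nat_lit 7), (nat_lit 17), (nat_lit 17), (nat_lit 21), (nat_lit 21), (nat_lit 23), (nat_lit 23)]]
noncomputable def a_E12 : List Ent := [Ent.split [⟨[], (nat_lit 0), []⟩, ⟨[], (nat_lit 1), []⟩, ⟨[(nat_lit 27)], (nat_lit 1), []⟩],
  Ent.merge [(nat_lit 1)] (nat_lit 2) [] ⟨[], (nat_lit 2), []⟩,
  Ent.merge [(nat_lit 9)] (nat_lit 2) [] ⟨[], (nat_lit 3), []⟩,
  Ent.merge [(nat_lit 11)] (nat_lit 2) [] ⟨[], (nat_lit 4), []⟩,
  Ent.merge [(nat_lit 15)] (nat_lit 2) [] ⟨[], (nat_lit 5), []⟩,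
  Ent.merge [(nat_lit 15)] (nat_lit 2) [] ⟨[], (nat_lit 6), []⟩,
  Ent.merge [(nat_lit 15)] (nat_lit 2) [] ⟨[], (nat_lit 7), []⟩,
  Ent.merge [(nat_lit 17)] (nat_lit 1) [] ⟨[], (nat_lit 8), []⟩,
  Ent.merge [(nat_lit 17)] (nat_lit 1) [] ⟨[], (nat_lit 9), []⟩,
  Ent.merge [(nat_lit 17)] (nat_lit 1) [] ⟨[], (nat_lit 10), []⟩,
  Ent.split [⟨[], (nat_lit 11), []⟩, ⟨[], (nat_lit 12), []⟩, ⟨[], (nat_lit 13), []⟩],
  Ent.merge [(nat_lit 19)] (nat_lit 1) [] ⟨[], (nat_lit 14), []⟩,
  Ent.merge [(nat_lit 19)] (nat_lit 1) [] ⟨[], (nat_lit 15), []⟩,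
  Ent.merge [(nat_lit 19)] (nat_lit 1) [] ⟨[], (nat_lit 16), []⟩,
  Ent.dead (nat_lit 2) [],
  Ent.merge [(nat_lit 21)] (nat_lit 1) [] ⟨[], (nat_lit 17), []⟩,
  Ent.merge [(nat_lit 21)] (nat_lit 1) [] ⟨[], (nat_lit 18), []⟩,
  Ent.merge [(nat_lit 21)] (nat_lit 1) [] ⟨[], (nat_lit 19), []⟩,
  Ent.merge [(nat_lit 21)] (nat_lit 1) [] ⟨[], (nat_lit 20), []⟩,
  Ent.merge [(nat_lit 21)] (nat_lit 1) [] ⟨[], (nat_lit 21), []⟩,
  Ent.merge [(nat_lit 21)] (nat_lit 1) [] ⟨[], (nat_lit 22), []⟩,
  Ent.merge [(nat_lit 21)] (nat_lit 1) [] ⟨[], (nat_lit 23), []⟩,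
  Ent.merge [(nat_lit 21)] (nat_lit 1) [] ⟨[], (nat_lit 24), []⟩,
  Ent.merge [(nat_lit 21)] (nat_lit 1) [] ⟨[], (nat_lit 25), []⟩,
  Ent.merge [(nat_lit 21)] (nat_lit 1) [] ⟨[], (nat_lit 26), []⟩,
  Ent.merge [(nat_lit 21)] (nat_lit 1) [] ⟨[], (nat_lit 27), []⟩,
  Ent.split [⟨[], (nat_lit 28), []⟩, ⟨[], (nat_lit 29), []⟩, ⟨[(nat_lit 27), (nat_lit 29), (nat_lit 2), (nat_lit 4), (nat_lit 7), (nat_lit 10), (nat_lit 12), (nat_lit 14), (nat_lit 16), (nat_lit 17), (nat_lit 19), (nat_lit 22), (nat_lit 25)], (nat_lit 29), []⟩],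
  Ent.merge [(nat_lit 9), (nat_lit 15), (nat_lit 19)] (nat_lit 2) [] ⟨[], (nat_lit 30), []⟩,
  Ent.merge [(nat_lit 21)] (nat_lit 1) [] ⟨[], (nat_lit 31), []⟩,
  Ent.split [⟨[], (nat_lit 32), []⟩, ⟨[], (nat_lit 33), []⟩, ⟨[(nat_lit 27), (nat_lit 3), (nat_lit 8), (nat_lit 9), (nat_lit 12), (nat_lit 13), (nat_lit 15), (nat_lit 17), (nat_lit 21), (nat_lit 24)], (nat_lit 33), []⟩],
  Ent.merge [(nat_lit 1), (nat_lit 4), (nat_lit 7), (nat_lit 10), (nat_lit 12), (nat_lit 19), (nat_lit 24), (nat_lit 25)] (nat_lit 2) [] ⟨[], (nat_lit 34), []⟩,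
  Ent.merge [(nat_lit 19), (nat_lit 22)] (nat_lit 2) [] ⟨[], (nat_lit 35), []⟩,
  Ent.merge [(nat_lit 19), (nat_lit 22)] (nat_lit 2) [] ⟨[], (nat_lit 36), []⟩,
  Ent.dead (nat_lit 2) [],
  Ent.dead (nat_lit 1) [],
  Ent.split [⟨[], (nat_lit 37), []⟩, ⟨[], (nat_lit 38), []⟩, ⟨[], (nat_lit 39), []⟩],
  Ent.merge [(nat_lit 11), (nat_lit 22)] (nat_lit 2) [] ⟨[], (nat_lit 40), []⟩,
  Ent.dead (nat_lit 1) [],
  Ent.merge [(nat_lit 9), (nat_lit 11), (nat_lit 21)] (nat_lit 2) [] ⟨[], (nat_lit 41), []⟩,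
  Ent.split [⟨[], (nat_lit 42), []⟩, ⟨[], (nat_lit 43), []⟩, ⟨[], (nat_lit 44), []⟩],
  Ent.split [⟨[], (nat_lit 45), []⟩, ⟨[], (nat_lit 46), []⟩, ⟨[], (nat_lit 47), []⟩],
  Ent.dead (nat_lit 1) [],
  Ent.dead (nat_lit 2) [],
  Ent.merge [(nat_lit 23)] (nat_lit 1) [] ⟨[], (nat_lit 48), []⟩,
  Ent.merge [(nat_lit 23)] (nat_lit 1) [] ⟨[], (nat_lit 49), []⟩,
  Ent.merge [(nat_lit 23)] (nat_lit 1) [] ⟨[], (nat_lit 50), []⟩,
  Ent.merge [(nat_lit 23)] (nat_lit 1) [] ⟨[], (nat_lit 51), []⟩,
  Ent.merge [(nat_lit 23)] (nat_lit 1) [] ⟨[], (nat_lit 52), []⟩,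
  Ent.merge [(nat_lit 23)] (nat_lit 1) [] ⟨[], (nat_lit 53), []⟩,
  Ent.merge [(nat_lit 23)] (nat_lit 1) [] ⟨[], (nat_lit 54), []⟩,
  Ent.merge [(nat_lit 23)] (nat_lit 1) [] ⟨[], (nat_lit 55), []⟩,
  Ent.merge [(nat_lit 23)] (nat_lit 1) [] ⟨[], (nat_lit 56), []⟩,
  Ent.merge [(nat_lit 23)] (nat_lit 1) [] ⟨[], (nat_lit 57), []⟩,
  Ent.merge [(nat_lit 23)] (nat_lit 1) [] ⟨[], (nat_lit 58), []⟩,
  Ent.merge [(nat_lit 23)] (nat_lit 1) [] ⟨[], (nat_lit 59), []⟩,
  Ent.merge [(nat_lit 23)] (nat_lit 1) [] ⟨[], (nat_lit 60), []⟩,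
  Ent.merge [(nat_lit 23)] (nat_lit 1) [] ⟨[], (nat_lit 61), []⟩,
  Ent.merge [(nat_lit 23)] (nat_lit 1) [] ⟨[], (nat_lit 62), []⟩,
  Ent.merge [(nat_lit 23)] (nat_lit 1) [] ⟨[], (nat_lit 63), []⟩,
  Ent.merge [(nat_lit 23)] (nat_lit 1) [] ⟨[], (nat_lit 64), []⟩,
  Ent.merge [(nat_lit 23)] (nat_lit 1) [] ⟨[], (nat_lit 65), []⟩,
  Ent.merge [(nat_lit 23)] (nat_lit 1) [] ⟨[], (nat_lit 66), []⟩,
  Ent.merge [(nat_lit 23)] (nat_lit 1) [] ⟨[], (nat_lit 67), []⟩,
  Ent.merge [(nat_lit 23)] (nat_lit 1) [] ⟨[], (nat_lit 68), []⟩,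
  Ent.merge [(nat_lit 23)] (nat_lit 1) [] ⟨[], (nat_lit 69), []⟩]
noncomputable def a_F : List To := [⟨[], (nat_lit 0), []⟩,
  ⟨[(nat_lit 28), (nat_lit 19), (nat_lit 43), (nat_lit 3), (nat_lit 44), (nat_lit 15), (nat_lit 51), (nat_lit 34), (nat_lit 28), (nat_lit 3), (nat_lit 34), (nat_lit 28), (nat_lit 44), (nat_lit 28), (nat_lit 48), (nat_lit 33), (nat_lit 40), (nat_lit 40), (nat_lit 49), (nat_lit 51)], (nat_lit 3), []⟩,
  ⟨[(nat_lit 9), (nat_lit 7), (nat_lit 17), (nat_lit 33), (nat_lit 27), (nat_lit 39), (nat_lit 15), (nat_lit 19), (nat_lit 33), (nat_lit 28), (nat_lit 3), (nat_lit 27), (nat_lit 30), (nat_lit 39), (nat_lit 30), (nat_lit 41), (nat_lit 37), (nat_lit 33), (nat_lit 48), (nat_lit 39), (nat_lit 39), (nat_lit 43), (nat_lit 23)], (nat_lit 3), []⟩,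
  ⟨[(nat_lit 34), (nat_lit 44), (nat_lit 3), (nat_lit 47), (nat_lit 15), (nat_lit 28), (nat_lit 47), (nat_lit 28), (nat_lit 1), (nat_lit 39), (nat_lit 28), (nat_lit 43), (nat_lit 29), (nat_lit 34), (nat_lit 47), (nat_lit 43), (nat_lit 37), (nat_lit 33), (nat_lit 40), (nat_lit 44), (nat_lit 41), (nat_lit 44), (nat_lit 23)], (nat_lit 3), []⟩,
  ⟨[(nat_lit 15), (nat_lit 27), (nat_lit 44), (nat_lit 39), (nat_lit 35), (nat_lit 15), (nat_lit 39), (nat_lit 3), (nat_lit 34), (nat_lit 1), (nat_lit 27), (nat_lit 43), (nat_lit 30), (nat_lit 27), (nat_lit 39), (nat_lit 45), (nat_lit 39), (nat_lit 48), (nat_lit 43)], (nat_lit 1), []⟩,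
  ⟨[(nat_lit 34), (nat_lit 15), (nat_lit 45), (nat_lit 47), (nat_lit 3), (nat_lit 41), (nat_lit 15), (nat_lit 33), (nat_lit 27), (nat_lit 34), (nat_lit 1), (nat_lit 39), (nat_lit 30), (nat_lit 33), (nat_lit 40), (nat_lit 41), (nat_lit 33), (nat_lit 47), (nat_lit 40), (nat_lit 43), (nat_lit 39), (nat_lit 45)], (nat_lit 4), []⟩,
  ⟨[(nat_lit 28), (nat_lit 7), (nat_lit 33), (nat_lit 35), (nat_lit 15), (nat_lit 17), (nat_lit 3), (nat_lit 44), (nat_lit 1), (nat_lit 34), (nat_lit 29), (nat_lit 47), (nat_lit 40), (nat_lit 27), (nat_lit 34), (nat_lit 51), (nat_lit 39), (nat_lit 33), (nat_lit 45), (nat_lit 41), (nat_lit 43), (nat_lit 49)], (nat_lit 2), []⟩,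
  ⟨[(nat_lit 43), (nat_lit 27), (nat_lit 34), (nat_lit 15), (nat_lit 39), (nat_lit 15), (nat_lit 27), (nat_lit 47), (nat_lit 34), (nat_lit 19), (nat_lit 30), (nat_lit 40), (nat_lit 47), (nat_lit 29), (nat_lit 48), (nat_lit 33), (nat_lit 43), (nat_lit 33), (nat_lit 48), (nat_lit 40), (nat_lit 40), (nat_lit 47)], (nat_lit 3), []⟩,
  ⟨[(nat_lit 39), (nat_lit 13), (nat_lit 28), (nat_lit 34), (nat_lit 40), (nat_lit 15), (nat_lit 41), (nat_lit 1), (nat_lit 35), (nat_lit 43), (nat_lit 28), (nat_lit 39), (nat_lit 39), (nat_lit 33), (nat_lit 48), (nat_lit 43), (nat_lit 41), (nat_lit 43), (nat_lit 49), (nat_lit 48), (nat_lit 51), (nat_lit 23)], (nat_lit 2), []⟩,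
  ⟨[(nat_lit 29), (nat_lit 29), (nat_lit 49), (nat_lit 34), (nat_lit 28), (nat_lit 37), (nat_lit 15), (nat_lit 29), (nat_lit 48), (nat_lit 28), (nat_lit 1), (nat_lit 29), (nat_lit 40), (nat_lit 28), (nat_lit 30), (nat_lit 43), (nat_lit 40), (nat_lit 33), (nat_lit 40), (nat_lit 44)], (nat_lit 3), []⟩,
  ⟨[(nat_lit 33), (nat_lit 1), (nat_lit 35), (nat_lit 28), (nat_lit 41), (nat_lit 37), (nat_lit 15), (nat_lit 40), (nat_lit 45), (nat_lit 28), (nat_lit 19), (nat_lit 35), (nat_lit 33), (nat_lit 43), (nat_lit 30), (nat_lit 41), (nat_lit 33), (nat_lit 39), (nat_lit 43), (nat_lit 49), (nat_lit 48), (nat_lit 51)], (nat_lit 4), []⟩,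
  ⟨[(nat_lit 19), (nat_lit 48), (nat_lit 27), (nat_lit 9), (nat_lit 40), (nat_lit 15), (nat_lit 41), (nat_lit 48), (nat_lit 28), (nat_lit 1), (nat_lit 27), (nat_lit 43), (nat_lit 33), (nat_lit 30), (nat_lit 40), (nat_lit 33), (nat_lit 39), (nat_lit 33), (nat_lit 47), (nat_lit 45), (nat_lit 48), (nat_lit 51)], (nat_lit 3), []⟩,
  ⟨[(nat_lit 37), (nat_lit 23), (nat_lit 48), (nat_lit 39), (nat_lit 27), (nat_lit 40), (nat_lit 15), (nat_lit 43), (nat_lit 3), (nat_lit 49), (nat_lit 28), (nat_lit 40), (nat_lit 27), (nat_lit 49), (nat_lit 45), (nat_lit 40), (nat_lit 33), (nat_lit 39), (nat_lit 48), (nat_lit 48), (nat_lit 51), (nat_lit 23)], (nat_lit 2), []⟩,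
  ⟨[(nat_lit 41), (nat_lit 47), (nat_lit 44), (nat_lit 28), (nat_lit 44), (nat_lit 37), (nat_lit 15), (nat_lit 28), (nat_lit 19), (nat_lit 1), (nat_lit 27), (nat_lit 40), (nat_lit 43), (nat_lit 27), (nat_lit 48), (nat_lit 40), (nat_lit 37), (nat_lit 33), (nat_lit 48), (nat_lit 40), (nat_lit 40), (nat_lit 23)], (nat_lit 4), []⟩,
  ⟨[(nat_lit 43), (nat_lit 41), (nat_lit 37), (nat_lit 29), (nat_lit 34), (nat_lit 39), (nat_lit 15), (nat_lit 9), (nat_lit 29), (nat_lit 44), (nat_lit 1), (nat_lit 48), (nat_lit 28), (nat_lit 40), (nat_lit 30), (nat_lit 48), (nat_lit 39), (nat_lit 35), (nat_lit 33), (nat_lit 47), (nat_lit 39), (nat_lit 49)], (nat_lit 4), []⟩,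
  ⟨[(nat_lit 28), (nat_lit 40), (nat_lit 27), (nat_lit 39), (nat_lit 15), (nat_lit 45), (nat_lit 9), (nat_lit 7), (nat_lit 28), (nat_lit 1), (nat_lit 28), (nat_lit 28), (nat_lit 33), (nat_lit 47), (nat_lit 33), (nat_lit 41), (nat_lit 45), (nat_lit 40), (nat_lit 47), (nat_lit 45), (nat_lit 48), (nat_lit 48), (nat_lit 23)], (nat_lit 1), []⟩,
  ⟨[(nat_lit 51), (nat_lit 44), (nat_lit 34), (nat_lit 37), (nat_lit 39), (nat_lit 15), (nat_lit 19), (nat_lit 29), (nat_lit 5), (nat_lit 1), (nat_lit 33), (nat_lit 30), (nat_lit 43), (nat_lit 39), (nat_lit 33), (nat_lit 35), (nat_lit 33), (nat_lit 44), (nat_lit 47), (nat_lit 39)], (nat_lit 4), []⟩,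
  ⟨[(nat_lit 39), (nat_lit 35), (nat_lit 33), (nat_lit 9), (nat_lit 29), (nat_lit 44), (nat_lit 15), (nat_lit 19), (nat_lit 29), (nat_lit 3), (nat_lit 34), (nat_lit 29), (nat_lit 47), (nat_lit 44), (nat_lit 37), (nat_lit 33), (nat_lit 41), (nat_lit 47), (nat_lit 39), (nat_lit 45), (nat_lit 23)], (nat_lit 2), []⟩,
  ⟨[(nat_lit 23), (nat_lit 3), (nat_lit 43), (nat_lit 28), (nat_lit 44), (nat_lit 40), (nat_lit 15), (nat_lit 30), (nat_lit 40), (nat_lit 3), (nat_lit 40), (nat_lit 27), (nat_lit 47), (nat_lit 30), (nat_lit 37), (nat_lit 33), (nat_lit 43), (nat_lit 48), (nat_lit 51), (nat_lit 23)], (nat_lit 4), []⟩,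
  ⟨[(nat_lit 13), (nat_lit 3), (nat_lit 30), (nat_lit 43), (nat_lit 34), (nat_lit 43), (nat_lit 15), (nat_lit 9), (nat_lit 39), (nat_lit 3), (nat_lit 29), (nat_lit 28), (nat_lit 44), (nat_lit 27), (nat_lit 41), (nat_lit 39), (nat_lit 33), (nat_lit 39), (nat_lit 43), (nat_lit 41), (nat_lit 48), (nat_lit 23)], (nat_lit 4), []⟩,
  ⟨[(nat_lit 49), (nat_lit 13), (nat_lit 1), (nat_lit 47), (nat_lit 29), (nat_lit 39), (nat_lit 13), (nat_lit 15), (nat_lit 43), (nat_lit 19), (nat_lit 40), (nat_lit 29), (nat_lit 51), (nat_lit 45), (nat_lit 40), (nat_lit 33), (nat_lit 48), (nat_lit 39), (nat_lit 48), (nat_lit 45), (nat_lit 49)], (nat_lit 4), []⟩,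
  ⟨[(nat_lit 37), (nat_lit 35), (nat_lit 41), (nat_lit 28), (nat_lit 39), (nat_lit 15), (nat_lit 27), (nat_lit 47), (nat_lit 9), (nat_lit 27), (nat_lit 1), (nat_lit 47), (nat_lit 30), (nat_lit 34), (nat_lit 35), (nat_lit 33), (nat_lit 39), (nat_lit 41), (nat_lit 45), (nat_lit 49), (nat_lit 48)], (nat_lit 4), []⟩,
  ⟨[(nat_lit 34), (nat_lit 5), (nat_lit 28), (nat_lit 39), (nat_lit 13), (nat_lit 15), (nat_lit 39), (nat_lit 30), (nat_lit 43), (nat_lit 33), (nat_lit 1), (nat_lit 30), (nat_lit 48), (nat_lit 30), (nat_lit 44), (nat_lit 39), (nat_lit 33), (nat_lit 43), (nat_lit 39), (nat_lit 47), (nat_lit 39), (nat_lit 48), (nat_lit 43), (nat_lit 47)], (nat_lit 2), []⟩,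
  ⟨[(nat_lit 7), (nat_lit 40), (nat_lit 30), (nat_lit 48), (nat_lit 15), (nat_lit 13), (nat_lit 41), (nat_lit 1), (nat_lit 30), (nat_lit 44), (nat_lit 29), (nat_lit 41), (nat_lit 35), (nat_lit 40), (nat_lit 33), (nat_lit 40), (nat_lit 41), (nat_lit 44), (nat_lit 47), (nat_lit 51)], (nat_lit 3), []⟩,
  ⟨[(nat_lit 5), (nat_lit 51), (nat_lit 37), (nat_lit 34), (nat_lit 35), (nat_lit 15), (nat_lit 7), (nat_lit 5), (nat_lit 40), (nat_lit 33), (nat_lit 35), (nat_lit 28), (nat_lit 47), (nat_lit 39), (nat_lit 33), (nat_lit 49), (nat_lit 39), (nat_lit 45), (nat_lit 48), (nat_lit 48)], (nat_lit 1), []⟩,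
  ⟨[(nat_lit 35), (nat_lit 44), (nat_lit 30), (nat_lit 44), (nat_lit 9), (nat_lit 37), (nat_lit 15), (nat_lit 1), (nat_lit 39), (nat_lit 51), (nat_lit 1), (nat_lit 39), (nat_lit 48), (nat_lit 28), (nat_lit 35), (nat_lit 40), (nat_lit 41), (nat_lit 33), (nat_lit 48), (nat_lit 39), (nat_lit 39), (nat_lit 49)], (nat_lit 2), []⟩,
  ⟨[(nat_lit 23), (nat_lit 47), (nat_lit 17), (nat_lit 39), (nat_lit 15), (nat_lit 29), (nat_lit 27), (nat_lit 45), (nat_lit 27), (nat_lit 1), (nat_lit 29), (nat_lit 39), (nat_lit 33), (nat_lit 29), (nat_lit 33), (nat_lit 35), (nat_lit 39), (nat_lit 33), (nat_lit 48), (nat_lit 40), (nat_lit 40), (nat_lit 23)], (nat_lit 3), []⟩,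
  ⟨[(nat_lit 23), (nat_lit 27), (nat_lit 30), (nat_lit 40), (nat_lit 15), (nat_lit 11), (nat_lit 44), (nat_lit 28), (nat_lit 19), (nat_lit 28), (nat_lit 39), (nat_lit 29), (nat_lit 40), (nat_lit 33), (nat_lit 44), (nat_lit 33), (nat_lit 47), (nat_lit 39), (nat_lit 45), (nat_lit 43), (nat_lit 49), (nat_lit 51)], (nat_lit 4), []⟩,
  ⟨[(nat_lit 29), (nat_lit 9), (nat_lit 40), (nat_lit 28), (nat_lit 37), (nat_lit 15), (nat_lit 33), (nat_lit 19), (nat_lit 40), (nat_lit 19), (nat_lit 1), (nat_lit 43), (nat_lit 29), (nat_lit 45), (nat_lit 28), (nat_lit 40), (nat_lit 35), (nat_lit 39), (nat_lit 35), (nat_lit 33), (nat_lit 49), (nat_lit 39)], (nat_lit 1), []⟩,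
  ⟨[(nat_lit 11), (nat_lit 51), (nat_lit 37), (nat_lit 27), (nat_lit 34), (nat_lit 35), (nat_lit 15), (nat_lit 29), (nat_lit 49), (nat_lit 28), (nat_lit 1), (nat_lit 30), (nat_lit 48), (nat_lit 30), (nat_lit 45), (nat_lit 35), (nat_lit 33), (nat_lit 44), (nat_lit 41), (nat_lit 48), (nat_lit 51)], (nat_lit 4), []⟩,
  ⟨[(nat_lit 43), (nat_lit 17), (nat_lit 29), (nat_lit 48), (nat_lit 37), (nat_lit 17), (nat_lit 35), (nat_lit 15), (nat_lit 34), (nat_lit 39), (nat_lit 43), (nat_lit 19), (nat_lit 35), (nat_lit 33), (nat_lit 27), (nat_lit 40), (nat_lit 40), (nat_lit 33), (nat_lit 47), (nat_lit 40), (nat_lit 44), (nat_lit 48), (nat_lit 23)], (nat_lit 4), []⟩,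
  ⟨[(nat_lit 35), (nat_lit 29), (nat_lit 39), (nat_lit 34), (nat_lit 44), (nat_lit 37), (nat_lit 15), (nat_lit 44), (nat_lit 33), (nat_lit 41), (nat_lit 3), (nat_lit 30), (nat_lit 27), (nat_lit 40), (nat_lit 28), (nat_lit 44), (nat_lit 39), (nat_lit 35), (nat_lit 33), (nat_lit 40), (nat_lit 48), (nat_lit 39), (nat_lit 44)], (nat_lit 4), []⟩,
  ⟨[(nat_lit 15), (nat_lit 41), (nat_lit 28), (nat_lit 37), (nat_lit 15), (nat_lit 51), (nat_lit 29), (nat_lit 44), (nat_lit 3), (nat_lit 47), (nat_lit 39), (nat_lit 28), (nat_lit 39), (nat_lit 34), (nat_lit 39), (nat_lit 33), (nat_lit 45), (nat_lit 41), (nat_lit 45), (nat_lit 47), (nat_lit 51)], (nat_lit 1), []⟩,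
  ⟨[(nat_lit 49), (nat_lit 11), (nat_lit 28), (nat_lit 39), (nat_lit 29), (nat_lit 35), (nat_lit 15), (nat_lit 28), (nat_lit 40), (nat_lit 33), (nat_lit 1), (nat_lit 41), (nat_lit 30), (nat_lit 43), (nat_lit 30), (nat_lit 40), (nat_lit 45), (nat_lit 33), (nat_lit 47), (nat_lit 40), (nat_lit 40), (nat_lit 44)], (nat_lit 4), []⟩,
  ⟨[(nat_lit 15), (nat_lit 3), (nat_lit 39), (nat_lit 28), (nat_lit 45), (nat_lit 15), (nat_lit 19), (nat_lit 48), (nat_lit 41), (nat_lit 1), (nat_lit 30), (nat_lit 43), (nat_lit 40), (nat_lit 29), (nat_lit 41), (nat_lit 35), (nat_lit 40), (nat_lit 33), (nat_lit 39), (nat_lit 48), (nat_lit 45), (nat_lit 48), (nat_lit 48)], (nat_lit 4), []⟩,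
  ⟨[(nat_lit 35), (nat_lit 40), (nat_lit 40), (nat_lit 34), (nat_lit 29), (nat_lit 47), (nat_lit 15), (nat_lit 37), (nat_lit 30), (nat_lit 43), (nat_lit 3), (nat_lit 31), (nat_lit 40), (nat_lit 37), (nat_lit 29), (nat_lit 27), (nat_lit 43), (nat_lit 33), (nat_lit 40), (nat_lit 48), (nat_lit 40), (nat_lit 51)], (nat_lit 4), []⟩,
  ⟨[(nat_lit 5), (nat_lit 19), (nat_lit 28), (nat_lit 13), (nat_lit 17), (nat_lit 40), (nat_lit 15), (nat_lit 34), (nat_lit 27), (nat_lit 3), (nat_lit 28), (nat_lit 41), (nat_lit 34), (nat_lit 30), (nat_lit 45), (nat_lit 39), (nat_lit 35), (nat_lit 33), (nat_lit 49), (nat_lit 39), (nat_lit 48), (nat_lit 44), (nat_lit 47)], (nat_lit 4), []⟩,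
  ⟨[(nat_lit 17), (nat_lit 49), (nat_lit 29), (nat_lit 9), (nat_lit 39), (nat_lit 15), (nat_lit 29), (nat_lit 13), (nat_lit 40), (nat_lit 1), (nat_lit 41), (nat_lit 27), (nat_lit 27), (nat_lit 27), (nat_lit 40), (nat_lit 33), (nat_lit 47), (nat_lit 33), (nat_lit 40), (nat_lit 41), (nat_lit 47)], (nat_lit 4), []⟩,
  ⟨[(nat_lit 7), (nat_lit 33), (nat_lit 27), (nat_lit 40), (nat_lit 40), (nat_lit 15), (nat_lit 19), (nat_lit 48), (nat_lit 28), (nat_lit 1), (nat_lit 40), (nat_lit 40), (nat_lit 30), (nat_lit 27), (nat_lit 40), (nat_lit 40), (nat_lit 33), (nat_lit 45), (nat_lit 43), (nat_lit 48), (nat_lit 23)], (nat_lit 3), []⟩,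
  ⟨[(nat_lit 15), (nat_lit 23), (nat_lit 30), (nat_lit 39), (nat_lit 35), (nat_lit 15), (nat_lit 40), (nat_lit 49), (nat_lit 28), (nat_lit 19), (nat_lit 30), (nat_lit 48), (nat_lit 41), (nat_lit 28), (nat_lit 48), (nat_lit 45), (nat_lit 37), (nat_lit 33), (nat_lit 45), (nat_lit 39), (nat_lit 47), (nat_lit 45), (nat_lit 49)], (nat_lit 2), []⟩,
  ⟨[(nat_lit 17), (nat_lit 15), (nat_lit 37), (nat_lit 7), (nat_lit 33), (nat_lit 13), (nat_lit 15), (nat_lit 5), (nat_lit 28), (nat_lit 41), (nat_lit 3), (nat_lit 44), (nat_lit 29), (nat_lit 44), (nat_lit 29), (nat_lit 33), (nat_lit 47), (nat_lit 37), (nat_lit 35), (nat_lit 33), (nat_lit 45), (nat_lit 40), (nat_lit 51)], (nat_lit 4), []⟩,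
  ⟨[(nat_lit 29), (nat_lit 3), (nat_lit 34), (nat_lit 15), (nat_lit 43), (nat_lit 15), (nat_lit 27), (nat_lit 7), (nat_lit 33), (nat_lit 5), (nat_lit 1), (nat_lit 29), (nat_lit 44), (nat_lit 29), (nat_lit 27), (nat_lit 49), (nat_lit 39), (nat_lit 39), (nat_lit 35), (nat_lit 33), (nat_lit 51), (nat_lit 39), (nat_lit 51)], (nat_lit 4), []⟩,
  ⟨[(nat_lit 30), (nat_lit 39), (nat_lit 27), (nat_lit 47), (nat_lit 15), (nat_lit 27), (nat_lit 1), (nat_lit 40), (nat_lit 1), (nat_lit 40), (nat_lit 29), (nat_lit 34), (nat_lit 40), (nat_lit 33), (nat_lit 39), (nat_lit 47), (nat_lit 40), (nat_lit 43), (nat_lit 47), (nat_lit 51), (nat_lit 23)], (nat_lit 1), []⟩,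
  ⟨[(nat_lit 1), (nat_lit 44), (nat_lit 29), (nat_lit 41), (nat_lit 34), (nat_lit 43), (nat_lit 15), (nat_lit 30), (nat_lit 33), (nat_lit 1), (nat_lit 45), (nat_lit 29), (nat_lit 40), (nat_lit 27), (nat_lit 27), (nat_lit 48), (nat_lit 34), (nat_lit 44), (nat_lit 33), (nat_lit 43), (nat_lit 39), (nat_lit 48), (nat_lit 45)], (nat_lit 3), []⟩,
  ⟨[(nat_lit 33), (nat_lit 5), (nat_lit 28), (nat_lit 30), (nat_lit 40), (nat_lit 13), (nat_lit 15), (nat_lit 44), (nat_lit 3), (nat_lit 27), (nat_lit 30), (nat_lit 41), (nat_lit 39), (nat_lit 43), (nat_lit 33), (nat_lit 39), (nat_lit 51), (nat_lit 39), (nat_lit 48), (nat_lit 44), (nat_lit 47), (nat_lit 23)], (nat_lit 2), []⟩,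
  ⟨[(nat_lit 11), (nat_lit 7), (nat_lit 33), (nat_lit 13), (nat_lit 15), (nat_lit 29), (nat_lit 39), (nat_lit 43), (nat_lit 19), (nat_lit 29), (nat_lit 49), (nat_lit 34), (nat_lit 29), (nat_lit 27), (nat_lit 41), (nat_lit 39), (nat_lit 43), (nat_lit 33), (nat_lit 40), (nat_lit 44), (nat_lit 39)], (nat_lit 2), []⟩,
  ⟨[(nat_lit 23), (nat_lit 7), (nat_lit 17), (nat_lit 7), (nat_lit 34), (nat_lit 39), (nat_lit 15), (nat_lit 41), (nat_lit 33), (nat_lit 29), (nat_lit 1), (nat_lit 34), (nat_lit 44), (nat_lit 37), (nat_lit 30), (nat_lit 27), (nat_lit 44), (nat_lit 41), (nat_lit 43), (nat_lit 48), (nat_lit 23)], (nat_lit 4), []⟩,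
  ⟨[(nat_lit 28), (nat_lit 17), (nat_lit 41), (nat_lit 17), (nat_lit 39), (nat_lit 15), (nat_lit 45), (nat_lit 29), (nat_lit 1), (nat_lit 45), (nat_lit 28), (nat_lit 45), (nat_lit 28), (nat_lit 37), (nat_lit 39), (nat_lit 37), (nat_lit 33), (nat_lit 47), (nat_lit 39), (nat_lit 48), (nat_lit 43), (nat_lit 51)], (nat_lit 4), []⟩,
  ⟨[(nat_lit 39), (nat_lit 43), (nat_lit 3), (nat_lit 13), (nat_lit 40), (nat_lit 15), (nat_lit 3), (nat_lit 27), (nat_lit 3), (nat_lit 30), (nat_lit 45), (nat_lit 28), (nat_lit 40), (nat_lit 41), (nat_lit 40), (nat_lit 35), (nat_lit 33), (nat_lit 45), (nat_lit 40), (nat_lit 41), (nat_lit 45), (nat_lit 47), (nat_lit 51)], (nat_lit 4), []⟩,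
  ⟨[(nat_lit 51), (nat_lit 34), (nat_lit 27), (nat_lit 34), (nat_lit 39), (nat_lit 15), (nat_lit 43), (nat_lit 29), (nat_lit 3), (nat_lit 40), (nat_lit 27), (nat_lit 40), (nat_lit 30), (nat_lit 43), (nat_lit 39), (nat_lit 37), (nat_lit 33), (nat_lit 47), (nat_lit 44), (nat_lit 39), (nat_lit 44)], (nat_lit 4), []⟩,
  ⟨[(nat_lit 5), (nat_lit 35), (nat_lit 29), (nat_lit 48), (nat_lit 28), (nat_lit 37), (nat_lit 15), (nat_lit 5), (nat_lit 7), (nat_lit 33), (nat_lit 3), (nat_lit 39), (nat_lit 30), (nat_lit 43), (nat_lit 30), (nat_lit 41), (nat_lit 33), (nat_lit 39), (nat_lit 37), (nat_lit 33), (nat_lit 39), (nat_lit 45), (nat_lit 49)], (nat_lit 1), []⟩,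
  ⟨[(nat_lit 29), (nat_lit 7), (nat_lit 40), (nat_lit 15), (nat_lit 23), (nat_lit 35), (nat_lit 15), (nat_lit 27), (nat_lit 19), (nat_lit 43), (nat_lit 27), (nat_lit 1), (nat_lit 39), (nat_lit 47), (nat_lit 35), (nat_lit 28), (nat_lit 44), (nat_lit 33), (nat_lit 51), (nat_lit 39), (nat_lit 48), (nat_lit 45), (nat_lit 49)], (nat_lit 4), []⟩,
  ⟨[(nat_lit 39), (nat_lit 7), (nat_lit 34), (nat_lit 30), (nat_lit 39), (nat_lit 37), (nat_lit 15), (nat_lit 17), (nat_lit 44), (nat_lit 3), (nat_lit 39), (nat_lit 30), (nat_lit 33), (nat_lit 30), (nat_lit 39), (nat_lit 33), (nat_lit 41), (nat_lit 47), (nat_lit 41), (nat_lit 39), (nat_lit 45), (nat_lit 51), (nat_lit 23)], (nat_lit 4), []⟩,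
  ⟨[(nat_lit 34), (nat_lit 45), (nat_lit 30), (nat_lit 41), (nat_lit 15), (nat_lit 34), (nat_lit 43), (nat_lit 28), (nat_lit 1), (nat_lit 31), (nat_lit 40), (nat_lit 33), (nat_lit 29), (nat_lit 39), (nat_lit 39), (nat_lit 44), (nat_lit 33), (nat_lit 45), (nat_lit 40), (nat_lit 43), (nat_lit 49), (nat_lit 48), (nat_lit 23)], (nat_lit 3), []⟩,
  ⟨[(nat_lit 31), (nat_lit 30), (nat_lit 40), (nat_lit 37), (nat_lit 15), (nat_lit 33), (nat_lit 27), (nat_lit 35), (nat_lit 1), (nat_lit 33), (nat_lit 39), (nat_lit 43), (nat_lit 28), (nat_lit 39), (nat_lit 45), (nat_lit 33), (nat_lit 45), (nat_lit 39), (nat_lit 39), (nat_lit 48), (nat_lit 45), (nat_lit 48)], (nat_lit 4), []⟩,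
  ⟨[(nat_lit 23), (nat_lit 27), (nat_lit 35), (nat_lit 15), (nat_lit 27), (nat_lit 33), (nat_lit 39), (nat_lit 28), (nat_lit 1), (nat_lit 28), (nat_lit 51), (nat_lit 30), (nat_lit 40), (nat_lit 34), (nat_lit 39), (nat_lit 33), (nat_lit 41), (nat_lit 40), (nat_lit 40), (nat_lit 47), (nat_lit 45), (nat_lit 49), (nat_lit 51)], (nat_lit 2), []⟩,
  ⟨[(nat_lit 41), (nat_lit 49), (nat_lit 27), (nat_lit 13), (nat_lit 40), (nat_lit 15), (nat_lit 19), (nat_lit 33), (nat_lit 43), (nat_lit 27), (nat_lit 1), (nat_lit 30), (nat_lit 44), (nat_lit 28), (nat_lit 45), (nat_lit 34), (nat_lit 43), (nat_lit 33), (nat_lit 49), (nat_lit 39), (nat_lit 48), (nat_lit 45), (nat_lit 23)], (nat_lit 4), []⟩,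
  ⟨[(nat_lit 37), (nat_lit 19), (nat_lit 39), (nat_lit 3), (nat_lit 15), (nat_lit 40), (nat_lit 15), (nat_lit 30), (nat_lit 45), (nat_lit 28), (nat_lit 1), (nat_lit 30), (nat_lit 40), (nat_lit 45), (nat_lit 29), (nat_lit 39), (nat_lit 33), (nat_lit 35), (nat_lit 33), (nat_lit 43), (nat_lit 41), (nat_lit 39), (nat_lit 44)], (nat_lit 4), []⟩,
  ⟨[(nat_lit 17), (nat_lit 45), (nat_lit 39), (nat_lit 13), (nat_lit 15), (nat_lit 35), (nat_lit 9), (nat_lit 28), (nat_lit 19), (nat_lit 33), (nat_lit 40), (nat_lit 29), (nat_lit 33), (nat_lit 48), (nat_lit 40), (nat_lit 33), (nat_lit 39), (nat_lit 39), (nat_lit 51), (nat_lit 43), (nat_lit 48)], (nat_lit 2), []⟩,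
  ⟨[(nat_lit 29), (nat_lit 7), (nat_lit 3), (nat_lit 43), (nat_lit 40), (nat_lit 15), (nat_lit 1), (nat_lit 30), (nat_lit 28), (nat_lit 1), (nat_lit 40), (nat_lit 34), (nat_lit 35), (nat_lit 28), (nat_lit 40), (nat_lit 49), (nat_lit 39), (nat_lit 33), (nat_lit 39), (nat_lit 44), (nat_lit 48)], (nat_lit 3), []⟩,
  ⟨[(nat_lit 15), (nat_lit 40), (nat_lit 29), (nat_lit 15), (nat_lit 39), (nat_lit 37), (nat_lit 15), (nat_lit 17), (nat_lit 3), (nat_lit 39), (nat_lit 3), (nat_lit 34), (nat_lit 31), (nat_lit 40), (nat_lit 29), (nat_lit 27), (nat_lit 41), (nat_lit 33), (nat_lit 41), (nat_lit 33), (nat_lit 45), (nat_lit 39), (nat_lit 39)], (nat_lit 2), []⟩,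
  ⟨[(nat_lit 7), (nat_lit 23), (nat_lit 29), (nat_lit 15), (nat_lit 49), (nat_lit 39), (nat_lit 15), (nat_lit 35), (nat_lit 29), (nat_lit 40), (nat_lit 1), (nat_lit 39), (nat_lit 29), (nat_lit 39), (nat_lit 29), (nat_lit 37), (nat_lit 35), (nat_lit 33), (nat_lit 48), (nat_lit 40), (nat_lit 43), (nat_lit 51)], (nat_lit 4), []⟩,
  ⟨[(nat_lit 39), (nat_lit 29), (nat_lit 34), (nat_lit 40), (nat_lit 13), (nat_lit 15), (nat_lit 51), (nat_lit 1), (nat_lit 28), (nat_lit 1), (nat_lit 39), (nat_lit 27), (nat_lit 43), (nat_lit 28), (nat_lit 47), (nat_lit 40), (nat_lit 41), (nat_lit 33), (nat_lit 40), (nat_lit 45), (nat_lit 41), (nat_lit 39), (nat_lit 51), (nat_lit 23)], (nat_lit 4), []⟩,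
  ⟨[(nat_lit 28), (nat_lit 44), (nat_lit 27), (nat_lit 30), (nat_lit 15), (nat_lit 43), (nat_lit 15), (nat_lit 40), (nat_lit 27), (nat_lit 45), (nat_lit 3), (nat_lit 33), (nat_lit 27), (nat_lit 40), (nat_lit 45), (nat_lit 40), (nat_lit 33), (nat_lit 45), (nat_lit 39), (nat_lit 44), (nat_lit 48)], (nat_lit 3), []⟩,
  ⟨[(nat_lit 29), (nat_lit 45), (nat_lit 39), (nat_lit 30), (nat_lit 15), (nat_lit 40), (nat_lit 15), (nat_lit 19), (nat_lit 44), (nat_lit 41), (nat_lit 1), (nat_lit 30), (nat_lit 34), (nat_lit 48), (nat_lit 28), (nat_lit 44), (nat_lit 39), (nat_lit 39), (nat_lit 33), (nat_lit 48), (nat_lit 39), (nat_lit 39)], (nat_lit 2), []⟩,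
  ⟨[(nat_lit 1), (nat_lit 43), (nat_lit 7), (nat_lit 3), (nat_lit 48), (nat_lit 17), (nat_lit 41), (nat_lit 15), (nat_lit 3), (nat_lit 28), (nat_lit 3), (nat_lit 35), (nat_lit 28), (nat_lit 49), (nat_lit 29), (nat_lit 33), (nat_lit 40), (nat_lit 48), (nat_lit 33), (nat_lit 45), (nat_lit 40), (nat_lit 44), (nat_lit 23)], (nat_lit 4), []⟩,
  ⟨[(nat_lit 7), (nat_lit 33), (nat_lit 48), (nat_lit 30), (nat_lit 43), (nat_lit 15), (nat_lit 33), (nat_lit 29), (nat_lit 40), (nat_lit 3), (nat_lit 27), (nat_lit 41), (nat_lit 28), (nat_lit 47), (nat_lit 33), (nat_lit 43), (nat_lit 33), (nat_lit 47), (nat_lit 40), (nat_lit 43), (nat_lit 47)], (nat_lit 4), []⟩,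
  ⟨[(nat_lit 33), (nat_lit 49), (nat_lit 13), (nat_lit 47), (nat_lit 33), (nat_lit 30), (nat_lit 45), (nat_lit 15), (nat_lit 33), (nat_lit 41), (nat_lit 3), (nat_lit 41), (nat_lit 33), (nat_lit 28), (nat_lit 43), (nat_lit 41), (nat_lit 39), (nat_lit 48), (nat_lit 44), (nat_lit 49)], (nat_lit 4), []⟩,
  ⟨[(nat_lit 43), (nat_lit 28), (nat_lit 30), (nat_lit 34), (nat_lit 13), (nat_lit 15), (nat_lit 17), (nat_lit 44), (nat_lit 7), (nat_lit 28), (nat_lit 1), (nat_lit 41), (nat_lit 48), (nat_lit 34), (nat_lit 29), (nat_lit 48), (nat_lit 35), (nat_lit 39), (nat_lit 33), (nat_lit 41), (nat_lit 51), (nat_lit 23)], (nat_lit 4), []⟩,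
  ⟨[(nat_lit 34), (nat_lit 19), (nat_lit 11), (nat_lit 13), (nat_lit 27), (nat_lit 39), (nat_lit 15), (nat_lit 17), (nat_lit 34), (nat_lit 3), (nat_lit 33), (nat_lit 30), (nat_lit 44), (nat_lit 27), (nat_lit 39), (nat_lit 33), (nat_lit 39), (nat_lit 49), (nat_lit 39), (nat_lit 43), (nat_lit 49), (nat_lit 48)], (nat_lit 2), []⟩]
noncomputable def v0 : Nat := (Nat.lor (nat_lit 0x0000000800000040200400000000100000080000800000000000000000000000000000000000000000000000000000000001020010000000000000000000200000000000000200000000000000000000000000000020000000000000000000100000200000000400000000002000000000001000000002000000000000204000000000000000000000000000000000000001000000000000000000200800000000000000200000000000000000000000000000000008000000000000000008000000000000000000000000000000000000000000000080000020000000000000000000000000000000008000000000000000080002002000000000000000000000000000002000000000000000000000000000000100002000000000000000000a00000400000000000000000000000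000008000000000000000080208000000000000000000000080000008000000080002000000000000000000000000a010000000008000000000000000000800000000000020102000000000000000080000008000200808000008000000000000010800000004040000001000100280000000000100000000000410800101000000000800000000000100800000410010008000000000000000000000010201040000008000000010004001084000000400000000008140000810002000008080500080000000000002220000048000200420300100000000048840080000a423100000000820000010488000000400044100000808040008404402880084602083800000000000000000000000000000000000000000000000000000000000000000000000000000000000000000000000000000000000000000000000000000000000000000000000000000000000000000000000000000000000000000000000000000000000000000000000000000000000000000000000000000000000000002000002000000000000000000000000010000000000000000000000000000004000000040080800001000000210000040000020000100000000000000000000000200000004000008000000010000004010090000000000100000010000000000000000001000400000400000000000000080000000087501000000000000060100000000000000000000100004000000000000000010000040800000000000000040080001000000000000002000000000000010000160004100840010000000000020020880000000000000000080802010000000028011081000000000000100044000000000000002028000000000021008040000008400a080000000090040100000000110004000000010000100011010000010021040010004400081002806000000c400200031000040016200000202001405)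 (Nat.shiftLeft (Nat.lor (nat_lit 0x0000000000000000000000000000000000000000000000000000000000000000400000000000000000000000000000000000000000000000000000000000000000000000000000000000000000000000000000000000000000000000000000000000000000001000000000000000000000000000000000000000000000000000000000100000002000000000000000000000000000000000000000000000000000000000000000000000000000000000000000000000000000000000000000000000000000000000000000000000000000000000000000000000000000000000000000000000000000000000000000000000000000000000000000000000000000000000000000000000000000000000000000000000000000000000008000000000000000000000000000000000000000000000000000000000000000000000000000000000000000000000000000000000000000000000000000000001000000004040000002000000000000000000000000000000000000000400000020000000000000000000000000000000000000000000000000000000000000000000000000000000000000000000000000000000000000000000000000000000000000000000000000000000000000000000000000000000000000000000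0000000000000000000000000000000000000000000000000000000000000000100000800000000000000000000000000000000000000000000000000000000000000000000000010000000000000000000000000001000000000000000000000000000000800020000000400000000000000000000004000000000000000000000000000000000000000000000000000000000000000000000000000000000000000000000000000000000000000000000000000000004000000000000000000000000000000000000000000000000000000040000000000000000000000200020002000000000000000000000000000000800000000000002000020000004000000000000000000000000000000000000000000000000000000000000200080000020000000040000000002000000000000000000000000000000000000000000000000040000000000000000000000000000000000000000000000000000020000000000000000000000000000000000000040000008000000004000000040040080000000040000000000010000000010020004000020000080080080000000000000000000000000000000000000000000000010000002000008000001020000010000000000000000000002000000000000000000800000000000000000000000000000000000000000080000000000000000000000200000002000008000001000002000000000100)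 (Nat.shiftLeft (nat_lit 0x8000000000000000000000000000000000000000000000000000000000000000000000000000000000000000000000000000000000000000000000000000000000000000000000000000000000000000000000000000000000000001000000080000000000000000000000000000000000000000000000000000000000000000000000000000000000000000000000000000000000000000000000000000000000000000000000000000000000000000000000000000000000000000000000000000000000000000000000000000000000000000000000000000000000000000000) (nat_lit 8000))) (nat_lit 8000)))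
noncomputable def w0_kg : List (List Nat) := [[(nat_lit 23)],
  [(nat_lit 25), (nat_lit 23), (nat_lit 26)],
  [(nat_lit 54), (nat_lit 15), (nat_lit 23), (nat_lit 15), (nat_lit 53)],
  [(nat_lit 22), (nat_lit 54), (nat_lit 23), (nat_lit 53), (nat_lit 21)],
  [(nat_lit 22), (nat_lit 53), (nat_lit 23), (nat_lit 54), (nat_lit 21)],
  [(nat_lit 27), (nat_lit 54), (nat_lit 23), (nat_lit 53), (nat_lit 28)],
  [(nat_lit 39), (nat_lit 53), (nat_lit 23), (nat_lit 54), (nat_lit 40)],
  [(nat_lit 27), (nat_lit 53), (nat_lit 23), (nat_lit 54), (nat_lit 28)],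
  [(nat_lit 3), (nat_lit 53), (nat_lit 23), (nat_lit 54), (nat_lit 3)],
  [(nat_lit 54), (nat_lit 34), (nat_lit 53), (nat_lit 23), (nat_lit 54), (nat_lit 33), (nat_lit 53)],
  [(nat_lit 26), (nat_lit 35), (nat_lit 53), (nat_lit 23), (nat_lit 54), (nat_lit 35), (nat_lit 25)],
  [(nat_lit 28), (nat_lit 3), (nat_lit 53), (nat_lit 23), (nat_lit 54), (nat_lit 3), (nat_lit 27)],
  [(nat_lit 25), (nat_lit 55), (nat_lit 25), (nat_lit 23), (nat_lit 26), (nat_lit 55), (nat_lit 26)],
  [(nat_lit 27), (nat_lit 3), (nat_lit 53), (nat_lit 23), (nat_lit 54), (nat_lit 3), (nat_lit 28)],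
  [(nat_lit 26), (nat_lit 23), (nat_lit 15), (nat_lit 23), (nat_lit 15), (nat_lit 23), (nat_lit 25)]]
noncomputable def w0_T : Wd := (Wd.cons [] [[(nat_lit 1)],
  [(nat_lit 3)],
  [(nat_lit 5)],
  [(nat_lit 7)],
  [(nat_lit 9)],
  [(nat_lit 11)],
  [(nat_lit 13)]] (nat_lit 5)
 (Wd.cons [(nat_lit 54), (nat_lit 15)] [[(nat_lit 5)],
  [(nat_lit 7)],
  [(nat_lit 9)],
  [(nat_lit 11)],
  [(nat_lit 15)],
  [(nat_lit 13)]] (nat_lit 4)
 (Wd.cons [(nat_lit 3), (nat_lit 53)] [[(nat_lit 17)],
  [(nat_lit 19)],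
  [(nat_lit 21)],
  [(nat_lit 23)],
  [(nat_lit 25)]] (nat_lit 4)
 (Wd.cons [(nat_lit 28), (nat_lit 3), (nat_lit 53)] [[(nat_lit 23)],
  [(nat_lit 27)],
  [(nat_lit 25)],
  [(nat_lit 29)]] (nat_lit 2)
 Wd.leaf Wd.leaf) Wd.leaf) Wd.leaf) Wd.leaf)
noncomputable def w0_ps : List (List Nat) := [[],
  [(nat_lit 54), (nat_lit 15)],
  [(nat_lit 3), (nat_lit 53)],
  [(nat_lit 28), (nat_lit 3), (nat_lit 53)],
  [(nat_lit 25), (nat_lit 55), (nat_lit 25)],
  [(nat_lit 26), (nat_lit 23), (nat_lit 15)],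
  [(nat_lit 26), (nat_lit 19), (nat_lit 48), (nat_lit 15)]]
noncomputable def v1 : Nat := (Nat.lor (Nat.lor (nat_lit 0x0000000000000000000000000000000000000000000020000000000000000000000000000000000000000000004000000000000000000000000000000000000000000000000000000000000000000000000000000000000000000000000000000000000000000000000000000000000000000000000000000000000000000000000000000000000000000000000000000000000000000000000000000000000000000000000000000000000000000000000000000000000000000000000000000000000000000000000000000000000000000000000000000000000000000000000000000000000000000000000000000000000000000000000000000000000000000000000000000000000000000000000000000000008000000000000000000000000000000000000000000000000000000000000000000000000000000000000000000000000000000000000000000000000000000000000000000000000000000000000000000000000000000000000000000000000000000000000000000000000000000000000000000000000000000000000000000000000000000000000000000000000000000200000000000000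0000000000000004000000000000000000000000000000000000000000000000000000000000000000000000000000000000000000000000000000000000000000000000000000000000000000040000000000000000000000000000000000000000000000000000400000000000000000000000000000800000000000000000000000000000000000000000000000000000000000000000000000000000000000000000000000000000000000000000000000000000000800000000000000000000000000000000000000000000000000000000000001000000000000000200000000000000000000000000000000000000000000000000008000000000000080000000000000000000000000000000000000000000000000000000000000000000020000000000000800000000000000000000000000000000000000000002000000000002000000000000000000000002400000000000000000000000000000000040000000000000000000000000000000200000010008000000000000000000000010000000010000000000000000000000000010000000020000000000000000000000200100000000000000000000000001000000080002000000000000000000000008000000000000000000000000000000220000000000000040000000000000000000000000020080000000000000000100000000000000000000004000000000000002000000000000000000000000000000000000000000000000000000000000000000000000000000000000000425)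 (Nat.shiftLeft (nat_lit 0x0000000000000000000000000000000000000000000210000000000000000000000000000000000000000000108000000000000000000000000000000000000000000000000000000000000000000000008000000008000000000000000000000000000000000200000000008000000000000000000000000100000000000000000000000000000001000000000000000000000000000000000000000000000000000000000000000000000000000000000000000000000000000000000000000000000000000000000000000000000000000000000000000000000000000000000000000000000000000000000000000000000100000000000000000000000000000020000000000000000000000000000000000004000000000000000000000000000000000108000000000000000000000000000000000000000000000000000000000000000000000000000000000000000000000000000000000000000000200000000000000000000000000000000000000000000000000000000000000000000000000000000000000000000000000000000000000000000000000000000000000000000000000000000000000000000000000000000000000000000000000000000000000000000000000000000000000000000000000000000000000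0000000000000000000000000000000000000000000000000000000000000000000000000100000000000000000000000000000000000000000000000000000000000000000000000000000000000000000000000000000000000800080000000000000000000000000000000000000000000000000000000000000000000000000000000000000000000000000000000000000000000000000000000000000000000000000000000000000000000000000000000000000000000000000000000000000000000000000000000000000000000000000000000000000000000000000000000000000000000000000000000000000000000000000000000000000080000000000000000000000000000000000000000000200000004000000000000000000000000000000000000000000000000000000000000000000000000000000000000000000000000000000000000000000000000000000000000000000000000000000000000000000000000000000000000000000000000000000000000000000000000000000000000000000000000000000000000000002000000000000000000000000000000000000000000000000008000000000000000000000000000000000000000000000000000000000000000000000000000000000000000000000000000000000000000000000000000000000000000000000000000000000000000000000)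 (nat_lit 8000))) (Nat.shiftLeft (Nat.lor (nat_lit 0x00800000000000000004000000000000000000000000020000000000000000000000000000000020000000000000000000000000000000000000000000000000000000000000000000000000000000000000000000000001002000000000000000000000000000000000000000000010800000000004040000000000000000000000000000000000000000000000000000000000000000000000000000000000000000000000000040000800000000000000000000200000800000000000000000000000000000000000000000000000000000000000000001000000000000000000000000000000000000000000000020000000000000000000000000000000000000000000000000000000000004004000000000000000000000000000000000000000000000001000000000002000000000000000000000000000000000000000000000000000000000000000000000000000000000000000000000000000000040000000000000040000000028000000000000000000020000000040000000000000000000000000000000000000000000000000000000000000000000000000000000000000000000000000000000000000000000000000000000000000000000000000000000000000000000000000000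000000000000000000000000000200000000000000000000000000000000000000000000000000000200000000000000000000000000000000000000000000000000000000000000000000000000000000000000000000000000000000000000000000000000000000000000020000000000000000002000000000004000000000000000000000040000000000000000000010000000000000000000000000000000000000000000000000000000000000000000000000000000000000000000000000000000000000000000000000000000000000000000000000000000000000000000000000000000000000000000000000000000000000000000000100000000000000000000000000000000000000000000000000000000000000000000000000000000000021000000000000000000000000000000000000000000000000000000000000000000000000000000000000000000000000000000000000000000000001000000000000000000000000000000000400000000000000000000800000000000000004000000000000000000001000000000000000000000000000000000000000000000000000000000000000000000000000000000000000000000000000000000000000000000000000000000000000000000000000000000000000000000000000000000000000000000000000000000000000000000000000000100000000000000000000000000000000000)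 (Nat.shiftLeft (nat_lit 0x4000000000000000000000000000000000000000000000000000000000000000000000000000000000000000000000000000000000008000000000000000000000000000008000000000000000000000000000000000000880000000000000000000000000000000000000000000000000000000000000000000000000000000000000000000000000000000000000000000000000000000000000000000000000000000011000000000000000000000000000000000002000000000000000000000800000000000000000000001100000000000000000000000000000000000000000000000000000000000000000000000000000000000000000000000000000000000000000000000000000000000000000000000000000000000000000000000000000000000000000000000000880000000000000000000000000000000000020000000000000000000000002000000000000000000000000200000000000000000000000000000000000000000000000000000000000000000000000000000000000000000000000000000000000000000000000000000000000000000000000000000000000000000000000000000000000000000000000000000000000000000000000040000000000000000000000000000000000000000000000000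00000000100000000000000000000000000000000000000000000000000000000000000000000000000000000000000000000000000000000000000000000000000000000000000000000000000000000000000000000000000000000000000000000000000000000000000000000000000000000000000000000000000000000000000000000000000000000000000000000000000000000000000000000000000000000000000000000000200000000000000000000000000000000000000000000000000000000000000000000000000000000000000000000000000000000000000000000000000000000000000000000000000000000000000000000000000000000000000000000000000000000003000000000001010000000000000000000000000000000000000000000000000000000000000000000000000000000010) (nat_lit 8000))) (nat_lit 16000)))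
noncomputable def w1_kg : List (List Nat) := [[(nat_lit 23)],
  [(nat_lit 19), (nat_lit 35), (nat_lit 15), (nat_lit 23), (nat_lit 15), (nat_lit 35), (nat_lit 19)],
  [(nat_lit 41), (nat_lit 48), (nat_lit 25), (nat_lit 23), (nat_lit 26), (nat_lit 47), (nat_lit 41)],
  [(nat_lit 54), (nat_lit 15), (nat_lit 23), (nat_lit 15), (nat_lit 53)],
  [(nat_lit 54), (nat_lit 25), (nat_lit 23), (nat_lit 26), (nat_lit 53)],
  [(nat_lit 34), (nat_lit 54), (nat_lit 23), (nat_lit 53), (nat_lit 33)],
  [(nat_lit 54), (nat_lit 26), (nat_lit 15), (nat_lit 23), (nat_lit 15), (nat_lit 25), (nat_lit 53)],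
  [(nat_lit 9), (nat_lit 41), (nat_lit 54), (nat_lit 23), (nat_lit 53), (nat_lit 41), (nat_lit 9)],
  [(nat_lit 34), (nat_lit 25), (nat_lit 53), (nat_lit 23), (nat_lit 54), (nat_lit 26), (nat_lit 33)],
  [(nat_lit 22), (nat_lit 26), (nat_lit 35), (nat_lit 53), (nat_lit 23), (nat_lit 54), (nat_lit 35), (nat_lit 25), (nat_lit 21)],
  [(nat_lit 25), (nat_lit 25), (nat_lit 53), (nat_lit 23), (nat_lit 54), (nat_lit 26), (nat_lit 26)],
  [(nat_lit 25), (nat_lit 9), (nat_lit 39), (nat_lit 15), (nat_lit 23), (nat_lit 15), (nat_lit 40), (nat_lit 9), (nat_lit 26)],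
  [(nat_lit 26), (nat_lit 41), (nat_lit 48), (nat_lit 25), (nat_lit 23), (nat_lit 26), (nat_lit 47), (nat_lit 41), (nat_lit 25)],
  [(nat_lit 47), (nat_lit 21), (nat_lit 40), (nat_lit 53), (nat_lit 23), (nat_lit 54), (nat_lit 39), (nat_lit 22), (nat_lit 48)]]
noncomputable def w1_T : Wd := (Wd.cons [] [[(nat_lit 1)],
  [(nat_lit 3)],
  [(nat_lit 5)],
  [(nat_lit 7)],
  [(nat_lit 9)],
  [(nat_lit 11)]] (nat_lit 4)
 (Wd.cons [(nat_lit 54), (nat_lit 15)] [[(nat_lit 7)],
  [(nat_lit 9)],
  [(nat_lit 11)],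
  [(nat_lit 13)],
  [(nat_lit 15)]] (nat_lit 2)
 (Wd.cons [(nat_lit 34), (nat_lit 25), (nat_lit 53)] [[(nat_lit 17)],
  [(nat_lit 19)]] (nat_lit 1)
 (Wd.cons [(nat_lit 25), (nat_lit 25), (nat_lit 53)] [[(nat_lit 21)],
  [(nat_lit 23)]] (nat_lit 1)
 (Wd.cons [(nat_lit 26), (nat_lit 41), (nat_lit 48), (nat_lit 25)] [[(nat_lit 25)],
  [(nat_lit 27)]] (nat_lit 1)
 Wd.leaf Wd.leaf) (Wd.cons [(nat_lit 26), (nat_lit 41), (nat_lit 48), (nat_lit 25)] [[(nat_lit 25)],
  [(nat_lit 27)]] (nat_lit 1)
 Wd.leaf Wd.leaf)) (Wd.cons [(nat_lit 25), (nat_lit 25), (nat_lit 53)] [[(nat_lit 21)],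
  [(nat_lit 23)]] (nat_lit 1)
 (Wd.cons [(nat_lit 26), (nat_lit 41), (nat_lit 48), (nat_lit 25)] [[(nat_lit 25)],
  [(nat_lit 27)]] (nat_lit 1)
 Wd.leaf Wd.leaf) Wd.leaf)) Wd.leaf) Wd.leaf)
noncomputable def w1_ps : List (List Nat) := [[],
  [(nat_lit 54), (nat_lit 15)],
  [(nat_lit 34), (nat_lit 25), (nat_lit 53)],
  [(nat_lit 25), (nat_lit 25), (nat_lit 53)],
  [(nat_lit 26), (nat_lit 41), (nat_lit 48), (nat_lit 25)]]
noncomputable def v2 : Nat := (Nat.lor (Nat.lor (nat_lit 0x000000000000008000000000000000000000000000000000000000000000800010000000000000000000000000000000000000000000000000000000000000000104000400000001800000001100000000000000004000000000000000000000000000000000000000000000000000000000000000000000000000000000000000000000000000000000000000000000000000000000004000000010000000000200000002000000000000000018000000000000000000000000800000000000000000000000000000000000000000000000000000000000000400000800000000000000000000100000000000000000000004000000000000000000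0000000000000000000000000000000000000000000000000000000000000000000000001000000000000000001004000000000000000000000000000000000010001000000000000000000000000000000000000000000000000000200000000000000000020000000000000000000000000000000000004000000000000000000010000000000400000000000000000000000000000000000000000000000000000000000000000000000000000000000008000000100000000000000100000000000000000000000000000000000000000000000000000000000000080000020000000000000000000000000000000000000000000000000000000000000000000000000000000000000000000000000000022000000000000000000000000000000000000000002000000000008000000000008000000000000000000000000000000400000000000000000000000000000000000000000000000000000000000000000000000000400000000000000000000000000000000000000000010000020000400000090180008000000000400000000000000000000000000000000000000000000000000000000000000000000000000000000000000000000000000000012000000000000004000000100000000000000000000000000008000000000000000000000000000000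00020000000000000000000000000000000000000000008000000000000000000000000000c0000000000000200000000000000000000000000000000000000000000000000000000000000000000000000000000000000000000000000000000000000000000000000000000000000000000000000000000000000000000000800000000000000000000000000000000000000000000000000000000000000000000020000000000000000000000000010000000000000000000000000000000000000000000000000000000000000080000000000000000000000000000000000000000000000000000000000000000000000000000400000000000005) (Nat.shiftLeft (nat_lit 0x00000000000000000000000000000000000000000000000000000000000000000000000000000000000000000000000000000000000000080000000000000000000000000200000000010000000000000000020001000000000000000000100000000000000000000000000000000000000000000001000000000000000000000008000000000000000000000000000000000000000000000000000000000000000000010000000000000000000000000000000000000000000000000000000000000002000000000020000000000000000100000000000000000000000000000000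0000000800000001000000000000000000000004000000000000000000000010010000000100000000000000000000000000000000000200000000400000000000000000000000000000000000000000000010000000000000000000000000000000000000000000000000000010000000000000000010000000000080000000000000000000000000000000000000080000000000000000000000000000000000004000000100000000000000000000000000001000000100000000000000000000200400100020000000000000000000000000000000004004000000000000401000080000000000400000000000000000000000000000000000000000004000000000000000000000000000000000000000000000000000100000400000000000000000000008000000000010000000000000000000000000000040000000000000000000000000000000800000028000000000000000000000000008000000000000000000000000000000000000000000000000000000000000000000000000000000000000000000000000000100000000000000000100200008001000010004000000000000000000000000000000000000000000001080200000000000000000000000000000000000000000000000000000000000000100000000000000000000000000000000000000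00000000200004000000002000000000000000000800000000000000000010000000000000000000000000000000000000000000000000001100000000000000000000000000000000000000000000004000000000000000000000000000000000000000000000000080000000000000000000000000000000000000000000000000004000000000000000000000000000000000000000000000000040000010000000000000000080000000000000000000000001000000000020008000002000000000000000000000000800400000000000000001000000000100000000000000000000000000220000000000000000040002000000000100000000000000000000000000000000000000000000000000000000000000) (nat_lit 8000))) (Nat.shiftLeft (Nat.lor (nat_lit 0x10000000000000000000000000000100000000000000000000000000800002000000000000000000000000000000000000000000040040000000000000000000000000000000000000004000000000000000001000002000004000480000000000000000000000001000000200000000000000000000000000000000000000000000108000000000000000080000000000000000000000000000000001000000000000000000001000000000000001000000000800000000000000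0000000000000000000000008000000000000000000000040000000000040100000000000000000000000000000000000000000000000000000000000000000000000000000000000000010000000000000000000000000000000000000000000000000000000000000000000000400000010000000000000020000000020000000000000000000000000000000000000009010080200000000000000000000000000000000000000000000000100000000010000080001000000000200000000000000000000000000000000040000000000000000000000001000000000000000000000000080000000000000000000000000000000000000000000000000010000000000000000000000000000000000000000000000000008008000000000004000000000000010000400000000000000000000800000000000000000100000000000000000000020000000000000000000000000000000000000000000080000000400000000000000000000000000000c00000000000000000000000000000000000000000000000000000000000000010000000000000000000000000000400000000000000000000000401000000000000000000000000010020000000000000000000000000100000000000000000000008000000000000000000000000000000000000000004000080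00000000000000000020000000100000000000000000000000000000000000000000000080000000000000000000000000000000000000000000000000000000000006200000000000000000000000000000000000000000000000000000000200800000000000000000000000000000000000000000000000800000000000000000000000000000000000000000000000000000000000000000000000000000000000000000800000000000000000000000000008000000000000000000000000000000000000000000000000000000000200000000000080000000000010000000000800000000000000000000000002000000000000000000000000000000080000000000000000000000000001040000000000000000000000000000000000000000000000000000000000040000000000000000800000000000000000) (Nat.shiftLeft (nat_lit 0x4220000009002000000000000000000000000000000000000000000000800000000000000080000000000000000000001000000004000000000000000000000000000000000000000002000000000000000000100002000000000800084000000000000000000000000000000010000400000000000000000080000000000000010000000000000000000004000000000000000000000000000000000000000002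0000000000000000000000000000000000000000000000000000000000000000000000000000000000000000000000000000000000000000000000000000000000000000000020000000000000000000000000000000000000000000000000000000000000000000000000000000020000000000000000000000000000002000000000000000000000000000000000000000000000000000000000000000000080000000002000000000000000000000000000000000000000000000000000000000000000000000000000000020000000000000000000000000000000000000000000000000000000000000000000000000000000000000000100000000000008000000000000000000001000000000000000008000000000800000000000080000000000000000000000020000000000100000000000000000000000000000000000000000000000000000000000008000000000000000000000000000000000000000800000000000000000000000000000000000000000040000000000000000000000001000000000000000000000000000000000000000000020004000000000000000000000000000000040000000000000000000008000000000000000000008000000000000000000000000000080000000000000000000000000000000000000010000000000000000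000000100000000000000000000000000008000000000000080000000000000000000000000000000000000040000000000000000000000002000000000000010000000000000000000000000000000240000000000000000000000000000000000080001000000000000000000000004000000000000000000010000000000000000000100000000000000000000000080000400000000000008000000100000000000000000000000000000000000000000000000000008040020000000040000000000000000000008008000000000004000000000000800000000000000000000000000000000000000000000000100000008000000000000000000000000400200000000000000008000000000000000000000000000000001000000001000100000000000008000000000) (nat_lit 8000))) (nat_lit 16000)))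
noncomputable def w2_kg : List (List Nat) := [[(nat_lit 23)],
  [(nat_lit 15), (nat_lit 23), (nat_lit 15)],
  [(nat_lit 35), (nat_lit 15), (nat_lit 23), (nat_lit 15), (nat_lit 35)],
  [(nat_lit 26), (nat_lit 41), (nat_lit 15), (nat_lit 23), (nat_lit 15), (nat_lit 41), (nat_lit 25)],
  [(nat_lit 41), (nat_lit 34), (nat_lit 25), (nat_lit 23), (nat_lit 26), (nat_lit 33), (nat_lit 41)],
  [(nat_lit 54), (nat_lit 15), (nat_lit 23), (nat_lit 15), (nat_lit 53)],
  [(nat_lit 55), (nat_lit 25), (nat_lit 40), (nat_lit 15), (nat_lit 23), (nat_lit 15), (nat_lit 39), (nat_lit 26), (nat_lit 55)],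
  [(nat_lit 34), (nat_lit 43), (nat_lit 27), (nat_lit 54), (nat_lit 23), (nat_lit 53), (nat_lit 28), (nat_lit 44), (nat_lit 33)],
  [(nat_lit 1), (nat_lit 35), (nat_lit 53), (nat_lit 23), (nat_lit 54), (nat_lit 35), (nat_lit 1)],
  [(nat_lit 48), (nat_lit 25), (nat_lit 45), (nat_lit 15), (nat_lit 23), (nat_lit 15), (nat_lit 45), (nat_lit 26), (nat_lit 47)],
  [(nat_lit 25), (nat_lit 49), (nat_lit 33), (nat_lit 25), (nat_lit 23), (nat_lit 26), (nat_lit 34), (nat_lit 49), (nat_lit 26)],
  [(nat_lit 37), (nat_lit 34), (nat_lit 25), (nat_lit 53), (nat_lit 23), (nat_lit 54), (nat_lit 26), (nat_lit 33), (nat_lit 37)],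
  [(nat_lit 44), (nat_lit 25), (nat_lit 43), (nat_lit 15), (nat_lit 23), (nat_lit 15), (nat_lit 44), (nat_lit 26), (nat_lit 43)]]
noncomputable def w2_T : Wd := (Wd.cons [] [[(nat_lit 1)],
  [(nat_lit 3)],
  [(nat_lit 5)],
  [(nat_lit 7)],
  [(nat_lit 9)]] (nat_lit 3)
 (Wd.cons [(nat_lit 54), (nat_lit 15)] [[(nat_lit 11)],
  [(nat_lit 13)],
  [(nat_lit 15)]] (nat_lit 2)
 (Wd.cons [(nat_lit 1), (nat_lit 35), (nat_lit 53)] [[(nat_lit 17)],
  [(nat_lit 7)],
  [(nat_lit 19)]] (nat_lit 2)
 (Wd.cons [(nat_lit 25), (nat_lit 49), (nat_lit 33), (nat_lit 25)] [[(nat_lit 21)],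
  [(nat_lit 23)],
  [(nat_lit 25)]] (nat_lit 2)
 Wd.leaf Wd.leaf) (Wd.cons [(nat_lit 25), (nat_lit 49), (nat_lit 33), (nat_lit 25)] [[(nat_lit 21)],
  [(nat_lit 23)],
  [(nat_lit 25)]] (nat_lit 2)
 Wd.leaf Wd.leaf)) (Wd.cons [(nat_lit 1), (nat_lit 35), (nat_lit 53)] [[(nat_lit 17)],
  [(nat_lit 7)],
  [(nat_lit 19)]] (nat_lit 2)
 (Wd.cons [(nat_lit 25), (nat_lit 49), (nat_lit 33), (nat_lit 25)] [[(nat_lit 21)],
  [(nat_lit 23)],
  [(nat_lit 25)]] (nat_lit 2)
 Wd.leaf Wd.leaf) (Wd.cons [(nat_lit 25), (nat_lit 49), (nat_lit 33), (nat_lit 25)] [[(nat_lit 21)],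
  [(nat_lit 23)],
  [(nat_lit 25)]] (nat_lit 2)
 Wd.leaf Wd.leaf))) Wd.leaf)
noncomputable def w2_ps : List (List Nat) := [[],
  [(nat_lit 54), (nat_lit 15)],
  [(nat_lit 1), (nat_lit 35), (nat_lit 53)],
  [(nat_lit 25), (nat_lit 49), (nat_lit 33), (nat_lit 25)]]
noncomputable def v3 : Nat := (Nat.lor (Nat.lor (nat_lit 0x0000000000000000000000000000000000000000000000000000000000000000000000000000000000000000000000000000000000000000000000000000000000000000000000000000000000000000000000000000000000000000000000000000000000000000000000000000000000000000000000000000000000000000000000000000000000000000000000000000000000000000000000000000000000000000000000000000000000000000000000000000000000000000000000000000000000000000000000000000000000000000000000000000000000000000000000000000000000000000000000000000000000000000000000000000000000000000000000000000000000000000000000000000000000000000000000000000000000000000000000000000000000000000000000000000000000000000000000000000000000000000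0000000000000000000000000000000000000000000000000000000000000000000000000000000000000000000000000000000000000000000000000000000000000000000000000000000000000000000000000000000000000000000000000000000000000000000000000000000000000000000000000000000000000000000000000000000000000000000000000000000000000000000000000000000000000000000000000000000000000000000000000000000000000000000000000000000000000000000000000000000000000000000000000000000000000000000000000000000000000000000000000000000000000000000000000000000000000000000000000000000000000000000000000000000000000000000000000000000000000000000000000000000000000000000000000000000000000000000000000000000000000000000000000000000000000000000000000000000000000000000000000000000000000000000000000000000000000000000000000000000000000000000000000000000000000000000000000000000000000000000000000000000000000000000000000000000000000000000000000000000000000000000000000000000000000000000000000000000000000000000000000000000000000000000000000000000000000000000000000000000000000000000000000000000000000000000000000000000000000000000000000000000000000000000000000000000000000000000000000000000000000000000000000000000000000000000000000000000000000000000000000000000000000000000000000000000000000000000000000000000000000000000000000000000000000000000000000000000000000000000000000000000000000000)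 (Nat.shiftLeft (nat_lit 0x0000000000000000000000000000000000000000000000000000000000000000000000000000000000000000000000000000000000000000000000000000000000000000000000000000000000000000000000000000000000000000000000000000000000000000000000000000000000000000000000000000000000000000000000000000000000000000000000000000000000000000000000000000000000000000000000000000000000000000000000000000000000000000000000000000000000000000000000000000000000000000000000000000000000000000000000000000000000000000000020000000000000000000000000000000000000000000000000000000000000000000000000000000000000000000000000000000000000000000000000000000000000000000000000000000000000000000000000000000000000000000000000000000000000000000000000000000000000000000000000000000000000000000000000000000000000000000000000000000000000000000000000000000000000000000000000000000000000000000000000000000000000000000000000000000000000000000000000000000000000000000000000000000000000000000000000000000000000000000000000000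0000000000000000000000000000000000000000000000000000000000000000000000000000000000000000000000000000000000000000000000000000000000000000000000000000000000000000000000000000000000000000000000000000000000000000000000000000000000000000000000000000000000000000000000000000000000000000000000000000000000000000000000000000000000000000000000000000000000000000000000000000000000000000000000000000000000000000000000000000000000000000000000000000000000000000000000000000000000000000000000000000000000000000000000000000000000000000000000000000000000000000000000000000000000000000000000000000000000000000000000000000000000000000000000000000000000000000000000000000000000000000000000000000000000000000000000000000000000000000000000000000000000000000000000000000000000000000000000000000000000000000000000000000000000000000000000000000000000000000000000000000000000000000000000000000000000000000000000000000000000000000000000000000000000000000000000000000000000000000000000000000000000000000000000000000000000000000000000000000000000000000000000000000000)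 (nat_lit 8000))) (Nat.shiftLeft (Nat.lor (nat_lit 0x00000000000000000000000000000000000000000000000000000000000000000000000000000000000000000000000000000000000000000000000000000000000000000000000000000000000000000000000000000000000000000000000000000000000000000000000000000000000000000000000000000000000000000000000000000000000000000000000000000000000000000000000000000000000000000000000000000000000000000000000000000001000000000000000000000000000000000000000000000000000000000000000000000000000000000000000000000000000000000000000000000000200000000000000000000000000000000000000000000000000008000000000000000000000000000000010000400000000000000000000000000040000000000000000000000000000000000000000000000000000000000000000000000000000000000000000000000000000000000000000000000000000000000000000000000000000000000000000000000000000000000000000000000000000000000000000000000000000000000000000000000000000000000000000000000000000000000000000000000000000000000000000000000000000000000000000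000000000000000000000000000000000000000000000000000000000000000000000000000000000000000000000000000000000000000000000000000000000000000400000000000000000000000000000000000000000000000000000000000000000000000000000000000000000000000000000000000000000000000010000000000000000000000000000000000000000000000000000000000000000000000800000000000000000000000000000000000000000001000000000000000000000000000000000000000000000000000000000000000000000000000000000000000000000000000000000000000000000000000000000000000000000000000000000000000000000000000000000000000000000000000000002000000000000000000000000000000000000000000000000000000000000000000000000000000000000000000000000000000000000000000000000000000000000000000000000000000000000000000000000000000000000000000000000000000000000000000000000000000000000000000000000000000000000000000000000000000000000000000000000000000000000000000000000000000000000000000000000000000000000000000000000000000000000000000000000004000000000000000000000000000000000000000000000000000000800000000000000000000000000000000000000000000000000)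 (Nat.shiftLeft (nat_lit 0x9100000000000000000000000000000000000000000000000000000000000000000000000000000000000000000000000000000000000000000000000000000000000000000000000000000000000000000000000000000000000000000000000000000000000000000000000000000000000000000000000000000000000000000000000000000000000000000000000000000000000000000000000000000000000000000000000000000000000000000000000000000000000000000000000000000000000000000000000000000000000000000000000000000000000000000000000000000000000000000000000000000000000000000000000000000000000000000000000000000000000000000000000000000000000000000000000000000000000000000000000000000000000000000000000000000000000000000000000000000000000000000000000000000000000000000000000000000000000000000000000000000000000000000000000000000000000000000000000000000000000000000000000000000000000000000000000000000000000000000000000000000000000000000000000000000000000000000000000000000000000000000000000000000000000000000000000000000000000000000000000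0000000000000000000000000000000000000000000000000000000000000000000000000000000000000000000000000000000200000000000000000000000000000000000000000000000000000000000000000000000000000000000000000000000000000000000000000000000000000000000000000000000000000000000000000000000000000000000000000000000000000000010000000000000000000000000000000000040000000000000000000000000000000000000000000000000000000000000000000000000000000000000000000000000000000000000000000000000000000000000000000000000000000000000000000000000000000000000000000000000000000000000000000000000000000000000000000000000000000000000000000000000000000000000000000000000000000000000000000000000000000000000000000000000000000000000000000000000800000000000000001000000000000000000000000000000000000000000000000000000000000000000000000000000000000000000000000000000000000000000000000000000000000000000000000000000400000000000000040001000000000001000000000000000000000000000000000100000000000) (nat_lit 8000))) (nat_lit 16000)))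
noncomputable def w3_kg : List (List Nat) := [[(nat_lit 40), (nat_lit 28), (nat_lit 41), (nat_lit 15), (nat_lit 23), (nat_lit 15), (nat_lit 41), (nat_lit 27), (nat_lit 39)],
  [(nat_lit 17), (nat_lit 44), (nat_lit 34), (nat_lit 25), (nat_lit 23), (nat_lit 26), (nat_lit 33), (nat_lit 43), (nat_lit 17)],
  [(nat_lit 29), (nat_lit 44), (nat_lit 28), (nat_lit 21), (nat_lit 15), (nat_lit 23), (nat_lit 15), (nat_lit 22), (nat_lit 27), (nat_lit 43), (nat_lit 30)],
  [(nat_lit 22), (nat_lit 53), (nat_lit 39), (nat_lit 33), (nat_lit 25), (nat_lit 23), (nat_lit 26), (nat_lit 34), (nat_lit 40), (nat_lit 54), (nat_lit 21)]]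
noncomputable def w3_T : Wd := (Wd.cons [(nat_lit 40), (nat_lit 28), (nat_lit 41), (nat_lit 15)] [[(nat_lit 1)],
  [(nat_lit 3)],
  [(nat_lit 5)],
  [(nat_lit 7)]] (nat_lit 2)
 Wd.leaf Wd.leaf)
noncomputable def w3_ps : List (List Nat) := [[(nat_lit 40), (nat_lit 28), (nat_lit 41), (nat_lit 15)]]

theorem a_cen_0 : allFrom (cenAt (eqLq eq0) 3 a_gs a_pc) 0 13 = true := by decide +kernel
theorem a_tor : lall2 (torOK (eqLq eq0) a_gs) a_zs a_zu = true := by decide +kernel
theorem a_u_inc : incOK a_u_pi 31671 1053 = true := by decide +kernel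
theorem a_u_wf : wfAll a_u_N 1053 = true := by decide +kernel
theorem a_u_tab_0 : allFrom (tabOK a_u_N 1053 11 11 10 a_u_TT) 0 7 = true := by decide +kernel
theorem a_u_tabs : Tabs a_u_N 1053 10 11 a_u_TT 6 :=
  tabs_of (k := 11) (wf_of_wfAll a_u_wf) (by decide) (by decide) (by decide) (lt_add_all lt_zero_all 7 a_u_tab_0)
theorem a_u_s_0 : allFrom (subT (evT TT (nat_lit 56) (nat_lit 10) (nat_lit 1023) (nat_lit 15) (nat_lit 32767)) (recT a_u_TT (nat_lit 10) (nat_lit 1023) (nat_lit 11) (nat_lit 2047)) a_u_pi a_hs (nat_lit 1053)) 0 2 = true := by decide +kernel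
theorem a_u_s_2 : allFrom (subT (evT TT (nat_lit 56) (nat_lit 10) (nat_lit 1023) (nat_lit 15) (nat_lit 32767)) (recT a_u_TT (nat_lit 10) (nat_lit 1023) (nat_lit 11) (nat_lit 2047)) a_u_pi a_hs (nat_lit 1053)) 2 1 = true := by decide +kernel
theorem a_ge : geOK a_u_N 1053 (gensW 3) a_c 1594323 = true := by decide +kernel
theorem a_mem : memOK (eqLq eq0) a_gs a_hs [[(nat_lit 1)],  [(nat_lit 3)],  [(nat_lit 5)]] = true := by decide +kernel
theorem a_e0_0 : allFrom (entAt (eqLq eq0) 3 a_gs (lapp a_gs (lapp a_zs [])) 0 a_X0 a_X1 a_E0) 0 1 = true := by decide +kernel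
theorem a_e1_0 : allFrom (entAt (eqLq eq0) 3 a_gs (lapp a_gs (lapp a_zs [])) 1 a_X1 a_X2 a_E1) 0 2 = true := by decide +kernel
theorem a_e2_0 : allFrom (entAt (eqLq eq0) 3 a_gs (lapp a_gs (lapp a_zs [])) 2 a_X2 a_X3 a_E2) 0 4 = true := by decide +kernel
theorem a_e3_0 : allFrom (entAt (eqLq eq0) 3 a_gs (lapp a_gs (lapp a_zs [])) 3 a_X3 a_X4 a_E3) 0 8 = true := by decide +kernel
theorem a_e4_0 : allFrom (entAt (eqLq eq0) 3 a_gs (lapp a_gs (lapp a_zs [])) 4 a_X4 a_X5 a_E4) 0 10 = true := by decide +kernel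
theorem a_e5_0 : allFrom (entAt (eqLq eq0) 3 a_gs (lapp a_gs (lapp a_zs [])) 5 a_X5 a_X6 a_E5) 0 14 = true := by decide +kernel
theorem a_e6_0 : allFrom (entAt (eqLq eq0) 3 a_gs (lapp a_gs (lapp a_zs [])) 6 a_X6 a_X7 a_E6) 0 15 = true := by decide +kernel
theorem a_e7_0 : allFrom (entAt (eqLq eq0) 3 a_gs (lapp a_gs (lapp a_zs [])) 7 a_X7 a_X8 a_E7) 0 24 = true := by decide +kernel
theorem a_e8_0 : allFrom (entAt (eqLq eq0) 3 a_gs (lapp a_gs (lapp a_zs [])) 8 a_X8 a_X9 a_E8) 0 34 = true := by decide +kernel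
theorem a_e9_0 : allFrom (entAt (eqLq eq0) 3 a_gs (lapp a_gs (lapp a_zs [])) 9 a_X9 a_X10 a_E9) 0 37 = true := by decide +kernel
theorem a_e10_0 : allFrom (entAt (eqLq eq0) 3 a_gs (lapp a_gs (lapp a_zs [])) 10 a_X10 a_X11 a_E10) 0 41 = true := by decide +kernel
theorem a_e11_0 : allFrom (entAt (eqLq eq0) 3 a_gs (lapp a_gs (lapp a_zs [])) 11 a_X11 a_X12 a_E11) 0 47 = true := by decide +kernel
theorem a_e11_47 : allFrom (entAt (eqLq eq0) 3 a_gs (lapp a_gs (lapp a_zs [])) 11 a_X11 a_X12 a_E11) 47 5 = true := by decide +kernel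
theorem a_e12_0 : allFrom (entAt (eqLq eq0) 3 a_gs (lapp a_gs (lapp a_zs [])) 12 a_X12 a_X13 a_E12) 0 52 = true := by decide +kernel
theorem a_e12_52 : allFrom (entAt (eqLq eq0) 3 a_gs (lapp a_gs (lapp a_zs [])) 12 a_X12 a_X13 a_E12) 52 13 = true := by decide +kernel
theorem a_f_0 : allFrom (finAt (eqLq eq0) a_gs a_X13 [[], x0, x1, x2, x3] a_F) 0 70 = true := by decide +kernel
theorem fx0 : Nat.beq (fixB N 31671 15 x0) v0 = true := by decide +kernel
theorem or0 : ordOK eq0 3 x0 = true := by decide +kernel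
theorem w0_ok : w0_T.ok N 31671 Q w0_kg v0 7 = true := by decide +kernel
theorem w0_cq : cliqOK N Q w0_ps v0 = true := by decide +kernel
theorem fx1 : Nat.beq (fixB N 31671 15 x1) v1 = true := by decide +kernel
theorem or1 : ordOK eq0 3 x1 = true := by decide +kernel
theorem w1_ok : w1_T.ok N 31671 Q w1_kg v1 5 = true := by decide +kernel
theorem w1_cq : cliqOK N Q w1_ps v1 = true := by decide +kernel
theorem fx2 : Nat.beq (fixB N 31671 15 x2) v2 = true := by decide +kernel
theorem or2 : ordOK eq0 3 x2 = true := by decide +kernel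
theorem w2_ok : w2_T.ok N 31671 Q w2_kg v2 4 = true := by decide +kernel
theorem w2_cq : cliqOK N Q w2_ps v2 = true := by decide +kernel
theorem fx3 : Nat.beq (fixB N 31671 15 x3) v3 = true := by decide +kernel
theorem or3 : ordOK eq0 3 x3 = true := by decide +kernel
theorem w3_ok : w3_T.ok N 31671 Q w3_kg v3 1 = true := by decide +kernel
theorem w3_cq : cliqOK N Q w3_ps v3 = true := by decide +kernel

variable {G : Type*} [Group G] {D : Set G} {E : Dom (Cj G) 31671} {f : ℕ → G} {NN : List Net}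

theorem a_u_reps (M : M23 D E f) : Reps (Dom.lst E a_u_pi a_u_inc) a_u_N (evs f a_hs) :=
  Reps.subT M.reps tabs (by decide) (wf_of_wfAll a_u_wf) a_u_tabs (l := 3) (by decide) rfl rfl a_u_inc
    (by decide) (by decide) (by decide) (by decide) (lt_add_all (lt_add_all lt_zero_all 2 a_u_s_0) 1 a_u_s_2)
theorem a_cens (M : M23 D E f) : CenS f 3 a_gs :=
  have := M.finite
  ⟨M.sm0.eqLq.cenR (l := 13) rfl (lt_add_all lt_zero_all 13 a_cen_0), by norm_num,
    (Reps.card_geT (a_u_reps M) (by decide) rfl a_ge).trans (card_le_of_le (M.sm0.eqLq.le a_mem))⟩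
theorem a_cl0 (M : M23 D E f) : Cl f 3 a_gs ⊤ 0 a_X0 := Cl.zero _
theorem a_cl1 (M : M23 D E f) : Cl f 3 a_gs ⊤ 1 a_X1 :=
  have := M.finite
  (a_cl0 M).step' M.sm0.eqLq (a_cens M) a_tor (l := 1) (by decide +kernel) (lt_add_all lt_zero_all 1 a_e0_0)
theorem a_cl2 (M : M23 D E f) : Cl f 3 a_gs ⊤ 2 a_X2 :=
  have := M.finite
  (a_cl1 M).step' M.sm0.eqLq (a_cens M) a_tor (l := 2) (by decide +kernel) (lt_add_all lt_zero_all 2 a_e1_0)
theorem a_cl3 (M : M23 D E f) : Cl f 3 a_gs ⊤ 3 a_X3 :=
  have := M.finite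
  (a_cl2 M).step' M.sm0.eqLq (a_cens M) a_tor (l := 4) (by decide +kernel) (lt_add_all lt_zero_all 4 a_e2_0)
theorem a_cl4 (M : M23 D E f) : Cl f 3 a_gs ⊤ 4 a_X4 :=
  have := M.finite
  (a_cl3 M).step' M.sm0.eqLq (a_cens M) a_tor (l := 8) (by decide +kernel) (lt_add_all lt_zero_all 8 a_e3_0)
theorem a_cl5 (M : M23 D E f) : Cl f 3 a_gs ⊤ 5 a_X5 :=
  have := M.finite
  (a_cl4 M).step' M.sm0.eqLq (a_cens M) a_tor (l := 10) (by decide +kernel) (lt_add_all lt_zero_all 10 a_e4_0)
theorem a_cl6 (M : M23 D E f) : Cl f 3 a_gs ⊤ 6 a_X6 :=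
  have := M.finite
  (a_cl5 M).step' M.sm0.eqLq (a_cens M) a_tor (l := 14) (by decide +kernel) (lt_add_all lt_zero_all 14 a_e5_0)
theorem a_cl7 (M : M23 D E f) : Cl f 3 a_gs ⊤ 7 a_X7 :=
  have := M.finite
  (a_cl6 M).step' M.sm0.eqLq (a_cens M) a_tor (l := 15) (by decide +kernel) (lt_add_all lt_zero_all 15 a_e6_0)
theorem a_cl8 (M : M23 D E f) : Cl f 3 a_gs ⊤ 8 a_X8 :=
  have := M.finite
  (a_cl7 M).step' M.sm0.eqLq (a_cens M) a_tor (l := 24) (by decide +kernel) (lt_add_all lt_zero_all 24 a_e7_0)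
theorem a_cl9 (M : M23 D E f) : Cl f 3 a_gs ⊤ 9 a_X9 :=
  have := M.finite
  (a_cl8 M).step' M.sm0.eqLq (a_cens M) a_tor (l := 34) (by decide +kernel) (lt_add_all lt_zero_all 34 a_e8_0)
theorem a_cl10 (M : M23 D E f) : Cl f 3 a_gs ⊤ 10 a_X10 :=
  have := M.finite
  (a_cl9 M).step' M.sm0.eqLq (a_cens M) a_tor (l := 37) (by decide +kernel) (lt_add_all lt_zero_all 37 a_e9_0)
theorem a_cl11 (M : M23 D E f) : Cl f 3 a_gs ⊤ 11 a_X11 :=
  have := M.finite
  (a_cl10 M).step' M.sm0.eqLq (a_cens M) a_tor (l := 41) (by decide +kernel) (lt_add_all lt_zero_all 41 a_e10_0)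
theorem a_cl12 (M : M23 D E f) : Cl f 3 a_gs ⊤ 12 a_X12 :=
  have := M.finite
  (a_cl11 M).step' M.sm0.eqLq (a_cens M) a_tor (l := 52) (by decide +kernel) (lt_add_all (lt_add_all lt_zero_all 47 a_e11_0) 5 a_e11_47)
theorem a_cl13 (M : M23 D E f) : Cl f 3 a_gs ⊤ 13 a_X13 :=
  have := M.finite
  (a_cl12 M).step' M.sm0.eqLq (a_cens M) a_tor (l := 65) (by decide +kernel) (lt_add_all (lt_add_all lt_zero_all 52 a_e12_0) 13 a_e12_52)
theorem a_all (M : M23 D E f) : ∀ y : G, y ^ 3 = 1 → ∃ r ∈ [[], x0, x1, x2, x3], IsConj y (ev f r) :=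
  have := M.finite
  (a_cl13 M).all M.sm0.eqLq (a_cens M) (l := 70) (m := 2565020057600) (by decide +kernel) (lt_add_all lt_zero_all 70 a_f_0)
    (by rw [M.card]; norm_num) (by decide)
theorem fix0 (M : M23 D E f) : D ∩ (centralizer (zpowers (ev f x0) : Set G) : Set G) = sv E v0 := by
  rw [M.fix_cent (k := 15) (by decide), beq_iff.1 fx0]
theorem wd0 (M : M23 D E f) : wdC D (zpowers (ev f x0)) = 7 :=
  have := M.finite
  (congrArg _ (fix0 M)).trans (M.toTM.width w0_ok w0_cq rfl)
theorem fix1 (M : M23 D E f) : D ∩ (centralizer (zpowers (ev f x1) : Set G) : Set G) = sv E v1 := by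
  rw [M.fix_cent (k := 15) (by decide), beq_iff.1 fx1]
theorem wd1 (M : M23 D E f) : wdC D (zpowers (ev f x1)) = 5 :=
  have := M.finite
  (congrArg _ (fix1 M)).trans (M.toTM.width w1_ok w1_cq rfl)
theorem fix2 (M : M23 D E f) : D ∩ (centralizer (zpowers (ev f x2) : Set G) : Set G) = sv E v2 := by
  rw [M.fix_cent (k := 15) (by decide), beq_iff.1 fx2]
theorem wd2 (M : M23 D E f) : wdC D (zpowers (ev f x2)) = 4 :=
  have := M.finite
  (congrArg _ (fix2 M)).trans (M.toTM.width w2_ok w2_cq rfl)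
theorem fix3 (M : M23 D E f) : D ∩ (centralizer (zpowers (ev f x3) : Set G) : Set G) = sv E v3 := by
  rw [M.fix_cent (k := 15) (by decide), beq_iff.1 fx3]
theorem wd3 (M : M23 D E f) : wdC D (zpowers (ev f x3)) = 1 :=
  have := M.finite
  (congrArg _ (fix3 M)).trans (M.toTM.width w3_ok w3_cq rfl)

/-- the representatives -/
noncomputable def xs (f : ℕ → G) : Fin 4 → G := ![ev f x0, ev f x1, ev f x2, ev f x3]

theorem clw (M : M23 D E f) : ClW D 3 (xs f) ![7, 5, 4, 1] where
  conj g _ := M.conj_D g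
  prime := by norm_num
  ord i := by
    fin_cases i
    exacts [M.sm0.ord (by norm_num) or0, M.sm0.ord (by norm_num) or1, M.sm0.ord (by norm_num) or2, M.sm0.ord (by norm_num) or3]
  wd i := by
    fin_cases i
    exacts [wd0 M, wd1 M, wd2 M, wd3 M]
  inj := by decide
  cls := cls_of_conj (reps := [x0, x1, x2, x3]) (by norm_num) (a_all M)

end CF.Fisch.F23.L3
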