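import Cfsg.Agent.Fisch.St.FS
import Cfsg.Agent.Fisch.Std

set_option autoImplicit false
set_option maxRecDepth 1000000
set_option maxHeartbeats 0

namespace CF.Fisch.F23

open CF.Comp CF.Fisch
open scoped Pointwise

noncomputable def S0 : Nat := (nat_lit 0x80000000000000000000000000000000000000000000000000000000000000000000000000000000000000000000000000000000000000000000000000000000000000000000000000000000000000000000000000000000000000000000000000000000000000000000000000000000000000000000000000000000000000000000000000000000000000000000000000000000000000000000000000000000000000000000000000000000000000000000000000000000000000000000000000000000000000000000000000000000000000000000000000000000000000000000000000000000000000000000000000000000000000000000000000000000000000000000000000000000000000000000000000000000000000000000000000000000000000000000000000000000000000000000000000000000000000000000000000000000000000000000000000000000000000000000000000000000000000000000000000000000000000000000000000000000000000000000000000000000000000000000000000000000000000000000000000000000000000000000000000000000000000000000000000000000040023)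
noncomputable def S1 : Nat := (nat_lit 0x100000026)
noncomputable def S2 : Nat := (nat_lit 0x100040402)
noncomputable def S3 : Nat := (nat_lit 0x80000000000000000000000000000000000000000000000000000000000000000000000000000000000000000000000000000000000000000000000000000000000000000000000000000000000000000000000000000000000000000000000000000000000000000000000000000000000000000000000000000000000000000000000000000000000000000000000000000000000000000000000000000000000000000000000000000000000000000000000000000000000000000000000000000000000000000000000000000000000000000000000000000000000000000000000000000000000000000000000000000000000000000000000000000000000000000000000000000000000000000000000000000000000000000000000000000000000000000000000000000000000000000000000000000000000000000000000000000000000000000000000000000000000000000000000000000000000000000000000000000000000000000000000000000000000000000000000000000000000000000000000000000000000000000000000000000000000000000000000000000000000000000000000000000000000008)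
noncomputable def R : Nat := repl (nat_lit 31671) (nat_lit 4)
noncomputable def V : Nat := pack (nat_lit 31671) [S0, S1, S2, S3]

theorem sepI : sepOK 31671 [S0, S1, S2, S3] bs = true := by decide +kernel
theorem eqR : Nat.beq R (repl 31671 (llen [S0, S1, S2, S3])) = true := by decide +kernel
theorem eqV : Nat.beq V (pack 31671 [S0, S1, S2, S3]) = true := by decide +kernel

/-- the test for the equality of words -/
noncomputable def eq (NN : List Net) : Sm := eqM NN R V

variable {G : Type*} [Group G] {D : Set G} {E : Dom (Cj G) 31671} {f : ℕ → G} {NN : List Net}

theorem M23.conj (M : M23 D E f) (g : G) :
    M23 D (Dom.mapE E (MulAut.conj g)) (fun i => MulAut.conj g (f i)) := by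
  have := M.map (MulAut.conj g)
  rwa [M.conj_image] at this

/-- a model with more letters -/
structure X23 (NN : List Net) {G : Type*} [Group G] (D : Set G) (E : Dom (Cj G) 31671) (f : ℕ → G) : Prop
    extends TM D 31671 E NN f w0 Q bs where
  old : ∃ f0, M23 D E f0 ∧ ∀ i < 28, f i = f0 i

theorem M23.x (M : M23 D E f) : X23 N D E f := ⟨M.toTM, f, M, fun _ _ => rfl⟩

theorem M23.more (M : M23 D E f) {N' : List Net} {W : List (List ℕ)}
    (h : Slp (lapp N N') 31671 15 W 28) : X23 (lapp N N') D E (slp f W 28) :=
  ⟨M.extend' (k := 15) (by decide) h, f, M, fun _ hi => slp_lt _ _ hi⟩

theorem X23.more (M : X23 NN D E f) {N' : List Net} {W : List (List ℕ)} {m : ℕ} (hm : NN.length = m)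
    (h28 : 28 ≤ m) (h : Slp (lapp NN N') 31671 15 W m) : X23 (lapp NN N') D E (slp f W m) := by
  subst hm
  obtain ⟨f0, M0, h0⟩ := M.old
  exact ⟨M.extend' (k := 15) (by decide) h, f0, M0, fun i hi =>
    (slp_lt _ _ (by omega)).trans (h0 i hi)⟩

namespace X23

variable (M : X23 NN D E f)
include M

theorem card : Nat.card G = 4089470473293004800 := M.old.elim fun _ h => h.1.card

theorem finite : Finite G := M.old.elim fun _ h => h.1.finite

theorem primTT : PrimTT D := M.old.elim fun _ h => h.1.primTT

theorem sm : IsSm f (eq NN) := M.isSm sepI eqR eqV

theorem conj (g : G) : ∃ E' f', X23 NN D E' f' ∧ ∀ w, ev f' w = g * ev f w * g⁻¹ := by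
  obtain ⟨f0, M0, h0⟩ := M.old
  have := M.toTM.map (MulAut.conj g)
  rw [M.conj_image] at this
  exact ⟨_, _, ⟨this, _, M0.conj g, fun i hi => by rw [h0 i hi]⟩,
    fun w => (map_ev (MulAut.conj g).toMonoidHom f w).symm⟩

end X23

end CF.Fisch.F23
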